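import Mathlib.AlgebraicGeometry.AffineSpace
import Mathlib.AlgebraicGeometry.Morphisms.Immersion
import Mathlib.LinearAlgebra.Dimension.Finrank
import Mathlib.LinearAlgebra.Matrix.ToLin
import Mathlib.LinearAlgebra.Matrix.Determinant.Basic
import Mathlib.RingTheory.MvPolynomial.Homogeneous
import Groth.Prelude.Def_CohB1

/-!
# Kronecker modules `K^a ⊗ K^h → K^b` over any field `K` (any universe): definitions

* `Idx a b h`, `Kr a b h B`: coordinates and `B`-points; `act k g α = k α g`;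
* `evr c α : K[Idx] →+* B` evaluation at a point with coefficients through `c : K →+* B`;
* `IsInv p`: invariance under `SL_b(K) × SL_a(K)`; `sub k g`: the substitution `p ↦ p (k · g)`;
* `IsSS α`: King's condition `b dim V' ≤ a dim (Σ_l α_l V')` for all `V' ≤ K^a`;
* `AS a b h S` the affine space over `S`; `pt t α : T ⟶ AS a b h S` the point with base `t` and coordinates `α`,
  `crd x` the coordinates of a point, `sOf` the structure map `K →+* Γ(T, ⊤)`, `actS`: the action of matrices over `K`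
  on `AS a b h S`, `actT`: the action of a pair of matrices over `Γ(T, ⊤)` on the points;
* `Pack`: the invariant theory; `IsStable`, `IsQuot`: the quotient statement.
-/

set_option autoImplicit false

universe u

open CategoryTheory CategoryTheory.Limits AlgebraicGeometry MvPolynomial

namespace K585.KronK

/-- coordinates of the space of Kronecker modules `K^a ⊗ K^h → K^b` -/
abbrev Idx (a b h : ℕ) : Type := Fin h × Fin b × Fin a

/-- `B`-points of the space of Kronecker modules -/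
abbrev Kr (a b h : ℕ) (B : Type*) := Fin h → Matrix (Fin b) (Fin a) B

/-- coordinate ring -/
abbrev Poly (K : Type u) [Field K] (a b h : ℕ) := MvPolynomial (Idx a b h) K

variable {K : Type u} [Field K] {a b h : ℕ}

/-- the action of pairs of matrices -/
def act {B : Type*} [CommRing B] (k : Matrix (Fin b) (Fin b) B) (g : Matrix (Fin a) (Fin a) B)
    (α : Kr a b h B) : Kr a b h B := fun l => k * α l * g

/-- evaluation at a point -/
noncomputable def evr {B : Type*} [CommRing B] (c : K →+* B) (α : Kr a b h B) : Poly K a b h →+* B :=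
  eval₂Hom c fun p => α p.1 p.2.1 p.2.2

/-- invariance under `SL_b(K) × SL_a(K)` -/
def IsInv (p : Poly K a b h) : Prop :=
  ∀ (k : Matrix (Fin b) (Fin b) K) (g : Matrix (Fin a) (Fin a) K) (α : Kr a b h K), k.det = 1 → g.det = 1 →
    evr (RingHom.id K) (act k g α) p = evr (RingHom.id K) α p

/-- The generic Kronecker module. -/
noncomputable def gen (K : Type u) [Field K] (a b h : ℕ) : Kr a b h (Poly K a b h) := fun l i j => X (l, i, j)

/-- substitution `p ↦ p (k · g)`. -/
noncomputable def sub (k : Matrix (Fin b) (Fin b) K) (g : Matrix (Fin a) (Fin a) K) :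
    Poly K a b h →ₐ[K] Poly K a b h :=
  aeval fun p => act (k.map C) (g.map C) (gen K a b h) p.1 p.2.1 p.2.2

/-- King's condition. -/
def IsSS (α : Kr a b h K) : Prop :=
  ∀ V' : Submodule K (Fin a → K), b * Module.finrank K V' ≤
    a * Module.finrank K (⨆ l, V'.map (α l).mulVecLin : Submodule K (Fin b → K))

section Scheme

/-- The affine space of Kronecker modules over `S`. -/
noncomputable abbrev AS (a b h : ℕ) (S : Scheme.{u}) : Scheme.{u} := 𝔸(ULift.{u} (Idx a b h); S)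

/-- The structure map of `AS a b h S`. -/
noncomputable abbrev prS (a b h : ℕ) (S : Scheme.{u}) : AS a b h S ⟶ S := 𝔸(ULift.{u} (Idx a b h); S) ↘ S

variable {S T : Scheme.{u}}

/-- `K →+* Γ(T, ⊤)` -/
noncomputable def sOf (t : T ⟶ Spec (CommRingCat.of K)) : K →+* Γ(T, ⊤) :=
  (t.appTop.hom).comp (Scheme.ΓSpecIso (CommRingCat.of K)).inv.hom

/-- The point of `AS a b h S` with base `t` and coordinates `α`. -/
noncomputable def pt (t : T ⟶ S) (α : Kr a b h Γ(T, ⊤)) : T ⟶ AS a b h S :=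
  AffineSpace.homOfVector t fun p => α p.down.1 p.down.2.1 p.down.2.2

/-- The coordinates of a point. -/
noncomputable def crd (x : T ⟶ AS a b h S) : Kr a b h Γ(T, ⊤) := fun l i j =>
  x.appTop (AffineSpace.coord S (ULift.up (l, i, j)))

/-- The action of matrices over `K` on `AS a b h S`. -/
noncomputable def actS (sS : S ⟶ Spec (CommRingCat.of K)) (k : Matrix (Fin b) (Fin b) K)
    (g : Matrix (Fin a) (Fin a) K) : AS a b h S ⟶ AS a b h S :=
  pt (prS a b h S) (act (k.map (sOf (prS a b h S ≫ sS))) (g.map (sOf (prS a b h S ≫ sS))) (crd (𝟙 _)))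

/-- The function on `AS a b h S` given by a polynomial. -/
noncomputable def fn (sS : S ⟶ Spec (CommRingCat.of K)) (p : Poly K a b h) : Γ(AS a b h S, ⊤) :=
  evr (sOf (prS a b h S ≫ sS)) (crd (𝟙 _)) p

/-- The locus where one of the `f i` does not vanish. -/
noncomputable def ssOpen (sS : S ⟶ Spec (CommRingCat.of K)) {m : ℕ} (f : Fin (m + 1) → Poly K a b h) :
    (AS a b h S).Opens := ⨆ i, (AS a b h S).basicOpen (fn sS (f i))

end Scheme

/-- The data of invariant theory: generators of a Veronese subring of the ring of invariants, King's criterion and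
the Reynolds operator. -/
structure Pack (a b h m e : ℕ) (f : Fin (m + 1) → Poly K a b h) (ρ : Poly K a b h →ₗ[K] Poly K a b h) : Prop where
  pos : 0 < e
  hom : ∀ i, (f i).IsHomogeneous e
  inv : ∀ i, IsInv (f i)
  king : ∀ α : Kr a b h K, (∃ i, evr (RingHom.id K) α (f i) ≠ 0) ↔ IsSS α
  gen : ∀ (q : ℕ) (p : Poly K a b h), p.IsHomogeneous (q * e) → IsInv p →
    ∃ P : MvPolynomial (Fin (m + 1)) K, P.IsHomogeneous q ∧ aeval f P = p
  ρ_inv : ∀ p, IsInv (ρ p)
  ρ_eq : ∀ p, IsInv p → ρ p = p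
  ρ_mul : ∀ p q, IsInv p → ρ (p * q) = p * ρ q
  ρ_hom : ∀ d p, p.IsHomogeneous d → (ρ p).IsHomogeneous d
  /-- with coefficients in any `Λ`, the operator `Λ ⊗ ρ` preserves the `SL`-stable `K`-subspaces -/
  ρ_stable : ∀ (Λ : Type u) [CommRing Λ] [Algebra K Λ] (J : Submodule K (TensorProduct K Λ (Poly K a b h))),
    (∀ (k : Matrix (Fin b) (Fin b) K) (g : Matrix (Fin a) (Fin a) K), k.det = 1 → g.det = 1 →
      J ≤ J.comap ((sub k g).toLinearMap.lTensor Λ)) → J ≤ J.comap (ρ.lTensor Λ)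

section Quot

variable {S R M : Scheme.{u}}

/-- `γ : R ⟶ R` is the action of some pair `(k, g)` of invertible matrices over `K`. -/
def IsAct (sS : S ⟶ Spec (CommRingCat.of K)) (j : R ⟶ AS a b h S) (γ : R ⟶ R) : Prop :=
  ∃ (k : Matrix (Fin b) (Fin b) K) (g : Matrix (Fin a) (Fin a) K), k.det ≠ 0 ∧ g.det ≠ 0 ∧ γ ≫ j = j ≫ actS sS k g

/-- `R` is stable under `GL_b(K) × GL_a(K)`. -/
def IsStable (sS : S ⟶ Spec (CommRingCat.of K)) (j : R ⟶ AS a b h S) : Prop :=
  ∀ (k : Matrix (Fin b) (Fin b) K) (g : Matrix (Fin a) (Fin a) K), k.det ≠ 0 → g.det ≠ 0 →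
    ∃ γ : R ⟶ R, γ ≫ j = j ≫ actS sS k g

/-- The points `x, y` of `R` over `S` differ by a pair of invertible matrices over `Γ(T, ⊤)`. -/
def Rel (j : R ⟶ AS a b h S) {T : Scheme.{u}} (x y : T ⟶ R) : Prop :=
  x ≫ j ≫ prS a b h S = y ≫ j ≫ prS a b h S ∧
    ∃ (k : Matrix (Fin b) (Fin b) Γ(T, ⊤)) (g : Matrix (Fin a) (Fin a) Γ(T, ⊤)), IsUnit k ∧ IsUnit g ∧
      crd (y ≫ j) = act k g (crd (x ≫ j))

/-- The (good) quotient of `R` by `GL_b × GL_a`. -/
structure IsQuot {m : ℕ} (sS : S ⟶ Spec (CommRingCat.of K)) (j : R ⟶ AS a b h S)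
    (c : M ⟶ CohB1.ProjSpaceOver m S) (π : R ⟶ M) : Prop where
  closed : IsClosedImmersion c
  surj : Surjective π
  comp : π ≫ c ≫ CohB1.ProjSpaceOver.toBase m S = j ≫ prS a b h S
  /-- invariance for points with values in any scheme -/
  rel : ∀ (T : Scheme.{u}) (x y : T ⟶ R), Rel j x y → x ≫ π = y ≫ π
  /-- categorical quotient for the group of `K`-points -/
  cat : ∀ (N : Scheme.{u}) (ψ : R ⟶ N), (∀ γ : R ⟶ R, IsAct sS j γ → γ ≫ ψ = ψ) → ∃! χ : M ⟶ N, π ≫ χ = ψ
  isClosed : ∀ Z : Set R, IsClosed Z → (∀ γ : R ⟶ R, IsAct sS j γ → γ '' Z ⊆ Z) → IsClosed (π '' Z)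
  disj : ∀ Z Z' : Set R, IsClosed Z → IsClosed Z' → Disjoint Z Z' →
    (∀ γ : R ⟶ R, IsAct sS j γ → γ '' Z ⊆ Z) → (∀ γ : R ⟶ R, IsAct sS j γ → γ '' Z' ⊆ Z') → Disjoint (π '' Z) (π '' Z')
  affine : IsAffineHom π
  /-- the functions on `M` are the invariant functions, with a Reynolds operator -/
  reynolds : ∀ V : M.Opens, IsAffineOpen V → ∃ r : Γ(R, π ⁻¹ᵁ V) →+ Γ(M, V), r 1 = 1 ∧
    (∀ x y, r (π.app V x * y) = x * r y) ∧
    (∀ y, (∀ γ : R ⟶ R, IsAct sS j γ → ∀ h : π ⁻¹ᵁ V ≤ γ ⁻¹ᵁ (π ⁻¹ᵁ V),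
      γ.appLE (π ⁻¹ᵁ V) (π ⁻¹ᵁ V) h y = y) → π.app V (r y) = y)

end Quot

end K585.KronK
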