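import Groth.Agent.FGA.K277.GenTw
import Groth.Agent.Fga.SubobjSec
import Groth.Agent.PerfC.ClosedPush

/-!
# Morphisms from sums of twisting sheaves given by twisted sections

* `exists_hom_of_gen`, `hom_ext_of_gen`: morphisms from a module with local generators;
* `exists_hom`: `N` twisted sections of degree `N` give morphisms from a module with a frame of degree `-N`;
* `Ort D` : orthogonality of a decomposition, `exists_hom_sum`;
* `frs T D` : the generating system (degree `N`) of `L^a`, `L` with a frame of degree `-N`.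
-/

set_option autoImplicit false

universe u v

open CategoryTheory CategoryTheory.Limits AlgebraicGeometry TopologicalSpace

namespace K585.HomTw

open Groth.Agent Groth.Agent.Fdesc.LocGen Fga.QTDefs Fga.QT8 K277.Frames K277.GenTw

section Gen

variable {Y : Scheme.{u}} {L E : Y.Modules} {ι : Type*} {V : ι → Y.Opens} (t : ∀ i, Γ(L, V i)) (v : ∀ i, Γ(E, V i))

/-- `m` corresponds to `s` under `t i ↦ v i`. -/
def IsVal (U : Y.Opens) (s : Γ(L, U)) (m : Γ(E, U)) : Prop :=
  ∀ (i : ι) (r : Γ(Y, U ⊓ V i)), res L inf_le_left s = r • res L inf_le_right (t i) →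
    res E inf_le_left m = r • res E inf_le_right (v i)

variable {t v} (hV : ⨆ i, V i = ⊤) (ht : ∀ i, IsGen (t i))
  (h : ∀ (i k : ι) (r : Γ(Y, V i ⊓ V k)), res L inf_le_left (t i) = r • res L inf_le_right (t k) →
    res E inf_le_left (v i) = r • res E inf_le_right (v k))

include hV in
lemma le_iSup_inf (U : Y.Opens) : U ≤ ⨆ i, U ⊓ V i := by
  rw [← inf_iSup_eq, hV, inf_top_eq]

include hV ht in
lemma isVal_unique {U : Y.Opens} {s : Γ(L, U)} {m m' : Γ(E, U)} (h1 : IsVal t v U s m) (h2 : IsVal t v U s m') :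
    m = m' := by
  refine res_ext E (fun i => U ⊓ V i) (fun i => inf_le_left) (le_iSup_inf hV U) fun i => ?_
  obtain ⟨r, hr⟩ := ((ht i).res (inf_le_right : U ⊓ V i ≤ V i)).exists_eq (res L inf_le_left s)
  rw [h1 i r hr, h2 i r hr]

include ht h in
/-- transition relation on smaller open sets -/
lemma trans_rel {U : Y.Opens} {i k : ι} (hi : U ≤ V i) (hk : U ≤ V k) {r r' : Γ(Y, U)}
    (hr : r • res L hi (t i) = r' • res L hk (t k)) : r • res E hi (v i) = r' • res E hk (v k) := by
  obtain ⟨c, hc⟩ := ((ht k).res (inf_le_right : V i ⊓ V k ≤ V k)).exists_eq (res L (inf_le_left : V i ⊓ V k ≤ V i) (t i))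
  have h1 := h i k c hc
  have hU : U ≤ V i ⊓ V k := le_inf hi hk
  have h2 := congrArg (res L hU) hc
  have h3 := congrArg (res E hU) h1
  rw [res_smul, res_res, res_res] at h2 h3
  rw [h2, smul_smul] at hr
  rw [h3, smul_smul, ((ht k).res hk).ext hr]

include hV ht h in
lemma exists_isVal (U : Y.Opens) (s : Γ(L, U)) : ∃ m, IsVal t v U s m := by
  choose r hr using fun i => ((ht i).res (inf_le_right : U ⊓ V i ≤ V i)).exists_eq (res L inf_le_left s)
  obtain ⟨m, hm⟩ := res_glue E (V := U) (fun i => U ⊓ V i) (fun i => inf_le_left) (le_iSup_inf hV U)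
    (fun i => r i • res E inf_le_right (v i)) (by
      intro i j
      have h1 := congrArg (res L (inf_le_left : (U ⊓ V i) ⊓ (U ⊓ V j) ≤ U ⊓ V i)) (hr i)
      have h2 := congrArg (res L (inf_le_right : (U ⊓ V i) ⊓ (U ⊓ V j) ≤ U ⊓ V j)) (hr j)
      rw [res_smul, res_res, res_res] at h1 h2
      rw [res_smul, res_res, res_smul, res_res]
      exact trans_rel ht h _ _ (h1.symm.trans h2))
  refine ⟨m, fun i r' hr' => ?_⟩
  rw [hm i, ((ht i).res inf_le_right).ext ((hr i).symm.trans hr')]

include hV ht h in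
/-- **Morphisms given on local generators.** -/
theorem exists_hom_of_gen : ∃ φ : L ⟶ E, ∀ i, φ.app (V i) (t i) = v i := by
  classical
  choose f hf using fun U : Y.Opens => exists_isVal hV ht h U
  have huniq := fun {U : Y.Opens} {s : Γ(L, U)} {m : Γ(E, U)} (h1 : IsVal t v U s m) =>
    isVal_unique hV ht (hf U s) h1
  let F : ∀ U : Y.Opens, Γ(L, U) →+ Γ(E, U) := fun U => AddMonoidHom.mk' (f U) fun s s' => by
    refine huniq fun i r hr => ?_
    obtain ⟨c, hc⟩ := ((ht i).res (inf_le_right : U ⊓ V i ≤ V i)).exists_eq (res L inf_le_left s)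
    obtain ⟨c', hc'⟩ := ((ht i).res (inf_le_right : U ⊓ V i ≤ V i)).exists_eq (res L inf_le_left s')
    rw [map_add, hf U s i c hc, hf U s' i c' hc', ← add_smul]
    congr 1
    refine ((ht i).res (inf_le_right : U ⊓ V i ≤ V i)).ext ?_
    rw [add_smul, ← hc, ← hc', ← map_add, hr]
  refine ⟨mkHom F (fun U a m => huniq fun i r hr => ?_) (fun U U' hU m => huniq fun i r hr => ?_), fun i => ?_⟩
  · obtain ⟨c, hc⟩ := ((ht i).res (inf_le_right : U ⊓ V i ≤ V i)).exists_eq (res L inf_le_left m)
    change res E inf_le_left (a • f U m) = _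
    rw [res_smul, hf U m i c hc, smul_smul]
    congr 1
    refine ((ht i).res (inf_le_right : U ⊓ V i ≤ V i)).ext ?_
    rw [mul_smul, ← hc, ← res_smul, hr]
  · obtain ⟨c, hc⟩ := ((ht i).res (inf_le_right : U ⊓ V i ≤ V i)).exists_eq (res L inf_le_left m)
    have hle : U' ⊓ V i ≤ U ⊓ V i := inf_le_inf_right _ hU
    have h1 := congrArg (res E hle) (hf U m i c hc)
    have h2 := congrArg (res L hle) hc
    rw [res_smul, res_res, res_res] at h1 h2
    change res E inf_le_left (res E hU (f U m)) = _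
    rw [res_res, h1]
    congr 1
    refine ((ht i).res (inf_le_right : U' ⊓ V i ≤ V i)).ext ?_
    rw [← h2, ← hr, res_res]
  · change f (V i) (t i) = v i
    refine huniq fun k r hr => ?_
    exact h i k r hr

include hV ht in
/-- morphisms are determined on local generators -/
theorem hom_ext_of_gen {φ ψ : L ⟶ E} (h1 : ∀ i, φ.app (V i) (t i) = ψ.app (V i) (t i)) : φ = ψ := by
  refine Scheme.Modules.hom_ext _ _ ?_
  intro U
  ext s
  refine res_ext E (fun i => U ⊓ V i) (fun i => inf_le_left) (le_iSup_inf hV U) fun i => ?_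
  obtain ⟨r, hr⟩ := ((ht i).res (inf_le_right : U ⊓ V i ≤ V i)).exists_eq (res L inf_le_left s)
  rw [← app_res, ← app_res, hr, Scheme.Modules.Hom.app_smul, Scheme.Modules.Hom.app_smul, app_res, app_res, h1]

end Gen

section Tw

variable {n : ℕ} {Y : Scheme.{u}} {g : Y ⟶ PZ n} {L E S : Y.Modules} {N a : ℕ} (T : TwFr g L (-(N : ℤ)))

lemma glue_neg (i k : Fin (n + 1)) :
    resM L (inf_le_left : V g i ⊓ V g k ≤ V g i) (T.t i) =
      (resR (inf_le_left : V g i ⊓ V g k ≤ V g i) (y g i k)) ^ N •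
        resM L (inf_le_right : V g i ⊓ V g k ≤ V g k) (T.t k) := by
  have h := T.glue i k
  have h1 : (-(N : ℤ)).toNat = 0 := by omega
  have h2 : (-(-(N : ℤ))).toNat = N := by omega
  rw [h1, h2, pow_zero, one_smul] at h
  exact h

/-- A twisted section of degree `N` gives a morphism `O(-N) ⟶ E`. -/
theorem exists_hom (v : ∀ i, Γ(E, V g i))
    (hv : ∀ i k : Fin (n + 1), resM E (inf_le_left : V g i ⊓ V g k ≤ V g i) (v i) =
      (resR (inf_le_left : V g i ⊓ V g k ≤ V g i) (y g i k)) ^ N •
        resM E (inf_le_right : V g i ⊓ V g k ≤ V g k) (v k)) :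
    ∃ φ : L ⟶ E, ∀ i, φ.app (V g i) (T.t i) = v i := by
  refine exists_hom_of_gen (t := T.t) (v := v) (Fga.QT4.iSup_V g) T.gen fun i k r hr => ?_
  have h1 : r = (resR (inf_le_left : V g i ⊓ V g k ≤ V g i) (y g i k)) ^ N := by
    refine ((T.gen k).res (inf_le_right : V g i ⊓ V g k ≤ V g k)).ext ?_
    rw [← hr]
    exact glue_neg T i k
  rw [h1]
  exact hv i k

variable (D : SumDec a L S)

/-- orthogonality of a decomposition -/
def Ort {C : Type*} [Category C] [Preadditive C] {p : ℕ} {N S : C} (D : SumDec p N S) : Prop :=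
  ∀ i j, D.ι i ≫ D.π j = if i = j then 𝟙 N else 0

lemma ort_sigma {C : Type*} [Category C] [Preadditive C] (p : ℕ) (N : C)
    [HasCoproduct fun _ : Fin p => N] : Ort (SumDec.sigma p N) := fun i j => by
  simp [SumDec.sigma]

lemma Ort.map {C D : Type*} [Category C] [Preadditive C] [Category D] [Preadditive D] {p : ℕ} {N S : C}
    {s : SumDec p N S} (h : Ort s) (F : C ⥤ D) [F.Additive] : Ort (s.map F) := fun i j => by
  change F.map _ ≫ F.map _ = _
  rw [← F.map_comp, h i j]
  split_ifs
  · exact F.map_id _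
  · exact F.map_zero _ _

/-- The generating system of `L^a`. -/
noncomputable def frs : GenSys g S (Fin a) N where
  e i j := (D.ι j).app _ (T.t i)
  glue i k j := by
    have h2 := congrArg ((D.ι j).app (V g i ⊓ V g k)) (glue_neg T i k)
    rw [app_resM, Scheme.Modules.Hom.app_smul, app_resM] at h2
    exact h2

lemma frs_e (i : Fin (n + 1)) (j : Fin a) : (frs T D).e i j = (D.ι j).app _ (T.t i) := rfl

theorem frs_gen : (frs T D).Gen := by
  intro i
  rw [eq_top_iff]
  intro z _
  have h1 : z = ∑ j, (D.ι j).app (V g i) ((D.π j).app (V g i) z) := by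
    have h2 : (∑ j, D.π j ≫ D.ι j).app (V g i) z = z := by rw [D.tot]; rfl
    rw [app_sum] at h2
    exact h2.symm
  rw [h1]
  refine Submodule.sum_mem _ fun j _ => ?_
  obtain ⟨c, hc⟩ := (T.gen i).exists_eq ((D.π j).app (V g i) z)
  rw [hc, Scheme.Modules.Hom.app_smul]
  exact Submodule.smul_mem _ c (Submodule.subset_span ⟨j, rfl⟩)

variable {D}

/-- the relations between the generators are trivial -/
lemma sg_frs_eq_zero_iff (hD : Ort D) {A : Type u} [CommRing A] (q : Y ⟶ Spec (CommRingCat.of A)) (i : Fin (n + 1))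
    (w : Fga.QA0.W (Fin (n + 1)) (Fin a) A) : sg g q (frs T D) i w = 0 ↔ ∀ j, ev g q i (w j) = 0 := by
  rw [sg_apply]
  constructor
  · intro h j
    have h1 := congrArg ((D.π j).app (V g i)) h
    rw [map_sum, map_zero, Finset.sum_eq_single j] at h1
    · rw [Scheme.Modules.Hom.app_smul, frs_e] at h1
      have h2 : (D.π j).app (V g i) ((D.ι j).app (V g i) (T.t i)) = T.t i := by
        have := hD j j
        rw [if_pos rfl] at this
        exact congr(($this).app (V g i) (T.t i))
      rw [h2] at h1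
      exact (T.gen i).ext (h1.trans (zero_smul _ _).symm)
    · intro k _ hk
      rw [Scheme.Modules.Hom.app_smul, frs_e]
      have h2 : (D.π j).app (V g i) ((D.ι k).app (V g i) (T.t i)) = 0 := by
        have := hD k j
        rw [if_neg hk] at this
        exact congr(($this).app (V g i) (T.t i))
      rw [h2, smul_zero]
    · intro h; exact absurd (Finset.mem_univ _) h
  · intro h
    exact Finset.sum_eq_zero fun j _ => by rw [h, zero_smul]

/-- `a` twisted sections of degree `N` give a morphism `O(-N)^a ⟶ E`. -/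
theorem exists_hom_sum (hD : Ort D) (E' : GenSys g E (Fin a) N) :
    ∃ φ : S ⟶ E, mapSys (frs T D) φ = E' := by
  choose ψ hψ using fun j => exists_hom T (fun i => E'.e i j) (fun i k => E'.glue i k j)
  refine ⟨∑ j, D.π j ≫ ψ j, Fga.QT6d.genSys_ext fun i j => ?_⟩
  change (∑ j, D.π j ≫ ψ j).app (V g i) ((D.ι j).app _ (T.t i)) = _
  rw [app_sum, Finset.sum_eq_single j]
  · have := hD j j
    rw [if_pos rfl] at this
    have h2 : (D.π j).app (V g i) ((D.ι j).app (V g i) (T.t i)) = T.t i := congr(($this).app (V g i) (T.t i))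
    change (ψ j).app _ ((D.π j).app (V g i) ((D.ι j).app (V g i) (T.t i))) = _
    rw [h2, hψ]
  · intro k _ hk
    have := hD j k
    rw [if_neg (Ne.symm hk)] at this
    have h2 : (D.π k).app (V g i) ((D.ι j).app (V g i) (T.t i)) = 0 := congr(($this).app (V g i) (T.t i))
    change (ψ k).app _ ((D.π k).app (V g i) ((D.ι j).app (V g i) (T.t i))) = _
    rw [h2, map_zero]
  · intro h; exact absurd (Finset.mem_univ _) h

/-- uniqueness -/
theorem hom_ext_sum {φ ψ : S ⟶ E} (h : mapSys (frs T D) φ = mapSys (frs T D) ψ) : φ = ψ := by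
  have h1 : ∀ j, D.ι j ≫ φ = D.ι j ≫ ψ := fun j =>
    hom_ext_of_gen (t := T.t) (Fga.QT4.iSup_V g) T.gen fun i => by
      have := congrArg (fun s : GenSys g E (Fin a) N => s.e i j) h
      exact this
  rw [← Category.id_comp φ, ← Category.id_comp ψ, ← D.tot, Preadditive.sum_comp, Preadditive.sum_comp]
  exact Finset.sum_congr rfl fun j _ => by rw [Category.assoc, Category.assoc, h1]

/-- surjective on the charts implies epi -/
theorem epi_of_gen {M M' : Y.Modules} {ι : Type*} {V : ι → Y.Opens} (hV : ⨆ i, V i = ⊤) (φ : M ⟶ M')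
    (hM' : Coh.IsQCoh M') (haff : ∀ i, IsAffineOpen (V i)) (h : ∀ i, Function.Surjective (φ.app (V i))) : Epi φ := by
  refine PerfC.ClosedPush.epi_of_locally_surjective φ fun U s x hx => ?_
  obtain ⟨i, hxi⟩ : ∃ i, x ∈ V i := by
    have : x ∈ (⨆ i, V i : Y.Opens) := by rw [hV]; trivial
    exact Opens.mem_iSup.1 this
  obtain ⟨f, hf, hxf⟩ := (haff i).exists_basicOpen_le (V := U) ⟨x, hx⟩ hxi
  obtain ⟨N, s', hs'⟩ := Fdesc.QCohStalk.exists_map_eq_pow_smul M' (haff i) hM' f (res M' hf s)
  obtain ⟨r, hr⟩ := h i s'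
  have hu : IsUnit (ores (Y.basicOpen_le f) f) := Y.toRingedSpace.isUnit_res_basicOpen f
  obtain ⟨c, hc⟩ := hu.exists_left_inv
  refine ⟨Y.basicOpen f, hf, c ^ N • res M (Y.basicOpen_le f) r, hxf, ?_⟩
  have h1 : res M' (Y.basicOpen_le f) s' = (ores (Y.basicOpen_le f) f) ^ N • res M' hf s := hs'
  rw [Scheme.Modules.Hom.app_smul, app_res, hr, h1, smul_smul, ← mul_pow, hc, one_pow, one_smul]
  rfl

end Tw

end K585.HomTw
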