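import Groth.Agent.Coherent.K585.RepR
import Groth.Agent.Coherent.K585.HomTw
import Groth.Agent.FGA.K277.PartMain
import Groth.Agent.CycB.CohProp

/-!
# The Quot scheme of `O(-N)^a` as a family of graded submodules

* `qd` : the representing object of the part of a Quot functor gives a `QD`;
* `qact` : for `F = O(-N)^a` the group acts (`RepR.QAct`);
* `LN`, `FN`, `T0`, `D0`, `E0` : `O(-N)`, `O(-N)^a`, its frame, its decomposition and its global generating system.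
-/

set_option autoImplicit false

universe u v

open CategoryTheory CategoryTheory.Limits AlgebraicGeometry Opposite MvPolynomial

namespace K585.QDQuot

open Groth.Agent Groth.Agent.Fga Groth.Agent.Picfga.OverRep NoethRep QA0 QA1 HilbAsm1 QT9Part QTDefs QTPull QT4 QT4b
  QT6a QT6c QT6d QT8 QG5 K277.GlobRep K277.GenTw K277.Frames K585.HomTw K585.ClosedR K585.Alev

section O

variable {n : ℕ} {X S : Scheme.{u}} (f : X ⟶ S) (g₀ : X ⟶ PZ n) (N a : ℕ)

/-- `O(-N)` -/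
noncomputable abbrev LN : X.Modules :=
  (Scheme.Modules.pullback g₀).obj (Twist.twistProjSpace n (ULift.{u} ℤ) (-(N : ℤ)))

/-- `O(-N)^a` -/
noncomputable abbrev FN : X.Modules := ∐ fun _ : Fin a => LN g₀ N

noncomputable abbrev T0 : TwFr g₀ (LN g₀ N) (-(N : ℤ)) := TwFr.of g₀ _

noncomputable abbrev D0 : SumDec a (LN g₀ N) (FN g₀ N a) := SumDec.sigma a _

/-- The generating system on `X`. -/
noncomputable abbrev EX : GenSys g₀ (FN g₀ N a) (Fin a) N := frs (T0 g₀ N) (D0 g₀ N a)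

/-- The global generating system of `O(-N)^a`. -/
noncomputable abbrev E0 : GenSys (gT f g₀ (Over.mk (𝟙 S))) (FGA.ET f (FN g₀ N a) (Over.mk (𝟙 S))) (Fin a) N :=
  pullX f g₀ (EX g₀ N a) _

lemma Es_E0 {B : Type u} [CommRing B] (s : Spec (CommRingCat.of B) ⟶ S) :
    Es f g₀ (E0 f g₀ N a) s = pullX f g₀ (EX g₀ N a) (Over.mk s) :=
  pullT_pullX f g₀ _ (hs s)

/-- the frame of the pull back -/
noncomputable abbrev TT (U : Over S) : TwFr (gT f g₀ U) (FGA.ET f (LN g₀ N) U) (-(N : ℤ)) :=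
  (T0 g₀ N).pull (g' := gT f g₀ U) (h := pullback.fst f U.hom) rfl

/-- the decomposition of the pull back -/
noncomputable abbrev DD (U : Over S) : SumDec a (FGA.ET f (LN g₀ N) U) (FGA.ET f (FN g₀ N a) U) :=
  (D0 g₀ N a).map (Scheme.Modules.pullback (pullback.fst f U.hom))

lemma ort_DD (U : Over S) : Ort (DD f g₀ N a U) := (ort_sigma a _).map _

lemma pullX_EX (U : Over S) : pullX f g₀ (EX g₀ N a) U = frs (TT f g₀ N U) (DD f g₀ N a U) := by
  refine QT6d.genSys_ext fun i j => ?_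
  exact (QTPull.pbSec_naturality _ _ _ _ _ _).symm

lemma isInvertible_LN : PicF.IsInvertible (LN g₀ N) :=
  Fdesc.LocGen.isInvertible_pullback _ (FormalB.TwistGen.isInvertible_twistProjSpace n (ULift.{u} ℤ) _)

end O

variable {n a N : ℕ} {X S : Scheme.{u}} {f : X ⟶ S} {g₀ : X ⟶ PZ n} {F : X.Modules}
  {E : GenSys (gT f g₀ (Over.mk (𝟙 S))) (FGA.ET f F (Over.mk (𝟙 S))) (Fin a) N} [IsClosedImmersion (toPS g₀ f)]

lemma homMk_comp {H : Over S} {T T' : Scheme.{u}} (u : T' ⟶ T) (v : T ⟶ H.left) :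
    (Over.homMk u (by simp) : Over.mk ((u ≫ v) ≫ H.hom) ⟶ Over.mk (v ≫ H.hom)) ≫
      (Over.homMk v rfl : Over.mk (v ≫ H.hom) ⟶ H) = Over.homMk (u ≫ v) rfl := by
  apply Over.OverMorphism.ext
  rfl

omit [IsClosedImmersion (toPS g₀ f)] in
lemma gr_homMk {H : Over S} (K : Subobject (FGA.ET f F H)) {B : Type u} [CommRing B]
    (v : Spec (CommRingCat.of B) ⟶ H.left) {s : Spec (CommRingCat.of B) ⟶ S} (hs : v ≫ H.hom = s) :
    gr (t := v ≫ H.hom) (Es f g₀ E (v ≫ H.hom)) (FGA.quotPull f F (Over.homMk v rfl : Over.mk (v ≫ H.hom) ⟶ H) K) =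
      gr (t := s) (Es f g₀ E s) (FGA.quotPull f F (Over.homMk v hs : Over.mk s ⟶ H) K) := by
  subst hs
  rfl

/-- the family on the representing object -/
abbrev QFam (f : X ⟶ S) (g₀ : X ⟶ PZ n) (F : X.Modules) (Φ : ℤ → ℤ) (H : Over S) : Type (u + 1) :=
  {x : FGA.QuotSet f F H // Fib (G := QuotFun.quot f F) (QQ f g₀ F Φ) H x}

/-- `H` with the family `ξ` represents the quotients with Hilbert function `Φ`. -/
abbrev IsNR (f : X ⟶ S) (g₀ : X ⟶ PZ n) (F : X.Modules) (Φ : ℤ → ℤ) (H : Over S) (ξ : QFam f g₀ F Φ H) : Prop :=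
  NRep (part (QuotFun.quot f F) (Fib (QQ f g₀ F Φ)) Fib.pull) H ξ

omit [IsClosedImmersion (toPS g₀ f)] in
/-- the pulled back family -/
lemma quot_map_eq {T T' : Over S} (h : T' ⟶ T) (x : FGA.QuotSet f F T) :
    (show FGA.QuotSet f F T' from (QuotFun.quot f F).map h.op x).1 = FGA.quotPull f F h x.1 := rfl

omit [IsClosedImmersion (toPS g₀ f)] in
lemma exists_pt {Φ : ℤ → ℤ} {H : Over S} {ξ : QFam f g₀ F Φ H} (h1 : IsNR f g₀ F Φ H ξ) (T : Over S)
    [IsLocallyNoetherian T.left] (x : FGA.QuotSet f F T) (hx : Fib (G := QuotFun.quot f F) (QQ f g₀ F Φ) T x) :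
    ∃! k : T ⟶ H, FGA.quotPull f F k ξ.1.1 = x.1 := by
  obtain ⟨k, hk, hk'⟩ := K277.PartMain.nrep_part (hP := Fib.pull) h1 T x hx
  exact ⟨k, congrArg Subtype.val hk, fun k' hk'' => hk' k' (Subtype.ext hk'')⟩

/-- **The family of graded submodules on the Quot scheme.** -/
noncomputable def qd (hF : Coh.IsCoh F) (hE : GlobGen f g₀ E) {Φ : ℤ → ℤ} {H : Over S} {ξ : QFam f g₀ F Φ H}
    (h1 : IsNR f g₀ F Φ H ξ) : QD n a (fun d => Φ (d + N)) H where
  L B _ v := gr (t := v ≫ H.hom) (Es f g₀ E (v ≫ H.hom))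
    (FGA.quotPull f F (Over.homMk v rfl : Over.mk (v ≫ H.hom) ⟶ H) ξ.1.1)
  nat B C _ _ φ v := by
    have h2 := (dictG hF hE).nat B C φ (v ≫ H.hom) ((Spec.map φ ≫ v) ≫ H.hom)
      (Over.homMk (Spec.map φ) (by simp)) rfl ((QuotFun.quot f F).map (Over.homMk v rfl : Over.mk (v ≫ H.hom) ⟶ H).op ξ.1)
    rw [← ConcreteCategory.comp_apply, ← Functor.map_comp, ← op_comp, homMk_comp] at h2
    exact h2
  quot B _ v := (dictG hF hE).isQuotPt B (v ≫ H.hom)
    ((QuotFun.quot f F).map (Over.homMk v rfl : Over.mk (v ≫ H.hom) ⟶ H).op ξ.1)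
  hp B _ v := (Dict.fib_iff (compat hF hE Φ) (v ≫ H.hom)
    ((QuotFun.quot f F).map (Over.homMk v rfl : Over.mk (v ≫ H.hom) ⟶ H).op ξ.1)).1 (Fib.pull _ _ ξ.2)
  inj B _ v v' h h2 := by
    have : IsLocallyNoetherian (Over.mk (v ≫ H.hom)).left := isLocallyNoetherian_Spec.2 ‹_›
    have h3 : (QuotFun.quot f F).map (Over.homMk v rfl : Over.mk (v ≫ H.hom) ⟶ H).op ξ.1 =
        (QuotFun.quot f F).map (Over.homMk v' h.symm : Over.mk (v ≫ H.hom) ⟶ H).op ξ.1 := by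
      refine (dictG hF hE).inj B (v ≫ H.hom) ?_
      refine Eq.trans ?_ (h2.trans ?_)
      · rfl
      · exact gr_homMk _ _ h.symm
    have h4 := (K277.PartMain.nrep_part (hP := Fib.pull) h1 (Over.mk (v ≫ H.hom))
      ((QuotFun.quot f F).map (Over.homMk v rfl : Over.mk (v ≫ H.hom) ⟶ H).op ξ.1) (Fib.pull _ _ ξ.2)).unique rfl h3.symm
    exact congrArg (fun k : Over.mk (v ≫ H.hom) ⟶ H => k.left) h4

lemma qd_L (hF : Coh.IsCoh F) (hE : GlobGen f g₀ E) {Φ : ℤ → ℤ} {H : Over S} {ξ : QFam f g₀ F Φ H}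
    (h1 : IsNR f g₀ F Φ H ξ) (B : CommRingCat.{u}) [IsNoetherianRing B] (v : Spec B ⟶ H.left) (s : Spec B ⟶ S)
    (hs : v ≫ H.hom = s) : (qd hF hE h1).L B v =
      gr (t := s) (Es f g₀ E s) (FGA.quotPull f F (Over.homMk v hs : Over.mk s ⟶ H) ξ.1.1) :=
  gr_homMk _ _ hs

section Act

/-- the condition that the relations between the generators are stable under matrices -/
def RelStable (E : GenSys (gT f g₀ (Over.mk (𝟙 S))) (FGA.ET f F (Over.mk (𝟙 S))) (Fin a) N) : Prop :=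
  ∀ (B : Type u) [CommRing B] (s : Spec (CommRingCat.of B) ⟶ S) (g : Matrix (Fin a) (Fin a) B),
    gr (t := s) (Es f g₀ E s) ⊥ ≤ (gr (t := s) (Es f g₀ E s) ⊥).comap (gW g)

/-- the point of the Quot scheme transformed by a matrix with values in the base -/
theorem exists_act (hF : Coh.IsCoh F) (hE : GlobGen f g₀ E) (hst : RelStable (f := f) (g₀ := g₀) E) {Φ : ℤ → ℤ}
    {H : Over S} {ξ : QFam f g₀ F Φ H} (h1 : IsNR f g₀ F Φ H ξ) {B : CommRingCat.{u}} [IsNoetherianRing B]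
    (v : Spec B ⟶ H.left) {g g' : Matrix (Fin a) (Fin a) B} (h3 : g * g' = 1) (h4 : g' * g = 1) :
    ∃ v' : Spec B ⟶ H.left, v' ≫ H.hom = v ≫ H.hom ∧
      (qd hF hE h1).L B v' = ((qd hF hE h1).L B v).comap (gW g) := by
  have hN : IsLocallyNoetherian (Over.mk (v ≫ H.hom)).left := isLocallyNoetherian_Spec.2 ‹_›
  obtain ⟨x, hx⟩ := (dictG hF hE).surj B (v ≫ H.hom) (((qd hF hE h1).L B v).comap (gW g))
    (isQuotPt_comap h3 h4 _ ((qd hF hE h1).quot B v)) (by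
      refine (hst B (v ≫ H.hom) g).trans (Submodule.comap_mono ?_)
      exact (dictG hF hE).le B (v ≫ H.hom)
        ((QuotFun.quot f F).map (Over.homMk v rfl : Over.mk (v ≫ H.hom) ⟶ H).op ξ.1))
  have hx' : Fib (QQ f g₀ F Φ) (Over.mk (v ≫ H.hom)) x := by
    rw [Dict.fib_iff (compat hF hE Φ) (v ≫ H.hom) x, hx]
    exact hp_comap h3 h4 _ ((qd hF hE h1).hp B v)
  obtain ⟨k, hk, -⟩ := K277.PartMain.nrep_part (hP := Fib.pull) h1 (Over.mk (v ≫ H.hom)) x hx'
  have hw : k.left ≫ H.hom = v ≫ H.hom := Over.w k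
  refine ⟨k.left, hw, Eq.trans ?_ hx⟩
  refine (qd_L hF hE h1 B k.left _ hw).trans ?_
  change _ = gr (t := v ≫ H.hom) (Es f g₀ E (v ≫ H.hom))
    (show FGA.QuotSet f F (Over.mk (v ≫ H.hom)) from x).1
  rw [← hk]
  rfl

/-- **The group acts on the Quot scheme.** -/
theorem qact (hF : Coh.IsCoh F) (hE : GlobGen f g₀ E) (hst : RelStable (f := f) (g₀ := g₀) E) {Φ : ℤ → ℤ} {H : Over S}
    {ξ : QFam f g₀ F Φ H} (h1 : IsNR f g₀ F Φ H ξ) {K : Type u} [Field K]
    (sS : S ⟶ Spec (CommRingCat.of K)) : RepR.QAct sS (qd hF hE h1) := by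
  intro B _ v g hg
  obtain ⟨g', hgg', hg'g⟩ : ∃ g' : Matrix (Fin a) (Fin a) K, g * g' = 1 ∧ g' * g = 1 :=
    ⟨g⁻¹, Matrix.mul_nonsing_inv g (IsUnit.mk0 _ hg), Matrix.nonsing_inv_mul g (IsUnit.mk0 _ hg)⟩
  let c := Coords.sB (v ≫ H.hom ≫ sS)
  have h3 : g.map c * g'.map c = 1 := by rw [← Matrix.map_mul, hgg', Matrix.map_one _ (map_zero c) (map_one c)]
  have h4 : g'.map c * g.map c = 1 := by rw [← Matrix.map_mul, hg'g, Matrix.map_one _ (map_zero c) (map_one c)]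
  exact exists_act hF hE hst h1 v h3 h4

end Act

section O

variable (f g₀ N a)

omit [IsClosedImmersion (toPS g₀ f)] in
lemma relStable_E0 : RelStable (f := f) (g₀ := g₀) (E0 f g₀ N a) := by
  intro B _ s g
  rw [Es_E0, pullX_EX]
  have key : ∀ w : W (Fin (n + 1)) (Fin a) B, w ∈ gr (t := s) (frs (TT f g₀ N (Over.mk s)) (DD f g₀ N a (Over.mk s))) ⊥ ↔
      ∀ d i j, ev (gT f g₀ (Over.mk s)) (prB f s) i (comp d w j) = 0 := by
    intro w
    rw [mem_grSub]
    refine forall_congr' fun d => forall_congr' fun i => ?_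
    rw [mem_secSub_bot]
    exact sg_frs_eq_zero_iff _ (ort_DD f g₀ N a (Over.mk s)) (prB f s) i (comp d w)
  intro w hw
  rw [Submodule.mem_comap]
  rw [key] at hw ⊢
  intro d i j
  rw [comp_gW, gW_apply, map_sum]
  refine Finset.sum_eq_zero fun k _ => ?_
  rw [map_mul, hw, mul_zero]

omit [IsClosedImmersion (toPS g₀ f)] in
lemma globGen_E0 : GlobGen f g₀ (E0 f g₀ N a) := by
  intro B _ _ s
  rw [Es_E0, pullX_EX]
  exact frs_gen _ _

lemma isCoh_of_isInvertible {M : X.Modules} (h : PicF.IsInvertible M) : Coh.IsCoh M := by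
  refine ⟨Groth.Agent.Ega2.QCohLocal.isQCoh_of_isInvertible h, ?_⟩
  refine (Groth.Agent.CohqB.LocalQC.isFT_iff M).2 fun x => ?_
  obtain ⟨U, hx, ⟨e⟩⟩ := h x
  let G : (SheafOfModules.free (R := (U : Scheme.{u}).ringCatSheaf) (ULift.{u} (Fin 1))).GeneratingSections :=
    { I := ULift.{u} (Fin 1)
      s := SheafOfModules.freeHomEquiv _ (𝟙 _)
      epi := by rw [Equiv.symm_apply_apply]; infer_instance }
  let f : (show (U : Scheme.{u}).Modules from SheafOfModules.free (R := (U : Scheme.{u}).ringCatSheaf)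
      (ULift.{u} (Fin 1))) ≅ M.restrict U.ι :=
    (Groth.Agent.Ega2.QCohLocal.freeModIso (U : Scheme.{u}) 1).symm ≪≫
      (Groth.Agent.Ega2.QCohLocal.freeModOneIso (U : Scheme.{u})).symm ≪≫ e.symm
  obtain ⟨Q, hQ⟩ := Groth.Agent.CohqB.LocalQC.generators_transport f.hom G
  refine ⟨U, hx, Q, ?_⟩
  rw [hQ]
  exact inferInstanceAs (Finite (ULift.{u} (Fin 1)))

omit [IsClosedImmersion (toPS g₀ f)] in
lemma isCoh_FN [IsLocallyNoetherian X] : Coh.IsCoh (FN g₀ N a) :=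
  CycB.CohProp.isCoh_finite_coproduct _ fun _ => isCoh_of_isInvertible (isInvertible_LN g₀ N)

end O

end K585.QDQuot
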