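import Groth.Agent.Coherent.K585.Coords
import Mathlib.AlgebraicGeometry.Morphisms.FiniteType
import Mathlib.RingTheory.Nakayama
import Mathlib.FieldTheory.IsAlgClosed.Basic
import Mathlib.RingTheory.Jacobson.Ring
import Groth.Agent.Fga.NoethRep

/-!
# Semistable Kronecker modules are surjective

`sur_of_isSS`: a Kronecker module satisfying King's condition is surjective; `sur_of_range`: an affine point of finite type
over `K` with values in the semistable locus is surjective.
-/

set_option autoImplicit false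

universe u

open CategoryTheory CategoryTheory.Limits AlgebraicGeometry MvPolynomial

namespace K585.Sur

open Groth.Agent Fga.QA0 K585.KronK K585.Defs K585.Alev K585.Coords

variable {n e a b : ℕ}

/-- `v ⊗ monomial` -/
noncomputable def tens {A : Type*} [CommRing A] (l : Fin (hn n e)) (v : Fin a → A) : W (Fin (n + 1)) (Fin a) A :=
  fun j => monomial (mu n e l).1 (v j)

lemma tens_mem {A : Type*} [CommRing A] (l : Fin (hn n e)) (v : Fin a → A) :
    tens l v ∈ Wd (Fin (n + 1)) (Fin a) A e := fun j => isHomogeneous_monomial _ (mu n e l).2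

lemma alev_tens {A : Type*} [CommRing A] (α : Kr a b (hn n e) A) (l : Fin (hn n e)) (v : Fin a → A) :
    alev α (tens l v) = (α l).mulVec v := by
  funext k
  rw [alev_apply, Finset.sum_eq_single l]
  · refine Finset.sum_congr rfl fun j _ => ?_
    rw [tens, coeff_monomial, if_pos rfl]
  · intro l' _ hl
    refine Finset.sum_eq_zero fun j _ => ?_
    rw [tens, coeff_monomial, if_neg, mul_zero]
    intro h0
    exact hl ((mu n e).injective (Subtype.ext h0.symm))
  · intro h; exact absurd (Finset.mem_univ l) h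

lemma sur_of_isSS {K : Type*} [Field K] (ha : 0 < a) {α : Kr a b (hn n e) K} (h : IsSS α) : Sur α := by
  have h1 := h ⊤
  rw [finrank_top, Module.finrank_fin_fun] at h1
  have h2 : b ≤ Module.finrank K (⨆ l, (⊤ : Submodule K (Fin a → K)).map (α l).mulVecLin : Submodule K (Fin b → K)) :=
    le_of_mul_le_mul_left (by rw [mul_comm]; exact h1) ha
  have h3 : (⨆ l, (⊤ : Submodule K (Fin a → K)).map (α l).mulVecLin : Submodule K (Fin b → K)) = ⊤ := by
    refine Submodule.eq_top_of_finrank_eq (le_antisymm (Submodule.finrank_le _) ?_)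
    rwa [Module.finrank_fin_fun]
  have h4 : (⨆ l, (⊤ : Submodule K (Fin a → K)).map (α l).mulVecLin : Submodule K (Fin b → K)) ≤
      (Wd (Fin (n + 1)) (Fin a) K e).map (alev α) := by
    refine iSup_le fun l => ?_
    rintro _ ⟨v, -, rfl⟩
    exact ⟨tens l v, tens_mem l v, alev_tens α l v⟩
  rw [h3] at h4
  intro y
  obtain ⟨w, hw, h5⟩ := h4 (show y ∈ ⊤ from trivial)
  exact ⟨w, hw, h5⟩

variable {K : Type u} [Field K] [IsAlgClosed K]

/-- The closed points of an algebra of finite type over an algebraically closed field are rational. -/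
lemma exists_retract {B : Type u} [CommRing B] (c : K →+* B) (hc : c.FiniteType) (m : Ideal B) (hm : m.IsMaximal) :
    ∃ ψ : B →+* K, RingHom.ker ψ = m ∧ ψ.comp c = RingHom.id K := by
  let : Field (B ⧸ m) := Ideal.Quotient.field m
  let c' : K →+* B ⧸ m := (Ideal.Quotient.mk m).comp c
  let : Algebra K (B ⧸ m) := c'.toAlgebra
  have hft : c'.FiniteType := (RingHom.FiniteType.of_surjective _ Ideal.Quotient.mk_surjective).comp hc
  have : Algebra.FiniteType K (B ⧸ m) := hft
  have hfin : Module.Finite K (B ⧸ m) := finite_of_finite_type_of_isJacobsonRing K (B ⧸ m)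
  have hbij : Function.Bijective (algebraMap K (B ⧸ m)) := by
    exact IsAlgClosed.algebraMap_bijective_of_isIntegral
  let E : K ≃+* (B ⧸ m) := RingEquiv.ofBijective _ hbij
  refine ⟨E.symm.toRingHom.comp (Ideal.Quotient.mk m), ?_, ?_⟩
  · ext x
    rw [RingHom.mem_ker, RingHom.comp_apply]
    change E.symm (Ideal.Quotient.mk m x) = 0 ↔ _
    rw [map_eq_zero_iff _ E.symm.injective, Ideal.Quotient.eq_zero_iff_mem]
  · ext z
    change E.symm (E z) = z
    exact E.symm_apply_apply z

/-- surjectivity from the closed points -/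
lemma sur_of_closed {B : Type u} [CommRing B] (c : K →+* B) (hc : c.FiniteType) (α : Kr a b (hn n e) B)
    (h : ∀ ψ : B →+* K, ψ.comp c = RingHom.id K → Sur (krMap ψ α)) : Sur α := by
  let N : Submodule B (Fin b → B) := (Wd (Fin (n + 1)) (Fin a) B e).map (alev α)
  have key : ∀ m : Ideal B, m.IsMaximal → ∃ r : B, r - 1 ∈ m ∧ ∀ y : Fin b → B, r • y ∈ N := by
    intro m hm
    obtain ⟨ψ, hψ, hψc⟩ := exists_retract c hc m hm
    have h1 : (⊤ : Submodule B ((Fin b → B) ⧸ N)) ≤ m • ⊤ := by
      rintro y' -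
      obtain ⟨y, rfl⟩ := Submodule.Quotient.mk_surjective N y'
      obtain ⟨w, hw, hy⟩ := h ψ hψc (fun k => ψ (y k))
      let w' : W (Fin (n + 1)) (Fin a) B := mapW c w
      have h2 : mapW ψ w' = w := by
        change mapW ψ (mapW c w) = w
        rw [← mapW_comp, hψc, mapW_id]
      have h3 : Submodule.Quotient.mk (p := N) y = Submodule.Quotient.mk (y - alev α w') := by
        rw [Submodule.Quotient.mk_sub, (Submodule.Quotient.mk_eq_zero N).2 ⟨w', mapW_mem_Wd c hw, rfl⟩, sub_zero]
      rw [h3]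
      have h4 : ∀ k, y k - alev α w' k ∈ m := by
        intro k
        rw [← hψ, RingHom.mem_ker, map_sub, ← alev_mapW, h2, hy, sub_self]
      have h5 : y - alev α w' = ∑ k, (y k - alev α w' k) • (Pi.single k 1 : Fin b → B) := by
        funext k
        rw [Finset.sum_apply, Finset.sum_eq_single k]
        · simp
        · intro k' _ hk
          simp [hk.symm]
        · intro h; exact absurd (Finset.mem_univ k) h
      rw [h5]
      change (Submodule.mkQ N) _ ∈ _
      rw [map_sum]
      refine Submodule.sum_mem _ fun k _ => ?_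
      rw [map_smul]
      exact Submodule.smul_mem_smul (h4 k) trivial
    obtain ⟨r, hr, hr'⟩ := Submodule.exists_sub_one_mem_and_smul_eq_zero_of_fg_of_le_smul m
      (⊤ : Submodule B ((Fin b → B) ⧸ N)) (Module.Finite.fg_top) h1
    refine ⟨r, hr, fun y => ?_⟩
    rw [← Submodule.Quotient.mk_eq_zero, Submodule.Quotient.mk_smul]
    exact hr' _ trivial
  let J : Ideal B :=
    { carrier := {r | ∀ y : Fin b → B, r • y ∈ N}
      add_mem' := fun {r s} hr hs y => by rw [add_smul]; exact add_mem (hr y) (hs y)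
      zero_mem' := fun y => by rw [zero_smul]; exact zero_mem _
      smul_mem' := fun c r hr y => by rw [smul_eq_mul, mul_smul]; exact N.smul_mem c (hr y) }
  have hJ : J = ⊤ := by
    by_contra hne
    obtain ⟨m, hm, hle⟩ := Ideal.exists_le_maximal _ hne
    obtain ⟨r, hr, hr'⟩ := key m hm
    have h1 : r ∈ m := hle hr'
    apply hm.ne_top
    rw [Ideal.eq_top_iff_one]
    have := m.sub_mem h1 hr
    rwa [sub_sub_cancel] at this
  intro y
  have h1 : (1 : B) ∈ J := by rw [hJ]; trivial
  obtain ⟨w, hw, h2⟩ := h1 y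
  exact ⟨w, hw, by rw [h2, one_smul]⟩

section Sch

variable {S : Scheme.{u}} (sS : S ⟶ Spec (CommRingCat.of K)) {m : ℕ} {f : Fin (m + 1) → Poly K a b (hn n e)}
  (king : ∀ α : Kr a b (hn n e) K, (∃ i, evr (RingHom.id K) α (f i) ≠ 0) ↔ IsSS α)

omit [IsAlgClosed K] in
lemma sB_spec {B : CommRingCat.{u}} (φ : CommRingCat.of K ⟶ B) : sB (Spec.map φ) = φ.hom := by
  rw [sB, sOf, ← CommRingCat.hom_comp, ← CommRingCat.hom_comp, ← Scheme.ΓSpecIso_inv_naturality, Category.assoc,
    Iso.inv_hom_id, Category.comp_id]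

omit [IsAlgClosed K] in
lemma spec_sB {B : CommRingCat.{u}} (t : Spec B ⟶ Spec (CommRingCat.of K)) :
    Spec.map (CommRingCat.ofHom (sB t)) = t := by
  obtain ⟨φ, rfl⟩ := Spec.map_surjective t
  rw [sB_spec, CommRingCat.ofHom_hom]

omit [IsAlgClosed K] in
lemma sB_finiteType {B : CommRingCat.{u}} (t : Spec B ⟶ Spec (CommRingCat.of K)) [LocallyOfFiniteType t] :
    (sB t).FiniteType := by
  obtain ⟨φ, rfl⟩ := Spec.map_surjective t
  rw [sB_spec]
  exact (HasRingHomProperty.Spec_iff (P := @LocallyOfFiniteType)).1 inferInstance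

include king in
/-- affine points of finite type in the semistable locus are surjective -/
theorem sur_of_range (ha : 0 < a) {B : CommRingCat.{u}} (x : Spec B ⟶ AS a b (hn n e) S)
    [LocallyOfFiniteType (x ≫ prS a b (hn n e) S ≫ sS)] (hx : Set.range x ⊆ ssOpen sS f) : Sur (cB x) := by
  refine sur_of_closed (sB (x ≫ prS a b (hn n e) S ≫ sS)) (sB_finiteType _) _ fun ψ hψ => ?_
  refine sur_of_isSS ha ((king _).1 ?_)
  let φ : B ⟶ CommRingCat.of K := CommRingCat.ofHom ψ
  have h1 : (Spec.map φ ≫ x) (IsLocalRing.closedPoint K) ∈ ssOpen sS f := hx ⟨_, rfl⟩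
  rw [mem_ssOpen_iff] at h1
  obtain ⟨i, hi⟩ := h1
  refine ⟨i, ?_⟩
  have h2 : sB ((Spec.map φ ≫ x) ≫ prS a b (hn n e) S ≫ sS) = RingHom.id K := by
    rw [← hψ, Category.assoc]
    generalize x ≫ prS a b (hn n e) S ≫ sS = t
    obtain ⟨χ, rfl⟩ := Spec.map_surjective t
    rw [← Spec.map_comp, sB_spec, sB_spec]
    rfl
  rw [h2, cB_comp] at hi
  exact hi

end Sch

end K585.Sur
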