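import Groth.Agent.Coherent.K53.AsmFin
import Groth.Agent.Coherent.K585.Sur
import Groth.Agent.Coherent.K585.QDQuot
import Groth.Agent.Coherent.K679.ClosedAlg

/-!
# The main theorem when there is no semistable sheaf: everything is empty
-/

set_option autoImplicit false

universe u v

open CategoryTheory CategoryTheory.Limits AlgebraicGeometry Opposite MvPolynomial

namespace K585.Degen

open Groth.Agent Groth.Agent.Fga QA0 QA1 QTDefs QTPull QT4 QT4b QT5 QT6a QT6c QT8 K585.KronK K585.Alev K585.Coords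
  K585.Defs K585.Sur K585.Good

section Gen

/-- a module on the empty scheme -/
lemma isCoh_of_isEmpty {Y : Scheme.{u}} [IsEmpty Y] (E : Y.Modules) : Coh.IsCoh E :=
  K585.QDQuot.isCoh_of_isInvertible fun x => isEmptyElim x

lemma hom_ext_of_isEmpty {Y Z : Scheme.{u}} (hY : IsEmpty Y) (x y : Y ⟶ Z) : x = y :=
  isInitialOfIsEmpty.hom_ext x y

/-- the empty scheme over `S` -/
noncomputable abbrev emp (S : Scheme.{u}) : Over S := Over.mk (Scheme.emptyTo S)

instance (S : Scheme.{u}) : IsEmpty (emp S).left := inferInstanceAs (IsEmpty (∅ : Scheme.{u}))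

variable {k : Type u} [Field k] {n : ℕ} {X S : Scheme.{u}} {f : X ⟶ S} {g₀ : X ⟶ PZ n}
  {sS : S ⟶ Spec (CommRingCat.of k)} {P : Polynomial ℚ}

lemma isEmpty_of_hom {T : Over S} (x : T ⟶ emp S) : IsEmpty T.left := Function.isEmpty x.left

theorem atlas_empty [IsAlgClosed k]
    (h : ∀ (s : Spec (CommRingCat.of k) ⟶ S) (E : (PicF.XT f (Over.mk s)).Modules), s ≫ sS = 𝟙 _ →
      ¬ @SSh k _ n _ (ovr f s) (gT f g₀ (Over.mk s)) P E) (𝓔 : (PicF.XT f (emp S)).Modules) :
    Atlas f g₀ sS P 𝓔 (𝟙 (emp S)) (fun _ => True) where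
  ft := by
    have h0 : IsEmpty (emp S).left := inferInstance
    have h1 : IsClosedImmersion ((emp S).hom ≫ sS) := inferInstance
    exact ⟨inferInstance, inferInstance, inferInstance⟩
  adm := by
    have h0 : IsEmpty (PicF.XT f (emp S)) := Function.isEmpty (PicF.XTproj f (emp S))
    exact ⟨isCoh_of_isEmpty 𝓔, fun x => isEmptyElim x, fun t _ => isEmptyElim (t (IsLocalRing.closedPoint k))⟩
  hov γ _ := hom_ext_of_isEmpty inferInstance _ _
  loc {B} _ s _ E hE y := by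
    exfalso
    obtain ⟨𝔪, h𝔪, hle⟩ := Ideal.exists_le_maximal _ y.isPrime.ne_top
    let c := sB (B := .of B) (s ≫ sS)
    have hc : c.FiniteType := sB_finiteType _
    obtain ⟨ρ, hρ, hker⟩ := K679.ClosedAlg.exists_point c hc 𝔪
    have hρ' : Spec.map (CommRingCat.ofHom ρ) ≫ s ≫ sS = 𝟙 (Spec (CommRingCat.of k)) := by
      rw [← spec_sB (B := .of B) (s ≫ sS), ← Spec.map_comp, ← Spec.map_id]
      congr 1
      ext x
      exact congr($hρ x)
    let t : Spec (CommRingCat.of k) ⟶ (Over.mk s).left := Spec.map (CommRingCat.ofHom ρ)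
    exact h (t ≫ s) _ (by rw [Category.assoc]; exact hρ') (hE.ssh t hρ')
  rel {B} _ s _ x y _ := Over.OverMorphism.ext (hom_ext_of_isEmpty (isEmpty_of_hom x) _ _)
  inv γ _ B _ s _ x y _ := by
    have h1 : x = y := Over.OverMorphism.ext (hom_ext_of_isEmpty (isEmpty_of_hom x) _ _)
    subst h1
    exact ⟨Iso.refl _⟩
  cat T ψ _ := ⟨ψ, Category.id_comp _, fun χ hχ => (Category.id_comp _).symm.trans hχ⟩

end Gen

/-- The atlas exists if there is no semistable sheaf over any complex point. -/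
theorem atlasEx_of_not {S : Scheme.{0}} {sS : S ⟶ Spec (CommRingCat.of ℂ)} {n : ℕ} {X : Scheme.{0}}
    {i : X ⟶ CohB1.ProjSpaceOver n S} {P : Polynomial ℚ}
    (h : ∀ (s : Spec (CommRingCat.of ℂ) ⟶ S) (E : (PicF.XT (i ≫ (CohB1.ProjSpaceOver n S ↘ S)) (Over.mk s)).Modules),
      s ≫ sS = 𝟙 _ → ¬ @SSh ℂ _ n _ (ovr (i ≫ (CohB1.ProjSpaceOver n S ↘ S)) s)
        (gT (i ≫ (CohB1.ProjSpaceOver n S ↘ S)) (i ≫ prZ n S) (Over.mk s)) P E) : K53.AsmFin.AtlasEx S sS n X i P := by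
  let 𝓔 : (PicF.XT (i ≫ (CohB1.ProjSpaceOver n S ↘ S)) (emp S)).Modules := SheafOfModules.unit _
  refine ⟨emp S, emp S, 𝓔, 𝟙 _, fun _ => True, 0, Scheme.emptyTo _, atlas_empty h 𝓔, ?_, ?_, ?_, ?_⟩
  · exact inferInstance
  · exact hom_ext_of_isEmpty inferInstance _ _
  · exact inferInstanceAs (Surjective (𝟙 (emp S).left))
  · intro Z Z' _ _ _ _ _
    have hZ : Z = ∅ := Set.eq_empty_of_isEmpty Z
    rw [hZ, Set.image_empty]
    exact Set.empty_disjoint _

end K585.Degen
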