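import Groth.Agent.Coherent.K585.RelR

/-!
# The numerical and GIT input; atlases

* `Good k n P Φ N e a b` : `a = P(N)`, `b = P(N + e)`, uniform regularity and the comparison of stability conditions;
* `Atlas` : what is needed from `R`, its family and the quotient `π : R ⟶ M` to get a best approximation of the moduli
  problem.
-/

set_option autoImplicit false

universe u v

open CategoryTheory CategoryTheory.Limits AlgebraicGeometry Opposite MvPolynomial

namespace K585.Good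

open Groth.Agent Groth.Agent.Fga QA0 QA1 QTDefs QTPull QT4 QT4b QT5 QT6a QT6c QT8 K585.KronK K585.Defs

/-- The numerical and GIT input. -/
structure Good (k : Type u) [Field k] (n : ℕ) (P : Polynomial ℚ) (Φ : ℤ → ℤ) (N e a b : ℕ) : Prop where
  Φ_eq : ∀ m : ℤ, (Φ m : ℚ) = P.eval (m : ℚ)
  num : Num (n + 1) Φ
  num' : Num (n + 1) (fun d => Φ (d + N))
  he : bd (n + 1) (fun d => Φ (d + N)) ≤ e
  ha : (a : ℚ) = P.eval (N : ℚ)
  hb : (b : ℚ) = P.eval ((N + e : ℕ) : ℚ)
  apos : 0 < a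
  bpos : 0 < b
  reg : ∀ (Y : Scheme.{u}) [Y.Over (Spec (CommRingCat.of k))] (g : Y ⟶ PZ n)
      [IsClosedImmersion (toPA g (Y ↘ Spec (CommRingCat.of k)))] (E : Y.Modules), SSh k g P E → Rg k g E N
  mt : ∀ (Y : Scheme.{u}) [Y.Over (Spec (CommRingCat.of k))] (g : Y ⟶ PZ n)
      [IsClosedImmersion (toPA g (Y ↘ Spec (CommRingCat.of k)))] (E : Y.Modules), Coh.IsCoh E →
      (∀ m : ℤ, (Curv2.euler k Y (twg g E m) : ℚ) = P.eval (m : ℚ)) →
      (∀ (v : Fin a → Sec g (Y ↘ Spec (CommRingCat.of k)) E) (hv : ∀ j, v j ∈ TwSec g (Y ↘ Spec (CommRingCat.of k)) E N),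
        (∀ i, Submodule.span Γ(Y, V g i) (Set.range fun j => v j i) = ⊤) → ∀ α : Kr a b (hn n e) k,
        (∀ w ∈ Wd (Fin (n + 1)) (Fin a) k e, sgL (Y ↘ Spec (CommRingCat.of k)) (sysOf v hv) w = 0 → alev α w = 0) →
        IsSS α → SSh k g P E ∧ LinearIndependent k v) ∧
      (SSh k g P E → ∀ (v : Fin a → Sec g (Y ↘ Spec (CommRingCat.of k)) E)
        (w : Fin b → Sec g (Y ↘ Spec (CommRingCat.of k)) E) (α : Kr a b (hn n e) k),
        IsFrame g (Y ↘ Spec (CommRingCat.of k)) E N e v w α → IsSS α)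

/-- What is needed from `R`, its family and its quotient. -/
structure Atlas {k : Type u} [Field k] {n : ℕ} {X S : Scheme.{u}} (f : X ⟶ S) (g₀ : X ⟶ PZ n)
    (sS : S ⟶ Spec (CommRingCat.of k)) (P : Polynomial ℚ) {R M : Over S} (𝓔 : (PicF.XT f R).Modules) (π : R ⟶ M)
    (𝒢 : (R.left ⟶ R.left) → Prop) : Prop where
  ft : W4c2simpsonmod1.ftOver sS R
  adm : Adm f sS g₀ P R 𝓔
  hov : ∀ γ, 𝒢 γ → γ ≫ R.hom = R.hom
  /-- admissible families over affine schemes of finite type come locally from `R` -/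
  loc : ∀ {B : Type u} [CommRing B] (s : Spec (CommRingCat.of B) ⟶ S) [LocallyOfFiniteType (s ≫ sS)]
    (E : (PicF.XT f (Over.mk s)).Modules), Adm f sS g₀ P (Over.mk s) E → ∀ y : PrimeSpectrum B, ∃ r : B, r ∉ y.asIdeal ∧
      ∃ x : Over.mk (Spec.map (CommRingCat.ofHom (algebraMap B (Localization.Away r))) ≫ s) ⟶ R,
        Nonempty ((Scheme.Modules.pullback (PicF.XTmap f
          (Over.homMk (Spec.map (CommRingCat.ofHom (algebraMap B (Localization.Away r)))) rfl :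
            Over.mk (Spec.map (CommRingCat.ofHom (algebraMap B (Localization.Away r))) ≫ s) ⟶ Over.mk s))).obj E ≅
          (Scheme.Modules.pullback (PicF.XTmap f x)).obj 𝓔)
  /-- points with isomorphic families have the same image -/
  rel : ∀ {B : Type u} [CommRing B] (s : Spec (CommRingCat.of B) ⟶ S) [LocallyOfFiniteType (s ≫ sS)]
    (x y : Over.mk s ⟶ R), Nonempty ((Scheme.Modules.pullback (PicF.XTmap f x)).obj 𝓔 ≅
      (Scheme.Modules.pullback (PicF.XTmap f y)).obj 𝓔) → x ≫ π = y ≫ π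
  /-- the family is invariant -/
  inv : ∀ γ, 𝒢 γ → ∀ {B : Type u} [CommRing B] (s : Spec (CommRingCat.of B) ⟶ S) [LocallyOfFiniteType (s ≫ sS)]
    (x y : Over.mk s ⟶ R), y.left = x.left ≫ γ → Nonempty ((Scheme.Modules.pullback (PicF.XTmap f y)).obj 𝓔 ≅
      (Scheme.Modules.pullback (PicF.XTmap f x)).obj 𝓔)
  /-- categorical quotient -/
  cat : ∀ (T : Scheme.{u}) (ψ : R.left ⟶ T), (∀ γ, 𝒢 γ → γ ≫ ψ = ψ) → ∃! χ : M.left ⟶ T, π.left ≫ χ = ψ

end K585.Good
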