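import Groth.Agent.Coherent.K585.KronK
import Groth.Agent.Fga.QT6c
import Groth.Agent.Fga.QT8Tw
import Groth.Prelude.Def_Twist2
import Groth.Prelude.Def_W4c2simpsonmod1HP

/-!
# Simpson moduli: definitions shared by the nodes

`g : Y ⟶ P^n_ℤ`, `q : Y ⟶ Spec A`, `F : Y.Modules`; `TwSec g q F m` is `H⁰(Y, F(m))` (families of sections on the charts).

* `mulL g q F p` multiplication of twisted sections by a polynomial `p`;
* `hn n e`, `mu n e`: the monomials of degree `e` in `n + 1` variables;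
* `IsBas M v`: `v` is a basis of the submodule `M` (independent and spanning);
* `IsKr g q F e v w α` : `x^{μ_l} v_j = Σ_k α_l(k, j) w_k`; `IsFrame g q F N e v w α`: bases `v` of `H⁰(F(N))`,
  `w` of `H⁰(F(N+e))` with this relation, `alev α : W → A^b` the linear map of a Kronecker module;
* `SSh k g P E`: coherent, Hilbert polynomial `P`, pure of dimension `deg P` and `p`-semistable;
* `Rg k g E N`: no higher cohomology of `E(m)`, generation and surjectivity of multiplication for `m ≥ N`;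
* `fib f t E`: the fibre of a family at a point `t` of the base; `Adm sS f g₀ P T E`: the admissible families.
-/

set_option autoImplicit false

universe u

open CategoryTheory CategoryTheory.Limits AlgebraicGeometry MvPolynomial

namespace K585.Defs

open Groth.Agent Fga.QTDefs Fga.QT8 Fga.QT4b Fga.QT6a Fga.QT6c Fga.QA0 K585.KronK

/-- `F(m)` (the same as `K277.ChiHilb.twg`) -/
noncomputable def twg {n : ℕ} {Y : Scheme.{u}} (g : Y ⟶ PZ n) (F : Y.Modules) (m : ℤ) : Y.Modules :=
  CohB1.tensorMod F ((Scheme.Modules.pullback g).obj (Twist.twistProjSpace n (ULift.{u} ℤ) m))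

section Sections

variable {n : ℕ} {Y : Scheme.{u}} (g : Y ⟶ PZ n) {A : Type u} [CommRing A] (q : Y ⟶ Spec (CommRingCat.of A))
  (F : Y.Modules)

/-- multiplication by a polynomial -/
noncomputable def mulL (p : MvPolynomial (Fin (n + 1)) A) : Sec g q F →ₗ[A] Sec g q F where
  toFun s i := ev g q i p • s i
  map_add' s t := by funext i; exact smul_add _ _ _
  map_smul' c s := by funext i; exact smul_comm _ _ _

@[simp] lemma mulL_apply (p : MvPolynomial (Fin (n + 1)) A) (s : Sec g q F) (i : Fin (n + 1)) :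
    mulL g q F p s i = ev g q i p • s i := rfl

/-- the monomials of degree `e` in `n + 1` variables -/
abbrev Mon (n e : ℕ) : Type := {m : Fin (n + 1) →₀ ℕ // m.degree = e}

instance (n e : ℕ) : Finite (Mon n e) := by
  have h : Set.Finite {m : Fin (n + 1) →₀ ℕ | m.degree = e} := by
    refine (Finset.finite_toSet ((Finset.univ : Finset (Fin (n + 1))).finsuppAntidiag e)).subset fun m hm => ?_
    rw [Finset.mem_coe, Finset.mem_finsuppAntidiag]
    exact ⟨by rw [← Finsupp.degree_eq_sum]; exact hm, Finset.subset_univ _⟩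
  exact h.to_subtype

/-- the number of monomials of degree `e` in `n + 1` variables -/
noncomputable def hn (n e : ℕ) : ℕ := Nat.card (Mon n e)

/-- an enumeration of the monomials of degree `e` -/
noncomputable def mu (n e : ℕ) : Fin (hn n e) ≃ Mon n e := (Finite.equivFin (Mon n e)).symm

/-- `v` is a basis of the submodule `M`. -/
structure IsBas {R M : Type*} [CommRing R] [AddCommGroup M] [Module R M] {ι : Type*} (N : Submodule R M) (v : ι → M) :
    Prop where
  li : LinearIndependent R v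
  span : Submodule.span R (Set.range v) = N

variable {a b : ℕ}

/-- The Kronecker module `α` describes the multiplication of the `v_j` by the monomials of degree `e` in terms of the
`w_k`. -/
def IsKr (e : ℕ) (v : Fin a → Sec g q F) (w : Fin b → Sec g q F) (α : Kr a b (hn n e) A) : Prop :=
  ∀ l j, mulL g q F (monomial (mu n e l).1 1) (v j) = ∑ k, α l k j • w k

/-- A frame of `F`: a basis of `H⁰(F(N))`, a basis of `H⁰(F(N+e))`, and the Kronecker module. -/
structure IsFrame (N e : ℕ) (v : Fin a → Sec g q F) (w : Fin b → Sec g q F) (α : Kr a b (hn n e) A) : Prop where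
  v_bas : IsBas (TwSec g q F N) v
  w_bas : IsBas (TwSec g q F (N + e)) w
  kr : IsKr g q F e v w α

/-- The linear map `W → A^b` attached to a Kronecker module (through the component of degree `e`). -/
noncomputable def alev {A : Type*} [CommRing A] {n e : ℕ} (α : Kr a b (hn n e) A) :
    W (Fin (n + 1)) (Fin a) A →ₗ[A] (Fin b → A) where
  toFun w k := ∑ l, ∑ j, α l k j * coeff (mu n e l).1 (w j)
  map_add' u w := by
    funext k
    simp only [Pi.add_apply, coeff_add, mul_add, Finset.sum_add_distrib]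
  map_smul' c w := by
    funext k
    simp only [Pi.smul_apply, coeff_smul, smul_eq_mul, RingHom.id_apply, Finset.mul_sum]
    exact Finset.sum_congr rfl fun l _ => Finset.sum_congr rfl fun j _ => by ring

lemma alev_apply {A : Type*} [CommRing A] {n e : ℕ} (α : Kr a b (hn n e) A) (w : W (Fin (n + 1)) (Fin a) A)
    (k : Fin b) : alev α w k = ∑ l, ∑ j, α l k j * coeff (mu n e l).1 (w j) := rfl

/-- `V' ⊗ S_d` inside `W`. -/
def WV {K : Type*} [Field K] {n a : ℕ} (V' : Submodule K (Fin a → K)) (d : ℕ) :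
    Submodule K (W (Fin (n + 1)) (Fin a) K) where
  carrier := {w | w ∈ Wd (Fin (n + 1)) (Fin a) K d ∧ ∀ m, (fun j => coeff m (w j)) ∈ V'}
  add_mem' := by
    rintro u w ⟨h1, h2⟩ ⟨h3, h4⟩
    refine ⟨add_mem h1 h3, fun m => ?_⟩
    have h5 : (fun j => coeff m ((u + w) j)) = (fun j => coeff m (u j)) + fun j => coeff m (w j) := by
      funext j; exact coeff_add _ _ _
    rw [h5]
    exact add_mem (h2 m) (h4 m)
  zero_mem' := by
    refine ⟨zero_mem _, fun m => ?_⟩
    have h5 : (fun j => coeff m ((0 : W (Fin (n + 1)) (Fin a) K) j)) = 0 := by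
      funext j; exact coeff_zero _
    rw [h5]
    exact zero_mem V'
  smul_mem' := by
    rintro c w ⟨h1, h2⟩
    refine ⟨Submodule.smul_mem _ c h1, fun m => ?_⟩
    have h5 : (fun j => coeff m ((c • w) j)) = c • fun j => coeff m (w j) := by
      funext j; exact coeff_smul _ _ _
    rw [h5]
    exact Submodule.smul_mem _ c (h2 m)

variable {g q F}

/-- A family of twisted sections, as a system. -/
def sysOf {N : ℕ} {ι : Type*} (v : ι → Sec g q F) (hv : ∀ j, v j ∈ TwSec g q F N) : GenSys g F ι N where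
  e i j := v j i
  glue i k j := hv j i k

end Sections

section Field

variable (k : Type u) [Field k] {n : ℕ} {Y : Scheme.{u}} [Y.Over (Spec (CommRingCat.of k))] (g : Y ⟶ PZ n)

/-- coherent, with Hilbert polynomial `P`, pure of dimension `deg P`, and `p`-semistable -/
structure SSh (P : Polynomial ℚ) (E : Y.Modules) : Prop where
  coh : Coh.IsCoh E
  hp : ∀ m : ℤ, (Curv2.euler k Y (twg g E m) : ℚ) = P.eval (m : ℚ)
  dim : topologicalKrullDim ↥(CohB1.support E) = (P.natDegree : WithBot ℕ∞)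
  sub : ∀ (G : Y.Modules) (ι : G ⟶ E), Mono ι → Coh.IsCoh G → ¬ IsZero G →
    topologicalKrullDim ↥(CohB1.support G) = (P.natDegree : WithBot ℕ∞) ∧
    ∀ ψ : Polynomial ℚ, (∀ m : ℤ, (Curv2.euler k Y (twg g G m) : ℚ) = ψ.eval (m : ℚ)) →
      W4c2simpsonmod1.RedLE P.natDegree ψ P

/-- For all `m ≥ N`: no higher cohomology of `E(m)`, `E(m)` is generated by its sections, and
`S_1 ⊗ H⁰(E(m)) → H⁰(E(m+1))` is surjective. -/
structure Rg (E : Y.Modules) (N : ℕ) : Prop where
  van : ∀ m : ℤ, (N : ℤ) ≤ m → ∀ i : ℕ, 1 ≤ i → Subsingleton (Coh.HH Y (twg g E m) i)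
  gen : ∀ m : ℕ, N ≤ m → ∀ i : Fin (n + 1),
    Submodule.span Γ(Y, V g i) (Set.range fun s : TwSec g (Y ↘ Spec (CommRingCat.of k)) E m => s.1 i) = ⊤
  mul : ∀ m : ℕ, N ≤ m → TwSec g (Y ↘ Spec (CommRingCat.of k)) E (m + 1) ≤
    ⨆ j, (TwSec g (Y ↘ Spec (CommRingCat.of k)) E m).map (mulL g (Y ↘ Spec (CommRingCat.of k)) E (X j))

end Field

section Family

variable {n : ℕ} {X S : Scheme.{u}} (f : X ⟶ S)

/-- The fibre of a family at a morphism `t : T' ⟶ T`. -/
noncomputable abbrev fib {T : Over S} {T' : Scheme.{u}} (t : T' ⟶ T.left) (E : (PicF.XT f T).Modules) :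
    (PicF.XT f (Over.mk (t ≫ T.hom))).Modules :=
  (Scheme.Modules.pullback (PicF.XTmap f (Over.homMk t rfl : Over.mk (t ≫ T.hom) ⟶ T))).obj E

/-- `X_s` as a scheme over `k`, for a `k`-point `s` of the base. -/
noncomputable abbrev ovr {k : Type u} [Field k] (s : Spec (CommRingCat.of k) ⟶ S) :
    (PicF.XT f (Over.mk s)).Over (Spec (CommRingCat.of k)) := ⟨PicF.XTproj f (Over.mk s)⟩

variable {k : Type u} [Field k] (sS : S ⟶ Spec (CommRingCat.of k)) (g₀ : X ⟶ PZ n)

/-- Admissible families: coherent, flat, with all the fibres at the `k`-points satisfying `SSh`. -/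
structure Adm (P : Polynomial ℚ) (T : Over S) (E : (PicF.XT f T).Modules) : Prop where
  coh : Coh.IsCoh E
  flat : FlatMod.IsFlatOver (PicF.XTproj f T) E
  ssh : ∀ t : Spec (CommRingCat.of k) ⟶ T.left, t ≫ T.hom ≫ sS = 𝟙 (Spec (CommRingCat.of k)) →
    letI := ovr f (t ≫ T.hom)
    SSh k (gT f g₀ (Over.mk (t ≫ T.hom))) P (fib f t E)

/-- Families whose fibres at the `k`-points are regular, with Hilbert polynomial `P`. -/
structure RgFam (P : Polynomial ℚ) (N : ℕ) (T : Over S) (E : (PicF.XT f T).Modules) : Prop where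
  coh : Coh.IsCoh E
  flat : FlatMod.IsFlatOver (PicF.XTproj f T) E
  rg : ∀ t : Spec (CommRingCat.of k) ⟶ T.left, t ≫ T.hom ≫ sS = 𝟙 (Spec (CommRingCat.of k)) →
    letI := ovr f (t ≫ T.hom)
    Rg k (gT f g₀ (Over.mk (t ≫ T.hom))) (fib f t E) N ∧
      ∀ m : ℤ, (Curv2.euler k _ (twg (gT f g₀ (Over.mk (t ≫ T.hom))) (fib f t E) m) : ℚ) = P.eval (m : ℚ)

/-- Pull back of twisted sections along a morphism of (affine) bases. -/
noncomputable def pbS {A B : Type u} [CommRing A] [CommRing B] {s : Spec (CommRingCat.of A) ⟶ S}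
    {s' : Spec (CommRingCat.of B) ⟶ S} (h : Over.mk s' ⟶ Over.mk s) (E : (PicF.XT f (Over.mk s)).Modules)
    (v : Sec (gT f g₀ (Over.mk s)) (prB f s) E) :
    Sec (gT f g₀ (Over.mk s')) (prB f s') ((Scheme.Modules.pullback (PicF.XTmap f h)).obj E) :=
  fun i => CohqA.PullbackQCoh.pbSec (PicF.XTmap f h) E (V (gT f g₀ (Over.mk s)) i) (V (gT f g₀ (Over.mk s')) i)
    (Fga.QTPull.V_le (XTmap_gT f g₀ h) i) (v i)

/-- Cohomology and base change for a family over an affine base: the conclusion. -/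
structure CohOut (P : Polynomial ℚ) (N : ℕ) {B : Type u} [CommRing B] (s : Spec (CommRingCat.of B) ⟶ S)
    (E : (PicF.XT f (Over.mk s)).Modules) : Prop where
  fin : ∀ m, N ≤ m → Module.Finite B (TwSec (gT f g₀ (Over.mk s)) (prB f s) E m)
  proj : ∀ m, N ≤ m → Module.Projective B (TwSec (gT f g₀ (Over.mk s)) (prB f s) E m)
  rank : ∀ m, N ≤ m → ∀ p : PrimeSpectrum B,
    (Module.rankAtStalk (R := B) (TwSec (gT f g₀ (Over.mk s)) (prB f s) E m) p : ℚ) = P.eval (m : ℚ)
  gen : ∀ i, Submodule.span Γ(PicF.XT f (Over.mk s), V (gT f g₀ (Over.mk s)) i)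
    (Set.range fun t : TwSec (gT f g₀ (Over.mk s)) (prB f s) E N => t.1 i) = ⊤
  mul : ∀ m, N ≤ m → TwSec (gT f g₀ (Over.mk s)) (prB f s) E (m + 1) ≤
    ⨆ j, (TwSec (gT f g₀ (Over.mk s)) (prB f s) E m).map (mulL (gT f g₀ (Over.mk s)) (prB f s) E (MvPolynomial.X j))
  bc : ∀ m, N ≤ m → ∀ {B' : Type u} [CommRing B'] (s' : Spec (CommRingCat.of B') ⟶ S) (h : Over.mk s' ⟶ Over.mk s)
    {r : ℕ} (v : Fin r → Sec (gT f g₀ (Over.mk s)) (prB f s) E),
    IsBas (TwSec (gT f g₀ (Over.mk s)) (prB f s) E m) v →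
    IsBas (TwSec (gT f g₀ (Over.mk s')) (prB f s') ((Scheme.Modules.pullback (PicF.XTmap f h)).obj E) m)
      (fun j => pbS f g₀ h E (v j))

end Family

end K585.Defs
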