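import Groth.Agent.Coherent.K585.Defs
import Groth.Agent.Fga.QA4Fin
import Groth.Agent.Fga.QA5

/-!
# Kronecker modules and graded submodules of `W`: algebra

* `krMap φ α`, `alev_mapW`; `Kills α L : ∀ w ∈ L, alev α w = 0`, base change `kills_bc`, `kills_bcSat`;
* `gW g : W → W` for a square matrix `g`, `alev_act : alev (k α g) w = k (alev α (g w))`;
  `comap (gW g)` of a point of Quot is a point of Quot (`isQuotPt_comap`), compatible with base change;
* `eq_of_kills`: two points of Quot with Hilbert polynomial `Φ`, `Φ e = b`, killed by the same surjective `α`,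
  are equal.
-/

set_option autoImplicit false

universe u

open CategoryTheory CategoryTheory.Limits AlgebraicGeometry MvPolynomial

namespace K585.Alev

open Groth.Agent Fga.QA0 Fga.QA1 K585.KronK K585.Defs

variable {n e a b : ℕ} {B C : Type*} [CommRing B] [CommRing C]

/-- base change of a Kronecker module -/
def krMap {h : ℕ} (φ : B →+* C) (α : Kr a b h B) : Kr a b h C := fun l => (α l).map φ

@[simp] lemma krMap_apply {h : ℕ} (φ : B →+* C) (α : Kr a b h B) (l : Fin h) (i : Fin b) (j : Fin a) :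
    krMap φ α l i j = φ (α l i j) := rfl

lemma krMap_act {h : ℕ} (φ : B →+* C) (k : Matrix (Fin b) (Fin b) B) (g : Matrix (Fin a) (Fin a) B) (α : Kr a b h B) :
    krMap φ (act k g α) = act (k.map φ) (g.map φ) (krMap φ α) := by
  funext l
  change (k * α l * g).map φ = k.map φ * (α l).map φ * g.map φ
  rw [Matrix.map_mul, Matrix.map_mul]

lemma alev_mapW (φ : B →+* C) (α : Kr a b (hn n e) B) (w : W (Fin (n + 1)) (Fin a) B) (k : Fin b) :
    alev (krMap φ α) (mapW φ w) k = φ (alev α w k) := by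
  rw [alev_apply, alev_apply, map_sum]
  refine Finset.sum_congr rfl fun l _ => ?_
  rw [map_sum]
  refine Finset.sum_congr rfl fun j _ => ?_
  rw [mapW_apply, coeff_map, krMap_apply, map_mul]

lemma alev_comp (α : Kr a b (hn n e) B) (w : W (Fin (n + 1)) (Fin a) B) : alev α (comp e w) = alev α w := by
  funext k
  rw [alev_apply, alev_apply]
  refine Finset.sum_congr rfl fun l _ => Finset.sum_congr rfl fun j _ => ?_
  rw [Fga.QA0.comp_apply, coeff_homogeneousComponent, if_pos (mu n e l).2]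

lemma alev_smul (α : Kr a b (hn n e) B) (c : B) (w : W (Fin (n + 1)) (Fin a) B) : alev α (c • w) = c • alev α w :=
  map_smul _ _ _

/-- `α` kills `L`. -/
def Kills (α : Kr a b (hn n e) B) (L : Submodule (MvPolynomial (Fin (n + 1)) B) (W (Fin (n + 1)) (Fin a) B)) : Prop :=
  ∀ w ∈ L, alev α w = 0

variable {α : Kr a b (hn n e) B} {L L' : Submodule (MvPolynomial (Fin (n + 1)) B) (W (Fin (n + 1)) (Fin a) B)}

lemma kills_iff (hL : IsHom L) : Kills α L ↔ ∀ w ∈ pc L e, alev α w = 0 :=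
  ⟨fun h w hw => h w hw.1, fun h w hw => by rw [← alev_comp]; exact h _ (hL.comp_mem_pc hw e)⟩

lemma Kills.mono (h : Kills α L) (hL : L' ≤ L) : Kills α L' := fun w hw => h w (hL hw)

lemma alev_monomial_smul (φ : B →+* C) (h : ∀ w ∈ L, ∀ k, φ (alev α w k) = 0) {u : W (Fin (n + 1)) (Fin a) B} (hu : u ∈ L)
    (f : MvPolynomial (Fin (n + 1)) C) : alev (krMap φ α) (f • mapW φ u) = 0 := by
  induction f using MvPolynomial.induction_on' with
  | monomial s c =>
    have h1 : (monomial s c : MvPolynomial (Fin (n + 1)) C) • mapW φ u =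
        c • mapW φ ((monomial s 1 : MvPolynomial (Fin (n + 1)) B) • u) := by
      rw [mapW_smul, map_monomial, map_one]
      funext j
      change monomial s c * _ = c • (monomial s 1 * _)
      rw [smul_eq_C_mul, ← mul_assoc, C_mul_monomial, mul_one]
    rw [h1, alev_smul]
    have h2 : alev (krMap φ α) (mapW φ ((monomial s 1 : MvPolynomial (Fin (n + 1)) B) • u)) = 0 := by
      funext k
      rw [alev_mapW]
      exact h _ (L.smul_mem _ hu) k
    rw [h2, smul_zero]
  | add p q hp hq => rw [add_smul, map_add, hp, hq, add_zero]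

lemma kills_bc' (φ : B →+* C) (h : ∀ w ∈ L, ∀ k, φ (alev α w k) = 0) : Kills (krMap φ α) (bc φ L) := by
  intro w hw
  have key : ∀ f : MvPolynomial (Fin (n + 1)) C, alev (krMap φ α) (f • w) = 0 := by
    induction hw using Submodule.span_induction with
    | mem x hx =>
      obtain ⟨u, hu, rfl⟩ := hx
      exact alev_monomial_smul φ h hu
    | zero => intro f; rw [smul_zero, map_zero]
    | add x y _ _ hx hy => intro f; rw [smul_add, map_add, hx, hy, add_zero]
    | smul g x _ hx => intro f; rw [smul_smul]; exact hx _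
  have := key 1
  rwa [one_smul] at this

lemma kills_bc (φ : B →+* C) (h : Kills α L) : Kills (krMap φ α) (bc φ L) :=
  kills_bc' φ fun w hw k => by
    rw [h w hw]
    exact map_zero φ

lemma kills_of_bc (φ : B →+* C) (h : Kills (krMap φ α) (bc φ L)) {w : W (Fin (n + 1)) (Fin a) B} (hw : w ∈ L) (k : Fin b) :
    φ (alev α w k) = 0 := by
  rw [← alev_mapW, h _ (mapW_mem_bc φ hw)]
  rfl

section Fam

variable {A : Type u} [CommRing A] [IsNoetherianRing A] {α : Kr a b (hn n e) A}
  {L L' : Submodule (MvPolynomial (Fin (n + 1)) A) (W (Fin (n + 1)) (Fin a) A)} {Φ : ℤ → ℤ}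

lemma num_card (hΦ : Num (n + 1) Φ) : Num (Fintype.card (Fin (n + 1))) Φ := by rwa [Fintype.card_fin]

lemma pc_bcSat {B : Type*} [CommRing B] (hΦ : Num (n + 1) Φ) (hK : IsQuotPt L) (hP : Fga.HilbAsm1.HP Φ L)
    {d : ℕ} (he : bd (n + 1) Φ ≤ d) (φ : A →+* B) : pc (bcSat φ L) d = pc (bc φ L) d := by
  refine Fga.QA4Main.pc_bcSat_eq hK (Fga.QA5.fibHOne (num_card hΦ) hK hP ?_) φ
  rwa [Fintype.card_fin]

lemma kills_bcSat' {B : Type*} [CommRing B] (hΦ : Num (n + 1) Φ) (hK : IsQuotPt L) (hP : Fga.HilbAsm1.HP Φ L)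
    (he : bd (n + 1) Φ ≤ e) (φ : A →+* B) (h : ∀ w ∈ L, ∀ k, φ (alev α w k) = 0) :
    Kills (krMap φ α) (bcSat φ L) := by
  rw [kills_iff (show IsHom (bcSat φ L) from (hK.isHom.bc φ).sat), pc_bcSat hΦ hK hP he φ]
  exact fun w hw => kills_bc' φ h w hw.1

lemma kills_bcSat {B : Type*} [CommRing B] (hΦ : Num (n + 1) Φ) (hK : IsQuotPt L) (hP : Fga.HilbAsm1.HP Φ L)
    (he : bd (n + 1) Φ ≤ e) (φ : A →+* B) (h : Kills α L) : Kills (krMap φ α) (bcSat φ L) :=
  kills_bcSat' hΦ hK hP he φ fun w hw k => by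
    rw [h w hw]
    exact map_zero φ

/-- the kernel of `α` in degree `e` -/
noncomputable def kerA (α : Kr a b (hn n e) A) : Submodule A (Wd (Fin (n + 1)) (Fin a) A e) :=
  LinearMap.ker ((alev α).comp (Wd (Fin (n + 1)) (Fin a) A e).subtype)

/-- `α` is surjective on the polynomials of degree `e`. -/
def Sur {A : Type*} [CommRing A] (α : Kr a b (hn n e) A) : Prop :=
  ∀ y : Fin b → A, ∃ w ∈ Wd (Fin (n + 1)) (Fin a) A e, alev α w = y

omit [IsNoetherianRing A] in
lemma isQuotRank_kerA (hα : Sur α) [Nontrivial A] : Fga.GrassBasic.IsQuotRank b (kerA α) := by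
  have hs : Function.Surjective ((alev α).comp (Wd (Fin (n + 1)) (Fin a) A e).subtype) := fun y => by
    obtain ⟨w, hw, h⟩ := hα y
    exact ⟨⟨w, hw⟩, h⟩
  let E : (Wd (Fin (n + 1)) (Fin a) A e ⧸ kerA α) ≃ₗ[A] (Fin b → A) := LinearMap.quotKerEquivOfSurjective _ hs
  refine ⟨Module.Projective.of_equiv E.symm, fun p => ?_⟩
  rw [Module.rankAtStalk_eq_of_equiv E]
  rw [Module.rankAtStalk_eq_finrank_of_free]
  simp

/-- the piece of `L` is the kernel -/
theorem kd_eq_kerA (hΦ : Num (n + 1) Φ) (hK : IsQuotPt L) (hP : Fga.HilbAsm1.HP Φ L) (he : bd (n + 1) Φ ≤ e)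
    (hb : (b : ℤ) = Φ e) (hα : Sur α) (h : Kills α L) : Fga.QA4BC.kd L e = kerA α := by
  rcases subsingleton_or_nontrivial A with hA | hA
  · have : Subsingleton (Wd (Fin (n + 1)) (Fin a) A e) := Module.subsingleton A _
    exact Subsingleton.elim _ _
  have : Module.Finite A (Wd (Fin (n + 1)) (Fin a) A e) := Module.Finite.iff_fg.2 (Fga.QA1.Wd_fg e)
  refine Fga.QA5.eq_of_le_of_isQuotRank (fun w hw => ?_) (Fga.QA5.isQuotRank_kd (num_card hΦ) hK hP ?_ hb)
    (isQuotRank_kerA hα)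
  · exact h _ hw
  · rwa [Fintype.card_fin]

lemma mem_pc_iff (hΦ : Num (n + 1) Φ) (hK : IsQuotPt L) (hP : Fga.HilbAsm1.HP Φ L) (he : bd (n + 1) Φ ≤ e)
    (hb : (b : ℤ) = Φ e) (hα : Sur α) (h : Kills α L) {w : W (Fin (n + 1)) (Fin a) A}
    (hw : w ∈ Wd (Fin (n + 1)) (Fin a) A e) : w ∈ L ↔ alev α w = 0 := by
  have h1 := SetLike.ext_iff.1 (kd_eq_kerA hΦ hK hP he hb hα h) ⟨w, hw⟩
  exact h1

lemma gen_of (hΦ : Num (n + 1) Φ) (hK : IsQuotPt L) (hP : Fga.HilbAsm1.HP Φ L) {d : ℕ} (hd : bd (n + 1) Φ ≤ d) :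
    Gen L d := by
  refine Fga.QA4Fin.gen (Φ := Φ) hK hP (num_card hΦ) ?_
  rwa [Fintype.card_fin]

/-- A point of Quot is contained in another one if this is so in one large degree. -/
theorem le_of_pc (hΦ : Num (n + 1) Φ) (hK : IsQuotPt L) (hP : Fga.HilbAsm1.HP Φ L) (hK' : IsQuotPt L')
    (he : bd (n + 1) Φ ≤ e) (h : pc L e ≤ pc L' e) : L ≤ L' := by
  have h1 : ∀ k, pc L (e + k) ≤ pc L' (e + k) := by
    intro k
    induction k with
    | zero => exact h
    | succ k ih =>
      intro w hw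
      obtain ⟨u, hu, rfl⟩ := gen_of hΦ hK hP (he.trans (Nat.le_add_right e k)) w hw
      refine ⟨Submodule.sum_mem _ fun i _ => L'.smul_mem _ (ih (hu i)).1, hw.2⟩
  refine hK.isHom.le_of_pc fun d w hw => ⟨hK'.isSat ⟨e, fun i => ?_⟩, hw.2⟩
  have h2 : (X i : MvPolynomial (Fin (n + 1)) A) ^ e • w ∈ pc L (e + d) :=
    ⟨L.smul_mem _ hw.1, X_pow_smul_mem_Wd i e hw.2⟩
  exact (h1 d h2).1

/-- Two points of Quot killed by the same surjective Kronecker module are equal. -/
theorem eq_of_kills (hΦ : Num (n + 1) Φ) (hK : IsQuotPt L) (hP : Fga.HilbAsm1.HP Φ L) (hK' : IsQuotPt L')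
    (hP' : Fga.HilbAsm1.HP Φ L') (he : bd (n + 1) Φ ≤ e) (hb : (b : ℤ) = Φ e) (hα : Sur α) (h : Kills α L)
    (h' : Kills α L') : L = L' := by
  have h1 : pc L e = pc L' e := by
    rw [← Fga.QA4BC.kd_eq_iff, kd_eq_kerA hΦ hK hP he hb hα h, kd_eq_kerA hΦ hK' hP' he hb hα h']
  exact le_antisymm (le_of_pc hΦ hK hP hK' he h1.le) (le_of_pc hΦ hK' hP' hK he h1.ge)

end Fam

section Mat

variable {A : Type*} [CommRing A]

/-- the action of a square matrix on `W` -/
noncomputable def gW (g : Matrix (Fin a) (Fin a) A) :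
    W (Fin (n + 1)) (Fin a) A →ₗ[MvPolynomial (Fin (n + 1)) A] W (Fin (n + 1)) (Fin a) A where
  toFun w i := ∑ j, MvPolynomial.C (g i j) * w j
  map_add' u w := by
    funext i
    simp only [Pi.add_apply, mul_add, Finset.sum_add_distrib]
  map_smul' c w := by
    funext i
    simp only [Pi.smul_apply, smul_eq_mul, RingHom.id_apply, Finset.mul_sum]
    exact Finset.sum_congr rfl fun j _ => by ring

lemma gW_apply (g : Matrix (Fin a) (Fin a) A) (w : W (Fin (n + 1)) (Fin a) A) (i : Fin a) :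
    gW g w i = ∑ j, MvPolynomial.C (g i j) * w j := rfl

lemma gW_mul (g g' : Matrix (Fin a) (Fin a) A) (w : W (Fin (n + 1)) (Fin a) A) : gW (g * g') w = gW g (gW g' w) := by
  funext i
  rw [gW_apply, gW_apply]
  have h1 : ∀ j, MvPolynomial.C (g i j) * gW g' w j = ∑ k, MvPolynomial.C (g i j) * (MvPolynomial.C (g' j k) * w k) :=
    fun j => by rw [gW_apply, Finset.mul_sum]
  simp only [h1]
  rw [Finset.sum_comm]
  refine Finset.sum_congr rfl fun k _ => ?_
  rw [Matrix.mul_apply, map_sum, Finset.sum_mul]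
  exact Finset.sum_congr rfl fun j _ => by rw [map_mul, mul_assoc]

lemma gW_one (w : W (Fin (n + 1)) (Fin a) A) : gW (1 : Matrix (Fin a) (Fin a) A) w = w := by
  funext i
  rw [gW_apply, Finset.sum_eq_single i]
  · rw [Matrix.one_apply_eq, map_one, one_mul]
  · intro j _ hj
    rw [Matrix.one_apply_ne (Ne.symm hj), map_zero, zero_mul]
  · intro h; exact absurd (Finset.mem_univ i) h

lemma gW_mem_Wd (g : Matrix (Fin a) (Fin a) A) {d : ℕ} {w : W (Fin (n + 1)) (Fin a) A}
    (hw : w ∈ Wd (Fin (n + 1)) (Fin a) A d) : gW g w ∈ Wd (Fin (n + 1)) (Fin a) A d := fun i =>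
  IsHomogeneous.sum _ _ _ fun j _ => (hw j).C_mul _

lemma comp_gW (g : Matrix (Fin a) (Fin a) A) (d : ℕ) (w : W (Fin (n + 1)) (Fin a) A) :
    comp d (gW g w) = gW g (comp d w) := by
  funext i
  rw [Fga.QA0.comp_apply, gW_apply, gW_apply, map_sum]
  refine Finset.sum_congr rfl fun j _ => ?_
  rw [homogeneousComponent_C_mul]
  rfl

lemma mapW_gW {B : Type*} [CommRing B] (φ : A →+* B) (g : Matrix (Fin a) (Fin a) A) (w : W (Fin (n + 1)) (Fin a) A) :
    mapW φ (gW g w) = gW (g.map φ) (mapW φ w) := by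
  funext i
  rw [mapW_apply, gW_apply, gW_apply, map_sum]
  refine Finset.sum_congr rfl fun j _ => ?_
  rw [map_mul, MvPolynomial.map_C, Matrix.map_apply, mapW_apply]

/-- `alev (k α g) w = k (alev α (g w))`. -/
lemma alev_act (k : Matrix (Fin b) (Fin b) A) (g : Matrix (Fin a) (Fin a) A) (α : Kr a b (hn n e) A)
    (w : W (Fin (n + 1)) (Fin a) A) : alev (act k g α) w = k.mulVec (alev α (gW g w)) := by
  funext i
  rw [alev_apply, Matrix.mulVec, dotProduct]
  have h1 : ∀ l, ∑ j, act k g α l i j * coeff (mu n e l).1 (w j) =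
      ∑ i', k i i' * ∑ j', α l i' j' * coeff (mu n e l).1 (gW g w j') := by
    intro l
    have h2 : ∀ j', coeff (mu n e l).1 (gW g w j') = ∑ j, g j' j * coeff (mu n e l).1 (w j) := by
      intro j'
      rw [gW_apply, coeff_sum]
      exact Finset.sum_congr rfl fun j _ => coeff_C_mul _ _ _
    simp only [h2]
    have h3 : ∀ j, act k g α l i j = ∑ i', ∑ j', k i i' * (α l i' j' * g j' j) := by
      intro j
      change (k * α l * g) i j = _
      rw [Matrix.mul_assoc, Matrix.mul_apply]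
      refine Finset.sum_congr rfl fun i' _ => ?_
      rw [Matrix.mul_apply, Finset.mul_sum]
    simp only [h3, Finset.sum_mul, Finset.mul_sum]
    rw [Finset.sum_comm]
    refine Finset.sum_congr rfl fun i' _ => ?_
    rw [Finset.sum_comm]
    refine Finset.sum_congr rfl fun j' _ => Finset.sum_congr rfl fun j _ => ?_
    ring
  rw [Finset.sum_congr rfl fun l _ => h1 l, Finset.sum_comm]
  refine Finset.sum_congr rfl fun i' _ => ?_
  rw [alev_apply, Finset.mul_sum]

/-- the action of an invertible matrix, as an equivalence -/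
noncomputable def gWe {g g' : Matrix (Fin a) (Fin a) A} (h : g * g' = 1) (h' : g' * g = 1) :
    W (Fin (n + 1)) (Fin a) A ≃ₗ[MvPolynomial (Fin (n + 1)) A] W (Fin (n + 1)) (Fin a) A where
  __ := gW g
  invFun := gW g'
  left_inv w := by
    change gW g' (gW g w) = w
    rw [← gW_mul, h', gW_one]
  right_inv w := by
    change gW g (gW g' w) = w
    rw [← gW_mul, h, gW_one]

variable {g g' : Matrix (Fin a) (Fin a) A} (h : g * g' = 1) (h' : g' * g = 1)
  (L : Submodule (MvPolynomial (Fin (n + 1)) A) (W (Fin (n + 1)) (Fin a) A))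

lemma isHom_comap (hL : IsHom L) (g : Matrix (Fin a) (Fin a) A) : IsHom (L.comap (gW g)) := by
  intro w hw d
  rw [Submodule.mem_comap, ← comp_gW]
  exact hL _ hw d

lemma isSat_comap (hL : IsSat L) (g : Matrix (Fin a) (Fin a) A) : IsSat (L.comap (gW g)) := by
  rintro w ⟨N, hN⟩
  refine hL ⟨N, fun i => ?_⟩
  rw [← map_smul]
  exact hN i

include h h' in
lemma bcSat_comap {B : Type*} [CommRing B] (φ : A →+* B) :
    bcSat φ (L.comap (gW g)) = (bcSat φ L).comap (gW (g.map φ)) := by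
  have h1 : g.map φ * g'.map φ = 1 := by rw [← Matrix.map_mul, h, Matrix.map_one _ (map_zero φ) (map_one φ)]
  have h2 : g'.map φ * g.map φ = 1 := by rw [← Matrix.map_mul, h', Matrix.map_one _ (map_zero φ) (map_one φ)]
  apply le_antisymm
  · have h3 : bc φ (L.comap (gW g)) ≤ (bcSat φ L).comap (gW (g.map φ)) := by
      rw [bc_le_iff]
      intro w hw
      rw [Submodule.mem_comap, ← mapW_gW]
      exact le_sat _ (mapW_mem_bc φ hw)
    have h4 := sat_mono h3
    rwa [(isSat_comap (bcSat φ L) (isSat_sat (bc φ L)) _).sat_eq] at h4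
  · have h3 : bc φ L ≤ (bcSat φ (L.comap (gW g))).comap (gW (g'.map φ)) := by
      rw [bc_le_iff]
      intro w hw
      rw [Submodule.mem_comap, ← mapW_gW]
      refine le_sat _ (mapW_mem_bc φ ?_)
      rw [Submodule.mem_comap, ← gW_mul, h, gW_one]
      exact hw
    have h4 := sat_mono h3
    rw [(isSat_comap (bcSat φ (L.comap (gW g))) (isSat_sat (bc φ (L.comap (gW g)))) _).sat_eq] at h4
    intro w hw
    have h5 := h4 hw
    rw [Submodule.mem_comap, ← gW_mul, h2, gW_one] at h5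
    exact h5

include h h' in
lemma isQuotPt_comap (hL : IsQuotPt L) : IsQuotPt (L.comap (gW g)) where
  isHom := isHom_comap L hL.isHom g
  isSat := isSat_comap L hL.isSat g
  flat i := by
    let P := Submonoid.powers (X i : MvPolynomial (Fin (n + 1)) A)
    let E : (W (Fin (n + 1)) (Fin a) A ⧸ L.comap (gW g)) ≃ₗ[MvPolynomial (Fin (n + 1)) A]
        (W (Fin (n + 1)) (Fin a) A ⧸ L) :=
      Submodule.Quotient.equiv _ _ (gWe h h') (Submodule.map_comap_eq_of_surjective (gWe h h').surjective L)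
    have h1 : IsLocalizedModule P
        ((LocalizedModule.mkLinearMap P (W (Fin (n + 1)) (Fin a) A ⧸ L)).comp E.toLinearMap) :=
      IsLocalizedModule.of_linearEquiv_right _ _ _
    let E' := IsLocalizedModule.linearEquiv P
      (LocalizedModule.mkLinearMap P (W (Fin (n + 1)) (Fin a) A ⧸ L.comap (gW g)))
      ((LocalizedModule.mkLinearMap P (W (Fin (n + 1)) (Fin a) A ⧸ L)).comp E.toLinearMap)
    have h2 := hL.flat i
    exact Module.Flat.of_linearEquiv (E'.restrictScalars A)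

end Mat

section MatHP

variable {A : Type u} [CommRing A] {g g' : Matrix (Fin a) (Fin a) A} (h : g * g' = 1) (h' : g' * g = 1)
  (L : Submodule (MvPolynomial (Fin (n + 1)) A) (W (Fin (n + 1)) (Fin a) A)) {Φ : ℤ → ℤ}

lemma h_comap {k : Type*} [Field k] {g g' : Matrix (Fin a) (Fin a) k} (h : g * g' = 1) (h' : g' * g = 1)
    (L : Submodule (MvPolynomial (Fin (n + 1)) k) (W (Fin (n + 1)) (Fin a) k)) (d : ℕ) :
    Fga.QA1.h (L.comap (gW g)) d = Fga.QA1.h L d := by
  have h1 : (pc (L.comap (gW g)) d).map ((gWe h h').toLinearMap.restrictScalars k) = pc L d := by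
    ext w
    constructor
    · rintro ⟨u, hu, rfl⟩
      exact ⟨hu.1, gW_mem_Wd g hu.2⟩
    · rintro hw
      refine ⟨gW g' w, ⟨?_, gW_mem_Wd g' hw.2⟩, ?_⟩
      · change gW g (gW g' w) ∈ L
        rw [← gW_mul, h, gW_one]
        exact hw.1
      · change gW g (gW g' w) = w
        rw [← gW_mul, h, gW_one]
  have h2 : Module.finrank k (pc (L.comap (gW g)) d) = Module.finrank k (pc L d) := by
    rw [← h1]
    exact (LinearEquiv.finrank_map_eq ((gWe h h').restrictScalars k) _).symm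
  rw [Fga.QA1.h, Fga.QA1.h, h2]

include h h' in
lemma hp_comap (hL : Fga.HilbAsm1.HP Φ L) : Fga.HilbAsm1.HP Φ (L.comap (gW g)) := by
  intro k _ φ
  obtain ⟨D, hD⟩ := hL k φ
  refine ⟨D, fun d hd => ?_⟩
  have h1 : g.map φ * g'.map φ = 1 := by rw [← Matrix.map_mul, h, Matrix.map_one _ (map_zero φ) (map_one φ)]
  have h2 : g'.map φ * g.map φ = 1 := by rw [← Matrix.map_mul, h', Matrix.map_one _ (map_zero φ) (map_one φ)]
  rw [bcSat_comap h h', h_comap h1 h2, hD d hd]

end MatHP

end K585.Alev
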