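import Groth.Agent.Coherent.K585.PtR

/-!
# Orbits and isomorphism classes

* `exists_matrix`, `frame_unique` : two frames of the same sheaf differ by a pair of invertible matrices;
* `rel_of_iso`, `iso_of_rel`.
-/

set_option autoImplicit false

universe u v

open CategoryTheory CategoryTheory.Limits AlgebraicGeometry Opposite MvPolynomial

namespace K585.RelR

open Groth.Agent Groth.Agent.Fga QA0 QA1 QTDefs QTPull QT4 QT4b QT5 QT6a QT6c QT8 K585.KronK K585.Alev K585.Coords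
  K585.Defs K585.PtQ K585.PtR K585.Sur K585.IsoCrit

section Alg

variable {R M : Type*} [CommRing R] [AddCommGroup M] [Module R M] {N : Submodule R M} {a : ℕ}

lemma IsBas.mem {ι : Type*} {v : ι → M} (h : IsBas N v) (i : ι) : v i ∈ N := by
  rw [← h.span]
  exact Submodule.subset_span ⟨i, rfl⟩

/-- Two bases differ by an invertible matrix. -/
lemma exists_matrix {v v' : Fin a → M} (h : IsBas N v) (h' : IsBas N v') :
    ∃ g g' : Matrix (Fin a) (Fin a) R, g * g' = 1 ∧ g' * g = 1 ∧ ∀ j, v' j = ∑ l, g l j • v l := by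
  have key : ∀ {u u' : Fin a → M}, IsBas N u → IsBas N u' → ∃ g : Matrix (Fin a) (Fin a) R, ∀ j, u' j = ∑ l, g l j • u l := by
    intro u u' h h'
    have h1 : ∀ j, u' j ∈ Submodule.span R (Set.range u) := fun j => by rw [h.span]; exact IsBas.mem h' j
    choose c hc using fun j => (Submodule.mem_span_range_iff_exists_fun R).1 (h1 j)
    exact ⟨fun l j => c j l, fun j => (hc j).symm⟩
  obtain ⟨g, hg⟩ := key h h'
  obtain ⟨g', hg'⟩ := key h' h
  have one : ∀ {u u' : Fin a → M} {g g' : Matrix (Fin a) (Fin a) R}, LinearIndependent R u → (∀ j, u' j = ∑ l, g l j • u l) →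
      (∀ j, u j = ∑ l, g' l j • u' l) → g * g' = 1 := by
    intro u u' g g' hu h1 h2
    ext i j
    have h3 : ∑ i, ((g * g') i j - (1 : Matrix (Fin a) (Fin a) R) i j) • u i = 0 := by
      simp only [sub_smul, Finset.sum_sub_distrib]
      rw [sub_eq_zero]
      have h4 : ∑ i, (1 : Matrix (Fin a) (Fin a) R) i j • u i = u j := by
        rw [Finset.sum_eq_single j]
        · rw [Matrix.one_apply_eq, one_smul]
        · intro l _ hl
          rw [Matrix.one_apply_ne hl, zero_smul]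
        · intro hj; exact absurd (Finset.mem_univ _) hj
      rw [h4]
      conv_rhs => rw [h2 j]
      simp only [h1, Finset.smul_sum, smul_smul]
      rw [Finset.sum_comm]
      refine Finset.sum_congr rfl fun l _ => ?_
      rw [Matrix.mul_apply, Finset.sum_smul]
      exact Finset.sum_congr rfl fun l' _ => by rw [mul_comm]
    exact sub_eq_zero.1 ((Fintype.linearIndependent_iff.1 hu) _ h3 i)
  exact ⟨g, g', one h.li hg hg', one h'.li hg' hg, hg⟩

end Alg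

section Frame

variable {n : ℕ} {Y : Scheme.{u}} {g : Y ⟶ PZ n} {A : Type u} [CommRing A] {q : Y ⟶ Spec (CommRingCat.of A)}
  {E : Y.Modules} {a b e N : ℕ}

/-- **Two frames of the same sheaf.** -/
theorem frame_unique {v v' : Fin a → Sec g q E} {w w' : Fin b → Sec g q E} {α α' : Kr a b (hn n e) A}
    (h : IsFrame g q E N e v w α) (h' : IsFrame g q E N e v' w' α') :
    ∃ (κ : Matrix (Fin b) (Fin b) A) (γ : Matrix (Fin a) (Fin a) A), IsUnit κ ∧ IsUnit γ ∧ α' = act κ γ α := by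
  obtain ⟨γ, γ', h1, h2, h3⟩ := exists_matrix h.v_bas h'.v_bas
  obtain ⟨κ, κ', h4, h5, h6⟩ := exists_matrix h'.w_bas h.w_bas
  refine ⟨κ, γ, ⟨⟨κ, κ', h4, h5⟩, rfl⟩, ⟨⟨γ, γ', h1, h2⟩, rfl⟩, ?_⟩
  funext l
  ext i j
  have h7 : ∑ i, (α' l i j - act κ γ α l i j) • w' i = 0 := by
    simp only [sub_smul, Finset.sum_sub_distrib]
    rw [sub_eq_zero, ← h'.kr l j, h3 j, map_sum]
    simp only [map_smul, h.kr l, Finset.smul_sum]
    simp only [h6, Finset.smul_sum, smul_smul]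
    rw [Finset.sum_comm]
    simp only [act]
    have h8 : ∀ i, (κ * α l * γ) i j • w' i = ∑ k, ∑ l', (γ l' j * α l k l' * κ i k) • w' i := by
      intro i
      rw [Matrix.mul_apply, Finset.sum_smul, Finset.sum_comm]
      refine Finset.sum_congr rfl fun l' _ => ?_
      rw [Matrix.mul_apply, Finset.sum_mul, Finset.sum_smul]
      exact Finset.sum_congr rfl fun k _ => by congr 1; ring
    simp only [h8]
    have h9 : ∀ (y : Fin b), ∑ x, ∑ i, (γ x j * (α l y x * κ i y)) • w' i = ∑ i, ∑ x, (γ x j * α l y x * κ i y) • w' i := by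
      intro y
      rw [Finset.sum_comm]
      exact Finset.sum_congr rfl fun i _ => Finset.sum_congr rfl fun x _ => by rw [mul_assoc]
    simp only [h9]
    exact Finset.sum_comm
  exact sub_eq_zero.1 ((Fintype.linearIndependent_iff.1 h'.w_bas.li) _ h7 i)

end Frame

section ActSys

variable {n : ℕ} {Y : Scheme.{u}} {g : Y ⟶ PZ n} {A : Type u} [CommRing A] {q : Y ⟶ Spec (CommRingCat.of A)}
  {E : Y.Modules} {a N : ℕ} (𝒱 : GenSys g E (Fin a) N)

variable (q) in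
/-- a system transformed by a matrix -/
noncomputable def actSys (γ : Matrix (Fin a) (Fin a) A) : GenSys g E (Fin a) N :=
  sysOf (q := q) (fun j => ∑ l, γ l j • secs q 𝒱 l) fun _ => Submodule.sum_mem _ fun l _ =>
    Submodule.smul_mem _ _ (secs_mem 𝒱 l)

lemma actSys_e (γ : Matrix (Fin a) (Fin a) A) (i : Fin (n + 1)) (j : Fin a) :
    (actSys q 𝒱 γ).e i j = ∑ l, QTDefs.coeff q (V g i) (γ l j) • 𝒱.e i l := by
  change (∑ l, γ l j • secs q 𝒱 l) i = _
  have h1 : ∀ (t : Finset (Fin a)) (c : Fin a → Sec g q E), (∑ l ∈ t, c l) i = ∑ l ∈ t, c l i := by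
    intro t c
    classical
    induction t using Finset.induction_on with
    | empty => rfl
    | insert x t hx ih =>
      rw [Finset.sum_insert hx, Finset.sum_insert hx, ← ih]
      rfl
  rw [h1]
  rfl

lemma sg_actSys (γ : Matrix (Fin a) (Fin a) A) (i : Fin (n + 1)) (w : W (Fin (n + 1)) (Fin a) A) :
    sg g q (actSys q 𝒱 γ) i w = sg g q 𝒱 i (gW γ w) := by
  rw [sg_apply, sg_apply]
  simp only [actSys_e, Finset.smul_sum, smul_smul]
  rw [Finset.sum_comm]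
  refine Finset.sum_congr rfl fun l _ => ?_
  rw [gW_apply, map_sum, Finset.sum_smul]
  refine Finset.sum_congr rfl fun j _ => ?_
  rw [map_mul, ev_C, mul_comm]

lemma grSub_actSys (γ : Matrix (Fin a) (Fin a) A) :
    grSub g q (actSys q 𝒱 γ) ⊥ = (grSub g q 𝒱 ⊥).comap (gW γ) := by
  ext w
  rw [Submodule.mem_comap, mem_grSub, mem_grSub]
  refine forall_congr' fun d => forall_congr' fun i => ?_
  rw [sg_actSys, comp_gW]

lemma gen_actSys {γ γ' : Matrix (Fin a) (Fin a) A} (h : γ * γ' = 1) (h𝒱 : 𝒱.Gen) : (actSys q 𝒱 γ).Gen := by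
  intro i
  rw [eq_top_iff, ← h𝒱 i, Submodule.span_le]
  rintro _ ⟨l, rfl⟩
  have h1 : 𝒱.e i l = ∑ j, QTDefs.coeff q (V g i) (γ' j l) • (actSys q 𝒱 γ).e i j := by
    simp only [actSys_e, Finset.smul_sum, smul_smul]
    rw [Finset.sum_comm]
    have h2 : ∀ m, ∑ j, (QTDefs.coeff q (V g i) (γ' j l) * QTDefs.coeff q (V g i) (γ m j)) • 𝒱.e i m =
        QTDefs.coeff q (V g i) ((1 : Matrix (Fin a) (Fin a) A) m l) • 𝒱.e i m := by
      intro m
      rw [← Finset.sum_smul, ← h, Matrix.mul_apply, map_sum]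
      congr 1
      exact Finset.sum_congr rfl fun j _ => by rw [map_mul, mul_comm]
    simp only [h2]
    rw [Finset.sum_eq_single l]
    · rw [Matrix.one_apply_eq, map_one, one_smul]
    · intro m _ hm
      rw [Matrix.one_apply_ne hm, map_zero, zero_smul]
    · intro hl; exact absurd (Finset.mem_univ _) hl
  rw [h1]
  exact Submodule.sum_mem _ fun j _ => Submodule.smul_mem _ _ (Submodule.subset_span ⟨j, rfl⟩)

end ActSys

section Points

variable {k : Type u} [Field k] {n m : ℕ} {X S : Scheme.{u}} {f : X ⟶ S} {g₀ : X ⟶ PZ n} [IsClosedImmersion (toPS g₀ f)]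
  {sS : S ⟶ Spec (CommRingCat.of k)} {Φ : ℤ → ℤ} {N e a b : ℕ} {p : Fin (m + 1) → Poly k a b (hn n e)}
  (𝓡 : RD f g₀ sS Φ N e a b p)

lemma crd_eq {B : Type u} [CommRing B] {h : ℕ} {S : Scheme.{u}} (x : Spec (CommRingCat.of B) ⟶ AS a b h S) :
    crd x = krMap (Scheme.ΓSpecIso (CommRingCat.of B)).inv.hom (cB x) := (inv_krMap (crd x)).symm

variable {B : Type u} [CommRing B] {x y : Spec (CommRingCat.of B) ⟶ 𝓡.R} {s : Spec (CommRingCat.of B) ⟶ S}
  (hs : x ≫ 𝓡.j ≫ prS a b (hn n e) S = s) (hs' : y ≫ 𝓡.j ≫ prS a b (hn n e) S = s)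

/-- The relation in terms of the coordinates. -/
lemma rel_iff : Rel 𝓡.j x y ↔ x ≫ 𝓡.j ≫ prS a b (hn n e) S = y ≫ 𝓡.j ≫ prS a b (hn n e) S ∧
    ∃ (κ : Matrix (Fin b) (Fin b) B) (γ : Matrix (Fin a) (Fin a) B), IsUnit κ ∧ IsUnit γ ∧
      cB (y ≫ 𝓡.j) = act κ γ (cB (x ≫ 𝓡.j)) := by
  refine and_congr_right fun _ => ?_
  let φ := (Scheme.ΓSpecIso (CommRingCat.of B)).hom.hom
  let ψ := (Scheme.ΓSpecIso (CommRingCat.of B)).inv.hom
  constructor
  · rintro ⟨κ, γ, h1, h2, h3⟩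
    refine ⟨φ.mapMatrix κ, φ.mapMatrix γ, h1.map _, h2.map _, ?_⟩
    rw [cB, h3, krMap_act]
    rfl
  · rintro ⟨κ, γ, h1, h2, h3⟩
    refine ⟨ψ.mapMatrix κ, ψ.mapMatrix γ, h1.map _, h2.map _, ?_⟩
    rw [crd_eq, h3, krMap_act, ← crd_eq]
    rfl

/-- **Isomorphic families differ by the group.** -/
theorem rel_of_iso {w : Fin b → Sec (gT f g₀ (Over.mk s)) (prB f s) (𝓡.Ex x hs)}
    {w' : Fin b → Sec (gT f g₀ (Over.mk s)) (prB f s) (𝓡.Ex y hs')}
    (fx : IsFrame (gT f g₀ (Over.mk s)) (prB f s) (𝓡.Ex x hs) N e (secs (prB f s) (𝓡.Vx x hs)) w (cB (x ≫ 𝓡.j)))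
    (fy : IsFrame (gT f g₀ (Over.mk s)) (prB f s) (𝓡.Ex y hs') N e (secs (prB f s) (𝓡.Vx y hs')) w' (cB (y ≫ 𝓡.j)))
    (θ : 𝓡.Ex x hs ≅ 𝓡.Ex y hs') : Rel 𝓡.j x y := by
  rw [rel_iff]
  refine ⟨hs.trans hs'.symm, ?_⟩
  exact frame_unique (IsFrame.map fx θ) fy

variable [IsAlgClosed k] (hΦ : Num (n + 1) (fun d => Φ (d + N))) (he : bd (n + 1) (fun d => Φ (d + N)) ≤ e)
  (hb : (b : ℤ) = Φ (e + N)) (ha : 0 < a)
  (king : ∀ α : Kr a b (hn n e) k, (∃ i, evr (RingHom.id k) α (p i) ≠ 0) ↔ IsSS α)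

include hΦ he hb ha king in
/-- **Points in the same orbit have isomorphic families.** -/
theorem iso_of_rel [IsNoetherianRing B] [LocallyOfFiniteType (s ≫ sS)] (h : Rel 𝓡.j x y) :
    Nonempty (𝓡.Ex x hs ≅ 𝓡.Ex y hs') := by
  obtain ⟨-, κ, γ, h1, ⟨⟨γ, γ', h3, h4⟩, rfl⟩, h2⟩ := (rel_iff 𝓡).1 h
  have hx : Kills (cB (x ≫ 𝓡.j)) (𝓡.D.L (.of B) (x ≫ 𝓡.z ≫ prS a b (hn n e) 𝓡.H.left)) := by
    have h5 := 𝓡.rep.cnd (.of B) x
    rw [← cB_asMap 𝓡.H.hom, Category.assoc] at h5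
    exact h5
  have hy : Kills (cB (y ≫ 𝓡.j)) (𝓡.D.L (.of B) (y ≫ 𝓡.z ≫ prS a b (hn n e) 𝓡.H.left)) := by
    have h5 := 𝓡.rep.cnd (.of B) y
    rw [← cB_asMap 𝓡.H.hom, Category.assoc] at h5
    exact h5
  have hSy : Sur (cB (y ≫ 𝓡.j)) := by
    have : LocallyOfFiniteType ((y ≫ 𝓡.j) ≫ prS a b (hn n e) S ≫ sS) := by
      rw [Category.assoc, ← Category.assoc 𝓡.j, ← Category.assoc y, hs']
      infer_instance
    refine sur_of_range sS king ha (y ≫ 𝓡.j) ?_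
    rintro _ ⟨t, rfl⟩
    rw [Scheme.Hom.comp_apply]
    exact 𝓡.rep.range ⟨y t, rfl⟩
  have hL : (𝓡.D.L (.of B) (x ≫ 𝓡.z ≫ prS a b (hn n e) 𝓡.H.left)).comap (gW γ) =
      𝓡.D.L (.of B) (y ≫ 𝓡.z ≫ prS a b (hn n e) 𝓡.H.left) := by
    refine eq_of_kills hΦ (isQuotPt_comap h3 h4 _ (𝓡.D.quot _ _)) (hp_comap h3 h4 _ (𝓡.D.hp _ _)) (𝓡.D.quot _ _)
      (𝓡.D.hp _ _) he hb hSy ?_ hy
    intro w hw
    rw [h2, alev_act, hx _ hw, Matrix.mulVec_zero]
  obtain ⟨θ, -⟩ := iso_of_grSub (prB f s) (𝓡.isCoh_Ex x hs).1 (𝓡.isCoh_Ex y hs').1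
    (gen_actSys (q := prB f s) (𝓡.Vx x hs) h3 (𝓡.gen_Vx x hs)) (𝓡.gen_Vx y hs') (by
      rw [grSub_actSys, 𝓡.grSub_Vx x hs, 𝓡.grSub_Vx y hs', hL])
  exact ⟨θ⟩

end Points

end K585.RelR
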