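import Groth.Agent.Coherent.K585.Loc
import Groth.Agent.Coherent.K585.RelR

/-!
# The atlas of the moduli problem

* `Rel.comp`, `rel_act` : the relation for points and the group;
* `ft_TR` : `R` is separated and of finite type over the field;
* `atlas` : `R`, its family and its quotient form an `Atlas` (given frames at the points and admissibility of the family).
-/

set_option autoImplicit false

universe u v

open CategoryTheory CategoryTheory.Limits AlgebraicGeometry Opposite MvPolynomial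

namespace K585.Atl

open Groth.Agent Groth.Agent.Fga QA0 QA1 QTDefs QTPull QT4 QT4b QT5 QT6a QT6c QT8 K585.KronK K585.Alev K585.Coords
  K585.Defs K585.Sur K585.PtR K585.PtQ K585.RepR K585.RelR K585.Good K585.Setup K585.Loc

variable {k : Type u} [Field k]

section Rel

variable {a b h : ℕ} {S R : Scheme.{u}} {j : R ⟶ AS a b h S} {sS : S ⟶ Spec (CommRingCat.of k)}

lemma rel_comp {T T' : Scheme.{u}} {x y : T ⟶ R} (hxy : Rel j x y) (t : T' ⟶ T) : Rel j (t ≫ x) (t ≫ y) := by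
  obtain ⟨h1, κ, γ, h2, h3, h4⟩ := hxy
  refine ⟨by rw [Category.assoc, h1, Category.assoc], (t.appTop.hom).mapMatrix κ, (t.appTop.hom).mapMatrix γ,
    h2.map _, h3.map _, ?_⟩
  rw [Category.assoc, Category.assoc, crd_comp t (y ≫ j), crd_comp t (x ≫ j), h4, krMap_act]
  rfl

/-- the action on points -/
lemma rel_act {γ : R ⟶ R} (hγ : IsAct sS j γ) {T : Scheme.{u}} (x : T ⟶ R) : Rel j x (x ≫ γ) := by
  obtain ⟨κ, g, hκ, hg, h1⟩ := hγ
  refine ⟨?_, κ.map (sOf ((x ≫ j) ≫ prS a b h S ≫ sS)), g.map (sOf ((x ≫ j) ≫ prS a b h S ≫ sS)), ?_, ?_, ?_⟩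
  · rw [Category.assoc, ← Category.assoc γ, h1, Category.assoc, actS_prS]
  · rw [Matrix.isUnit_iff_isUnit_det, ← RingHom.mapMatrix_apply, ← RingHom.map_det]
    exact (isUnit_iff_ne_zero.2 hκ).map _
  · rw [Matrix.isUnit_iff_isUnit_det, ← RingHom.mapMatrix_apply, ← RingHom.map_det]
    exact (isUnit_iff_ne_zero.2 hg).map _
  · rw [Category.assoc, h1, ← Category.assoc, crd_actS]

lemma act_hom {γ : R ⟶ R} (hγ : IsAct sS j γ) : γ ≫ j ≫ prS a b h S = j ≫ prS a b h S := by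
  obtain ⟨κ, g, -, -, h1⟩ := hγ
  rw [← Category.assoc, h1, Category.assoc, actS_prS]

end Rel

variable {n m : ℕ} {X S : Scheme.{u}} {f : X ⟶ S} {g₀ : X ⟶ PZ n}
  [IsClosedImmersion (toPS g₀ f)] {sS : S ⟶ Spec (CommRingCat.of k)} {P : Polynomial ℚ} {Φ : ℤ → ℤ} {N e a b : ℕ}
  {p : Fin (m + 1) → Poly k a b (hn n e)} (𝓡 : RD f g₀ sS Φ N e a b p)

/-- There are frames at the points of `R`. -/
def HasFr : Prop := ∀ {B : Type u} [CommRing B] {s : Spec (CommRingCat.of B) ⟶ S} [LocallyOfFiniteType (s ≫ sS)]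
    (x : Spec (CommRingCat.of B) ⟶ 𝓡.R) (hs : x ≫ 𝓡.j ≫ prS a b (hn n e) S = s),
    ∃ w, IsFrame (gT f g₀ (Over.mk s)) (prB f s) (𝓡.Ex x hs) N e (secs (prB f s) (𝓡.Vx x hs)) w
      (cB (B := .of B) (x ≫ 𝓡.j))

variable {𝓡} in
/-- Isomorphic families differ by the group. -/
lemma rel_of_iso' (hfr : HasFr 𝓡) {B : Type u} [CommRing B] (s : Spec (CommRingCat.of B) ⟶ S)
    [LocallyOfFiniteType (s ≫ sS)] (x y : Over.mk s ⟶ 𝓡.TR)
    (h : Nonempty ((Scheme.Modules.pullback (PicF.XTmap f x)).obj 𝓡.ER ≅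
      (Scheme.Modules.pullback (PicF.XTmap f y)).obj 𝓡.ER)) : Rel 𝓡.j x.left y.left := by
  have hx : x.left ≫ 𝓡.j ≫ prS a b (hn n e) S = s := Over.w x
  have hy : y.left ≫ 𝓡.j ≫ prS a b (hn n e) S = s := Over.w y
  obtain ⟨w, hw⟩ := hfr x.left hx
  obtain ⟨w', hw'⟩ := hfr y.left hy
  obtain ⟨θ⟩ := h
  exact rel_of_iso 𝓡 hx hy hw hw' θ

lemma ft_TR [LocallyOfFiniteType sS] [QuasiCompact sS] [IsSeparated sS] [IsImmersion 𝓡.j] :
    W4c2simpsonmod1.ftOver sS 𝓡.TR := by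
  have hSN : IsLocallyNoetherian S := isLocallyNoetherian_base sS
  have hSc : CompactSpace S := QuasiCompact.compactSpace_of_compactSpace sS
  have hSN' : IsNoetherian S := {}
  have h1 : LocallyOfFiniteType (prS a b (hn n e) S) := inferInstance
  have hA : IsLocallyNoetherian (AS a b (hn n e) S) := LocallyOfFiniteType.isLocallyNoetherian (prS a b (hn n e) S)
  have hAc : CompactSpace (AS a b (hn n e) S) :=
    QuasiCompact.compactSpace_of_compactSpace (prS a b (hn n e) S)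
  have hAN : IsNoetherian (AS a b (hn n e) S) := {}
  have hNS : TopologicalSpace.NoetherianSpace (AS a b (hn n e) S) := inferInstance
  have hRS : TopologicalSpace.NoetherianSpace 𝓡.R :=
    (Scheme.Hom.isEmbedding 𝓡.j).isInducing.noetherianSpace
  have hq : QuasiCompact 𝓡.j := inferInstance
  have e1 : 𝓡.TR.hom ≫ sS = 𝓡.j ≫ prS a b (hn n e) S ≫ sS := Category.assoc _ _ _
  unfold W4c2simpsonmod1.ftOver
  rw [e1]
  exact ⟨inferInstance, inferInstance, inferInstance⟩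

/-- **The atlas.** -/
theorem atlas [IsAlgClosed k] [LocallyOfFiniteType sS] [QuasiCompact sS] [IsSeparated sS]
    {M : Scheme.{u}} {c : M ⟶ CohB1.ProjSpaceOver m S} {π : 𝓡.R ⟶ M} (hS : IsSetup 𝓡 c π) (G : Good k n P Φ N e a b)
    (hadm : Adm f sS g₀ P 𝓡.TR 𝓡.ER) (hfr : HasFr 𝓡) :
    Atlas f g₀ sS P (R := 𝓡.TR) (M := Over.mk (c ≫ CohB1.ProjSpaceOver.toBase m S)) 𝓡.ER
      (Over.homMk π hS.quot.comp) (IsAct sS 𝓡.j) where
  ft := by
    have := hS.imm
    exact ft_TR 𝓡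
  adm := hadm
  hov γ hγ := act_hom hγ
  loc s _ E hE y := exists_loc 𝓡 G hS.king hE y
  rel s _ x y h := by
    apply Over.OverMorphism.ext
    exact hS.quot.rel _ _ _ (rel_of_iso' hfr s x y h)
  inv γ hγ B _ s _ x y hxy := by
    have hx : x.left ≫ 𝓡.j ≫ prS a b (hn n e) S = s := Over.w x
    have hy : y.left ≫ 𝓡.j ≫ prS a b (hn n e) S = s := Over.w y
    have hBN : IsNoetherianRing B := by
      have hKN : IsLocallyNoetherian (Spec (CommRingCat.of k)) := isLocallyNoetherian_Spec.2 inferInstance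
      have h1 : IsLocallyNoetherian (Spec (CommRingCat.of B)) := LocallyOfFiniteType.isLocallyNoetherian (s ≫ sS)
      exact isLocallyNoetherian_Spec.1 h1
    have hb : (b : ℤ) = Φ (e + N) := by
      have := G.Φ_eq (e + N)
      have h4 := G.hb
      have h5 : ((e + N : ℤ) : ℚ) = ((N + e : ℕ) : ℚ) := by push_cast; ring
      rw [h5, ← h4] at this
      exact_mod_cast this.symm
    have h1 : Rel 𝓡.j x.left y.left := by
      rw [hxy]
      exact rel_act hγ x.left
    obtain ⟨θ⟩ := iso_of_rel 𝓡 hx hy G.num' G.he hb G.apos hS.king h1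
    exact ⟨θ.symm⟩
  cat T ψ hψ := hS.quot.cat T ψ hψ

end K585.Atl
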