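import Groth.Agent.Coherent.K585.Coords
import Groth.Agent.Fga.ClosedSub
import Groth.Agent.Fga.NoethRep

/-!
# The closed condition `α (L_e) = 0`

`QD n a Φ H`: a family of points of Quot (graded submodules) over the Noetherian affine points of `H`, separating them.
`Cnd D x` for `x : T ⟶ AS a b h H`: at all Noetherian affine points of `T` the Kronecker module kills the submodule.
`exists_closed`: it is represented by a closed subscheme of `AS a b h H`.
-/

set_option autoImplicit false

universe u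

open CategoryTheory CategoryTheory.Limits AlgebraicGeometry MvPolynomial

namespace K585.ClosedR

open Groth.Agent Fga.QA0 Fga.QA1 Fga.HilbAsm1 Fga.ClosedSub Fga.NoethRep K585.KronK K585.Defs K585.Alev K585.Coords

variable {S : Scheme.{u}} {n a b e : ℕ} {Φ : ℤ → ℤ}

/-- A family of points of Quot over the Noetherian affine points of `H`. -/
structure QD (n a : ℕ) {S : Scheme.{u}} (Φ : ℤ → ℤ) (H : Over S) where
  L : ∀ (B : CommRingCat.{u}) [IsNoetherianRing B] (_ : Spec B ⟶ H.left),
    Submodule (MvPolynomial (Fin (n + 1)) B) (W (Fin (n + 1)) (Fin a) B)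
  nat : ∀ (B C : CommRingCat.{u}) [IsNoetherianRing B] [IsNoetherianRing C] (φ : B ⟶ C) (v : Spec B ⟶ H.left),
    L C (Spec.map φ ≫ v) = bcSat φ.hom (L B v)
  quot : ∀ (B : CommRingCat.{u}) [IsNoetherianRing B] (v : Spec B ⟶ H.left), IsQuotPt (L B v)
  hp : ∀ (B : CommRingCat.{u}) [IsNoetherianRing B] (v : Spec B ⟶ H.left), HP Φ (L B v)
  inj : ∀ (B : CommRingCat.{u}) [IsNoetherianRing B] (v v' : Spec B ⟶ H.left), v ≫ H.hom = v' ≫ H.hom →
    L B v = L B v' → v = v'

variable {H : Over S} (D : QD n a Φ H)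

instance {h : ℕ} {T : Scheme.{u}} [IsLocallyNoetherian T] : IsLocallyNoetherian (AS a b h T) :=
  LocallyOfFiniteType.isLocallyNoetherian (prS a b h T)

/-- The Kronecker module kills the submodule at all Noetherian affine points. -/
def Cnd {T : Scheme.{u}} (x : T ⟶ AS a b (hn n e) H.left) : Prop :=
  ∀ (B : CommRingCat.{u}) [IsNoetherianRing B] (u : Spec B ⟶ T),
    Kills (cB (u ≫ x)) (D.L B (u ≫ x ≫ prS a b (hn n e) H.left))

variable {D}

lemma Cnd.comp {T T' : Scheme.{u}} {x : T ⟶ AS a b (hn n e) H.left} (hx : Cnd D x) (j : T' ⟶ T) : Cnd D (j ≫ x) := by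
  intro B _ u
  have := hx B (u ≫ j)
  simpa only [Category.assoc] using this

/-- On affine schemes. -/
lemma cnd_iff (hΦ : Num (n + 1) Φ) (he : bd (n + 1) Φ ≤ e) {A : CommRingCat.{u}} [IsNoetherianRing A]
    (x : Spec A ⟶ AS a b (hn n e) H.left) :
    Cnd D x ↔ Kills (cB x) (D.L A (x ≫ prS a b (hn n e) H.left)) := by
  constructor
  · intro h
    have := h A (𝟙 _)
    simpa only [Category.id_comp] using this
  · intro h B _ u
    obtain ⟨φ, rfl⟩ := Spec.map_surjective u
    rw [cB_comp, D.nat]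
    exact kills_bcSat hΦ (D.quot _ _) (D.hp _ _) he φ.hom h

lemma cnd_spec_iff (hΦ : Num (n + 1) Φ) (he : bd (n + 1) Φ ≤ e) {A B : CommRingCat.{u}} [IsNoetherianRing A]
    [IsNoetherianRing B] (φ : A ⟶ B) (x : Spec A ⟶ AS a b (hn n e) H.left) :
    Cnd D (Spec.map φ ≫ x) ↔ ∀ w ∈ D.L A (x ≫ prS a b (hn n e) H.left), ∀ k, φ.hom (alev (cB x) w k) = 0 := by
  rw [cnd_iff hΦ he, cB_comp, Category.assoc, D.nat]
  constructor
  · intro h w hw k
    exact kills_of_bc φ.hom (h.mono (le_sat _)) hw k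
  · intro h
    exact kills_bcSat' hΦ (D.quot _ _) (D.hp _ _) he φ.hom h

lemma isClosedCond [IsLocallyNoetherian H.left] (hΦ : Num (n + 1) Φ) (he : bd (n + 1) Φ ≤ e) :
    IsClosedCond (AS a b (hn n e) H.left) IsLocallyNoetherian (fun {_} x => Cnd D x) where
  comp j _ _ _ h := h.comp j
  loc {T} x hT h := by
    intro B _ u
    intro w hw
    funext k
    -- locally zero
    have key : ∀ p : PrimeSpectrum B, ∃ f : B, f ∉ p.asIdeal ∧
        algebraMap B (Localization.Away f) (alev (cB (u ≫ x)) w k) = 0 := by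
      intro p
      obtain ⟨V, hV, hc⟩ := h (u p)
      obtain ⟨_, ⟨_, ⟨f, rfl⟩, rfl⟩, hpf, hfV⟩ := PrimeSpectrum.isBasis_basic_opens.exists_subset_of_mem_open
        (show p ∈ (u ⁻¹ᵁ V : Set (Spec B)) from hV) (u ⁻¹ᵁ V).isOpen
      refine ⟨f, hpf, ?_⟩
      let C : CommRingCat.{u} := CommRingCat.of (Localization.Away f)
      have hC : IsNoetherianRing C := inferInstanceAs (IsNoetherianRing (Localization.Away f))
      let φ : B ⟶ C := CommRingCat.ofHom (algebraMap B (Localization.Away f))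
      have hr : Set.range (Spec.map φ ≫ u) ⊆ Set.range V.ι := by
        rw [Scheme.Opens.range_ι]
        rintro _ ⟨z, rfl⟩
        have hz : Spec.map φ z ∈ PrimeSpectrum.basicOpen f := by
          have := PrimeSpectrum.localization_away_comap_range (Localization.Away f) f
          have h2 : (Spec.map φ z : PrimeSpectrum B) ∈ Set.range (PrimeSpectrum.comap (algebraMap B (Localization.Away f))) :=
            ⟨z, rfl⟩
          rw [this] at h2
          exact h2
        exact hfV hz
      let u' : Spec C ⟶ V.toScheme := IsOpenImmersion.lift V.ι (Spec.map φ ≫ u) hr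
      have hu' : u' ≫ V.ι = Spec.map φ ≫ u := IsOpenImmersion.lift_fac _ _ _
      have h1 := hc C u'
      have e1 : u' ≫ V.ι ≫ x = Spec.map φ ≫ u ≫ x := by rw [← Category.assoc, hu', Category.assoc]
      have e2 : u' ≫ (V.ι ≫ x) ≫ prS a b (hn n e) H.left =
          Spec.map φ ≫ u ≫ x ≫ prS a b (hn n e) H.left := by
        rw [← Category.assoc, e1]
        simp only [Category.assoc]
      rw [e1, cB_comp, e2, D.nat] at h1
      exact kills_of_bc φ.hom (h1.mono (le_sat _)) hw k
    -- hence zero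
    choose f hf hf0 using key
    have hspan : Ideal.span (Set.range f) = ⊤ := by
      by_contra hne
      obtain ⟨m, hm, hle⟩ := Ideal.exists_le_maximal _ hne
      exact hf ⟨m, hm.isPrime⟩ (hle (Ideal.subset_span ⟨_, rfl⟩))
    have hann : ∀ p, ∃ N : ℕ, f p ^ N * alev (cB (u ≫ x)) w k = 0 := by
      intro p
      have h1 := hf0 p
      rw [IsLocalization.map_eq_zero_iff (Submonoid.powers (f p))] at h1
      obtain ⟨⟨_, N, rfl⟩, h2⟩ := h1
      exact ⟨N, h2⟩
    refine (Submodule.mem_bot B).1 ?_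
    refine Submodule.mem_of_span_eq_top_of_smul_pow_mem ⊥ (Set.range f) hspan _ ?_
    rintro ⟨_, p, rfl⟩
    obtain ⟨N, hN⟩ := hann p
    exact ⟨N, (Submodule.mem_bot B).2 hN⟩
  aff x := by
    obtain ⟨A, hA, v, hv, hx, -⟩ := exists_aff (AS a b (hn n e) H.left) x ⊤ trivial
    let I : Ideal A := Ideal.span {c | ∃ w ∈ D.L A (v ≫ prS a b (hn n e) H.left), ∃ k, c = alev (cB v) w k}
    refine ⟨A, v, hv, hx, I, fun B φ hB => ?_⟩
    have hB' : IsNoetherianRing B := isLocallyNoetherian_Spec.1 hB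
    rw [cnd_spec_iff hΦ he]
    constructor
    · intro h c hc
      have : I ≤ RingHom.ker φ.hom := by
        rw [Ideal.span_le]
        rintro _ ⟨w, hw, k, rfl⟩
        exact h w hw k
      exact this hc
    · intro h w hw k
      exact h _ (Ideal.subset_span ⟨w, hw, k, rfl⟩)

variable (D) in
/-- The condition is represented by a closed subscheme. -/
theorem exists_closedR [IsLocallyNoetherian H.left] (hΦ : Num (n + 1) Φ) (he : bd (n + 1) Φ ≤ e) (b : ℕ) :
    ∃ (Z : Scheme.{u}) (i : Z ⟶ AS a b (hn n e) H.left), IsClosedImmersion i ∧ IsLocallyNoetherian Z ∧ Cnd D i ∧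
      ∀ {T : Scheme.{u}} (x : T ⟶ AS a b (hn n e) H.left), IsLocallyNoetherian T →
        (Cnd D x ↔ ∃ y : T ⟶ Z, y ≫ i = x) := by
  obtain ⟨Z, i, hi, hN, hP, hPi⟩ := Fga.ClosedSub.exists_closed (TestClass.noetherian (AS a b (hn n e) H.left))
    (isClosedCond (D := D) (b := b) hΦ he)
  exact ⟨Z, i, hi, hN, hP, fun x hx => hPi x hx⟩

end K585.ClosedR
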