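import Groth.Agent.Coherent.K585.Alev

/-!
# Points of the affine space of Kronecker modules

`crd_pt`, `pt_crd`, `ext_pt`, `crd_comp`, `comp_pt`, `asMap`, `crd_asMap`, `cB` (coordinates of an affine point),
`app_fn : x^* (fn p) = evr (..) (crd x) p`, `mem_ssOpen_iff` for points with values in a field.
-/

set_option autoImplicit false

universe u

open CategoryTheory CategoryTheory.Limits AlgebraicGeometry MvPolynomial

namespace K585.Coords

open K585.KronK K585.Defs K585.Alev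

variable {a b h : ℕ} {S T T' : Scheme.{u}}

@[simp] lemma pt_prS (t : T ⟶ S) (α : Kr a b h Γ(T, ⊤)) : pt t α ≫ prS a b h S = t :=
  AffineSpace.homOfVector_over _ _

@[simp] lemma crd_pt (t : T ⟶ S) (α : Kr a b h Γ(T, ⊤)) : crd (pt t α) = α := by
  funext l
  ext i j
  exact AffineSpace.homOfVector_appTop_coord _ _ _

lemma ext_pt {x y : T ⟶ AS a b h S} (h1 : x ≫ prS a b h S = y ≫ prS a b h S) (h2 : crd x = crd y) : x = y := by
  refine AffineSpace.hom_ext h1 fun p => ?_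
  exact congrFun (congrFun (congrFun h2 p.down.1) p.down.2.1) p.down.2.2

lemma pt_crd (x : T ⟶ AS a b h S) : pt (x ≫ prS a b h S) (crd x) = x :=
  ext_pt (pt_prS _ _) (crd_pt _ _)

lemma crd_comp (u : T' ⟶ T) (x : T ⟶ AS a b h S) : crd (u ≫ x) = krMap (u.appTop).hom (crd x) := by
  funext l
  ext i j
  change (u ≫ x).appTop _ = (u.appTop).hom (x.appTop _)
  rw [Scheme.Hom.comp_appTop]
  rfl

lemma comp_pt (u : T' ⟶ T) (t : T ⟶ S) (α : Kr a b h Γ(T, ⊤)) :
    u ≫ pt t α = pt (u ≫ t) (krMap (u.appTop).hom α) := by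
  refine ext_pt ?_ ?_
  · rw [Category.assoc, pt_prS, pt_prS]
  · rw [crd_comp, crd_pt, crd_pt]

/-- functoriality in the base -/
noncomputable def asMap (a b h : ℕ) (f : T ⟶ S) : AS a b h T ⟶ AS a b h S :=
  AffineSpace.map (ULift.{u} (Idx a b h)) f

lemma asMap_prS (f : T ⟶ S) : asMap a b h f ≫ prS a b h S = prS a b h T ≫ f := AffineSpace.map_over f

lemma crd_asMap (f : T ⟶ S) (x : T' ⟶ AS a b h T) : crd (x ≫ asMap a b h f) = crd x := by
  have h1 : crd (asMap a b h f) = crd (𝟙 (AS a b h T)) := by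
    funext l
    ext i j
    change (AffineSpace.map _ f).appTop _ = (𝟙 (AS a b h T) : _ ⟶ _).appTop _
    rw [Scheme.Hom.id_appTop]
    exact AffineSpace.map_appTop_coord f _
  rw [crd_comp, h1, ← crd_comp, Category.comp_id]

/-- coordinates of an affine point -/
noncomputable def cB {B : CommRingCat.{u}} (x : Spec B ⟶ AS a b h S) : Kr a b h B :=
  krMap (Scheme.ΓSpecIso B).hom.hom (crd x)

lemma krMap_krMap {A B C : Type*} [CommRing A] [CommRing B] [CommRing C] (φ : A →+* B) (ψ : B →+* C)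
    (α : Kr a b h A) : krMap ψ (krMap φ α) = krMap (ψ.comp φ) α := rfl

lemma krMap_id {A : Type*} [CommRing A] (α : Kr a b h A) : krMap (RingHom.id A) α = α := rfl

lemma cB_comp {B C : CommRingCat.{u}} (φ : B ⟶ C) (x : Spec B ⟶ AS a b h S) :
    cB (Spec.map φ ≫ x) = krMap φ.hom (cB x) := by
  rw [cB, cB, crd_comp, krMap_krMap, krMap_krMap]
  congr 1
  rw [← CommRingCat.hom_comp, ← CommRingCat.hom_comp]
  congr 1
  exact (Scheme.ΓSpecIso_naturality φ)

lemma cB_asMap {B : CommRingCat.{u}} (f : T ⟶ S) (x : Spec B ⟶ AS a b h T) : cB (x ≫ asMap a b h f) = cB x := by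
  rw [cB, cB, crd_asMap]

lemma krMap_inv {B : CommRingCat.{u}} (α : Kr a b h B) :
    krMap (Scheme.ΓSpecIso B).hom.hom (krMap (Scheme.ΓSpecIso B).inv.hom α) = α := by
  rw [krMap_krMap, ← CommRingCat.hom_comp, Iso.inv_hom_id]
  rfl

lemma inv_krMap {B : CommRingCat.{u}} (α : Kr a b h Γ(Spec B, ⊤)) :
    krMap (Scheme.ΓSpecIso B).inv.hom (krMap (Scheme.ΓSpecIso B).hom.hom α) = α := by
  rw [krMap_krMap, ← CommRingCat.hom_comp, Iso.hom_inv_id]
  rfl

/-- the affine point with given coordinates -/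
noncomputable def ptB {B : CommRingCat.{u}} (t : Spec B ⟶ S) (α : Kr a b h B) : Spec B ⟶ AS a b h S :=
  pt t (krMap (Scheme.ΓSpecIso B).inv.hom α)

@[simp] lemma ptB_prS {B : CommRingCat.{u}} (t : Spec B ⟶ S) (α : Kr a b h B) : ptB t α ≫ prS a b h S = t :=
  pt_prS _ _

@[simp] lemma cB_ptB {B : CommRingCat.{u}} (t : Spec B ⟶ S) (α : Kr a b h B) : cB (ptB t α) = α := by
  rw [cB, ptB, crd_pt, krMap_inv]

lemma cB_injective {B : CommRingCat.{u}} {x y : Spec B ⟶ AS a b h S} (h1 : x ≫ prS a b h S = y ≫ prS a b h S)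
    (h2 : cB x = cB y) : x = y := by
  refine ext_pt h1 ?_
  rw [← inv_krMap (crd x), ← inv_krMap (crd y)]
  exact congrArg _ h2

variable {K : Type u} [Field K] (sS : S ⟶ Spec (CommRingCat.of K))

/-- the structure map `K → B` of an affine point of the base -/
noncomputable def sB {B : CommRingCat.{u}} (t : Spec B ⟶ Spec (CommRingCat.of K)) : K →+* B :=
  (Scheme.ΓSpecIso B).hom.hom.comp (sOf t)

lemma sOf_comp (u : T' ⟶ T) (t : T ⟶ Spec (CommRingCat.of K)) : sOf (u ≫ t) = (u.appTop).hom.comp (sOf t) := by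
  rw [sOf, sOf, Scheme.Hom.comp_appTop]
  rfl

lemma evr_krMap {A B : Type*} [CommRing A] [CommRing B] (c : K →+* A) (φ : A →+* B) (α : Kr a b h A)
    (p : Poly K a b h) : evr (φ.comp c) (krMap φ α) p = φ (evr c α p) := by
  rw [evr, evr, coe_eval₂Hom, coe_eval₂Hom, hom_eval₂]
  rfl

/-- the function `fn p` at a point -/
lemma app_fn (x : T ⟶ AS a b h S) (p : Poly K a b h) :
    x.appTop (fn sS p) = evr (sOf (x ≫ prS a b h S ≫ sS)) (crd x) p := by
  rw [sOf_comp]
  have h1 : crd x = krMap (x.appTop).hom (crd (𝟙 (AS a b h S))) := by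
    rw [← crd_comp, Category.comp_id]
  rw [h1, evr_krMap]
  rfl

lemma mem_ssOpen_iff {m : ℕ} (f : Fin (m + 1) → Poly K a b h) {L : Type u} [Field L]
    (x : Spec (CommRingCat.of L) ⟶ AS a b h S) (z : Spec (CommRingCat.of L)) :
    x z ∈ ssOpen sS f ↔ ∃ i, evr (sB (x ≫ prS a b h S ≫ sS)) (cB x) (f i) ≠ 0 := by
  rw [ssOpen, TopologicalSpace.Opens.mem_iSup]
  refine exists_congr fun i => ?_
  have h1 : x z ∈ (AS a b h S).basicOpen (fn sS (f i)) ↔
      z ∈ (Spec (CommRingCat.of L)).basicOpen (x.appTop (fn sS (f i))) := by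
    rw [← Scheme.preimage_basicOpen_top]
    rfl
  rw [h1, app_fn, sB, cB, evr_krMap]
  have h2 : ∀ c : Γ(Spec (CommRingCat.of L), ⊤), z ∈ (Spec (CommRingCat.of L)).basicOpen c ↔
      (Scheme.ΓSpecIso (CommRingCat.of L)).hom.hom c ≠ 0 := by
    intro c
    rw [basicOpen_eq_of_affine']
    change (Scheme.ΓSpecIso (CommRingCat.of L)).hom c ∉ z.asIdeal ↔ _
    have h3 : z.asIdeal = ⊥ := by
      have : IsField L := Field.toIsField L
      exact Ideal.eq_bot_of_prime (K := L) z.asIdeal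
    rw [h3]
    rfl
  rw [h2]

end K585.Coords
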