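import Groth.Agent.Coherent.K585.Loc
import Groth.Agent.Coherent.K585.RelR
import Groth.Agent.Coherent.K922.FrmW
import Groth.Agent.Coherent.K92.SimpMT

/-!
# The universal family at the points of `R`

* `ssh_pt` : at a `k`-point the family is semistable and its sections are independent;
* `adm_R` : the universal family is admissible;
* `frame_pt` : frames at the points with values in algebras of finite type.
-/

set_option autoImplicit false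

universe u v

open CategoryTheory CategoryTheory.Limits AlgebraicGeometry Opposite MvPolynomial

namespace K585.FamPt

open Groth.Agent Groth.Agent.Fga QA0 QA1 QTDefs QTPull QT4 QT4b QT5 QT6a QT6c QT8 K585.KronK K585.Alev K585.Coords
  K585.Defs K585.Sur K585.PtR K585.PtQ K585.Good K585.Loc K585.ClosedR

variable {k : Type u} [Field k] [IsAlgClosed k] {n m : ℕ} {X S : Scheme.{u}} {f : X ⟶ S} {g₀ : X ⟶ PZ n}
  [IsClosedImmersion (toPS g₀ f)] {sS : S ⟶ Spec (CommRingCat.of k)} {P : Polynomial ℚ} {Φ : ℤ → ℤ} {N e a b : ℕ}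
  {p : Fin (m + 1) → Poly k a b (hn n e)} (𝓡 : RD f g₀ sS Φ N e a b p) (G : Good k n P Φ N e a b)
  (king : ∀ α : Kr a b (hn n e) k, (∃ i, evr (RingHom.id k) α (p i) ≠ 0) ↔ IsSS α)

omit [IsAlgClosed k] in
/-- the Kronecker module of a point kills the relations -/
lemma kills_pt {B : Type u} [CommRing B] [IsNoetherianRing B] {s : Spec (CommRingCat.of B) ⟶ S}
    (x : Spec (CommRingCat.of B) ⟶ 𝓡.R) (hs : x ≫ 𝓡.j ≫ prS a b (hn n e) S = s) :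
    Kills (cB (B := .of B) (x ≫ 𝓡.j)) (grSub (gT f g₀ (Over.mk s)) (prB f s) (𝓡.Vx x hs) ⊥) := by
  rw [𝓡.grSub_Vx x hs]
  have h5 := 𝓡.rep.cnd (.of B) x
  rw [← cB_asMap 𝓡.H.hom, Category.assoc] at h5
  exact h5

omit [IsAlgClosed k] in
include king in
/-- the Kronecker module at a `k`-point -/
lemma isSS_pt {s : Spec (CommRingCat.of k) ⟶ S} (hsk : s ≫ sS = 𝟙 _) (x : Spec (CommRingCat.of k) ⟶ 𝓡.R)
    (hs : x ≫ 𝓡.j ≫ prS a b (hn n e) S = s) : IsSS (cB (B := .of k) (x ≫ 𝓡.j)) := by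
  refine (king _).1 ?_
  have h1 : (x ≫ 𝓡.j) (IsLocalRing.closedPoint k) ∈ ssOpen sS p := by
    rw [Scheme.Hom.comp_apply]
    exact 𝓡.rep.range ⟨_, rfl⟩
  rw [mem_ssOpen_iff] at h1
  have h2 : (x ≫ 𝓡.j) ≫ prS a b (hn n e) S ≫ sS = 𝟙 _ := by
    rw [← hsk, ← hs]
    simp only [Category.assoc]
  have h3 : sB ((x ≫ 𝓡.j) ≫ prS a b (hn n e) S ≫ sS) = RingHom.id k := by
    rw [h2, ← Spec.map_id, sB_spec]
    rfl
  rwa [h3] at h1

omit [IsAlgClosed k] in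
include G in
/-- the Hilbert polynomial at a `k`-point -/
lemma hp_pt {s : Spec (CommRingCat.of k) ⟶ S} (x : Spec (CommRingCat.of k) ⟶ 𝓡.R)
    (hs : x ≫ 𝓡.j ≫ prS a b (hn n e) S = s) :
    letI := ovr f s
    ∀ m : ℤ, (Curv2.euler k _ (twg (gT f g₀ (Over.mk s)) (𝓡.Ex x hs) m) : ℚ) = P.eval (m : ℚ) := by
  let _ := ovr f s
  have h1 : IsClosedImmersion (toPA (gT f g₀ (Over.mk s)) (PicF.XT f (Over.mk s) ↘ Spec (CommRingCat.of k))) :=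
    isClosedImmersion_toPA f g₀ s
  have hE := 𝓡.isCoh_Ex x hs
  rw [K92.SimpHp.hp_iff k _ hE]
  obtain ⟨D₁, hD₁⟩ := K92.SimpKey.h_bot (k := k) hE (𝓡.gen_Vx x hs)
  have hL : HilbAsm1.HP (fun d => Φ (d + N)) (grSub (gT f g₀ (Over.mk s)) (prB f s) (𝓡.Vx x hs) ⊥) := by
    rw [𝓡.grSub_Vx x hs]
    exact 𝓡.D.hp (.of k) _
  obtain ⟨D₂, hD₂⟩ := hL k (RingHom.id k)
  obtain ⟨h2, h3⟩ := grSub_isHom_isSat (gT f g₀ (Over.mk s)) (prB f s) (𝓡.Vx x hs) (isQCoh_cokernel_bot hE.1)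
  rw [bcSat, bc_id, h3.sat_eq] at hD₂
  refine Polynomial.eq_of_infinite_eval_eq _ _ ?_
  refine Set.infinite_of_injective_forall_mem (f := fun d : ℕ => ((N + (D₁ + D₂ + d) : ℕ) : ℚ)) (fun d d' h => ?_)
    fun d => ?_
  · have h4 : N + (D₁ + D₂ + d) = N + (D₁ + D₂ + d') := by
      beta_reduce at h
      exact_mod_cast h
    omega
  · have h5 : Φ (((D₁ + D₂ + d : ℕ) : ℤ) + N) = (Polynomial.eval ((N + (D₁ + D₂ + d) : ℕ) : ℚ)
        (K92.SimpHp.hpY k (gT f g₀ (Over.mk s)) (𝓡.Ex x hs))) := by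
      have h6 := hD₂ (D₁ + D₂ + d) (by omega)
      beta_reduce at h6
      rw [← h6]
      exact hD₁ (D₁ + D₂ + d) (by omega)
    rw [G.Φ_eq] at h5
    change P.eval _ = Polynomial.eval _ _
    rw [← h5]
    congr 1
    push_cast
    ring

omit [IsAlgClosed k] in
include G king in
/-- **The family at a `k`-point.** -/
theorem ssh_pt {s : Spec (CommRingCat.of k) ⟶ S} (hsk : s ≫ sS = 𝟙 _) (x : Spec (CommRingCat.of k) ⟶ 𝓡.R)
    (hs : x ≫ 𝓡.j ≫ prS a b (hn n e) S = s) :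
    letI := ovr f s
    SSh k (gT f g₀ (Over.mk s)) P (𝓡.Ex x hs) ∧ LinearIndependent k (secs (prB f s) (𝓡.Vx x hs)) := by
  let _ := ovr f s
  have h1 : IsClosedImmersion (toPA (gT f g₀ (Over.mk s)) (PicF.XT f (Over.mk s) ↘ Spec (CommRingCat.of k))) :=
    isClosedImmersion_toPA f g₀ s
  have hk := kills_pt 𝓡 x hs
  refine (G.mt _ _ _ (𝓡.isCoh_Ex x hs) (hp_pt 𝓡 G x hs)).1 (secs (prB f s) (𝓡.Vx x hs)) (secs_mem (𝓡.Vx x hs))
    (𝓡.gen_Vx x hs) (cB (B := .of k) (x ≫ 𝓡.j)) (fun w hw hw' => ?_) (isSS_pt 𝓡 king hsk x hs)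
  exact hk w ((mem_grSub_bot_iff_sgL (𝓡.Vx x hs) hw).2 hw')

omit [IsAlgClosed k] in
/-- base change of the family at a point -/
lemma exists_pull_Vx {T T' : Scheme.{u}} (x : T ⟶ 𝓡.R) {s : T ⟶ S} (hs : x ≫ 𝓡.j ≫ prS a b (hn n e) S = s)
    (t : T' ⟶ T) (hts : (t ≫ x) ≫ 𝓡.j ≫ prS a b (hn n e) S = t ≫ s) :
    ∃ θ : (Scheme.Modules.pullback (PicF.XTmap f (Over.homMk t rfl : Over.mk (t ≫ s) ⟶ Over.mk s))).obj (𝓡.Ex x hs) ≅
      𝓡.Ex (t ≫ x) hts, mapSys (pull0 (Over.homMk t rfl : Over.mk (t ≫ s) ⟶ Over.mk s) (𝓡.Vx x hs)) θ.hom =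
        𝓡.Vx (t ≫ x) hts := by
  let h : Over.mk (t ≫ s) ⟶ Over.mk s := Over.homMk t rfl
  have e1 : h ≫ 𝓡.pt x hs = 𝓡.pt (t ≫ x) hts := Over.OverMorphism.ext rfl
  obtain ⟨θ₁, h₁⟩ := exists_iso_pull (QDQuot.EX g₀ N a) (𝓡.pt x hs) 𝓡.KR
  have e0 : FGA.quotPull f (QDQuot.FN g₀ N a) h (FGA.quotPull f _ (𝓡.pt x hs) 𝓡.KR) =
      FGA.quotPull f _ (𝓡.pt (t ≫ x) hts) 𝓡.KR := by
    rw [← e1]
    exact (QuotPull.quotPull_comp f (QDQuot.FN g₀ N a) h (𝓡.pt x hs) 𝓡.KR).symm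
  have H := exists_iso_pull (QDQuot.EX g₀ N a) h (FGA.quotPull f _ (𝓡.pt x hs) 𝓡.KR)
  rw [e0] at H
  obtain ⟨θ₂, h₂⟩ := H
  obtain ⟨θ₃, h₃⟩ := exists_iso_pull (QDQuot.EX g₀ N a) (𝓡.pt (t ≫ x) hts) 𝓡.KR
  refine ⟨(Scheme.Modules.pullback (PicF.XTmap f h)).mapIso θ₁ ≪≫ θ₂ ≪≫ θ₃.symm, ?_⟩
  have e2 : mapSys (pull0 h (𝓡.Vx x hs)) ((Scheme.Modules.pullback (PicF.XTmap f h)).map θ₁.hom) =
      pull0 h (VK (QDQuot.EX g₀ N a) (FGA.quotPull f _ (𝓡.pt x hs) 𝓡.KR)) := by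
    rw [← pull0_mapSys, h₁]
  have e3 : mapSys (VK (QDQuot.EX g₀ N a) (FGA.quotPull f _ (𝓡.pt (t ≫ x) hts) 𝓡.KR)) θ₃.inv = 𝓡.Vx (t ≫ x) hts := by
    rw [← h₃]
    exact mapSys_hom_inv _ θ₃
  rw [← e3, ← h₂, ← e2]
  rfl

omit [IsAlgClosed k] [IsClosedImmersion (toPS g₀ f)] in
lemma li_iso {B : Type u} [CommRing B] {s : Spec (CommRingCat.of B) ⟶ S} {E E' : (PicF.XT f (Over.mk s)).Modules}
    {𝒱 : GenSys (gT f g₀ (Over.mk s)) E (Fin a) N} {𝒱' : GenSys (gT f g₀ (Over.mk s)) E' (Fin a) N} (θ : E ≅ E')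
    (h : mapSys 𝒱 θ.hom = 𝒱') (h' : LinearIndependent B (secs (prB f s) 𝒱')) :
    LinearIndependent B (secs (prB f s) 𝒱) := by
  subst h
  exact h'.of_comp (mapSecE (gT f g₀ (Over.mk s)) (prB f s) θ).toLinearMap

omit [IsAlgClosed k] in
include G king in
/-- **The universal family is admissible.** -/
theorem adm_R : Adm f sS g₀ P 𝓡.TR 𝓡.ER where
  coh := 𝓡.mem_KR.1
  flat := 𝓡.mem_KR.2
  ssh t ht := (ssh_pt 𝓡 G king (s := t ≫ 𝓡.TR.hom) (by rw [Category.assoc]; exact ht) t rfl).1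

include G king in
/-- **Frames at the points.** -/
theorem frame_pt {B : Type u} [CommRing B] {s : Spec (CommRingCat.of B) ⟶ S} [LocallyOfFiniteType (s ≫ sS)]
    (x : Spec (CommRingCat.of B) ⟶ 𝓡.R) (hs : x ≫ 𝓡.j ≫ prS a b (hn n e) S = s) :
    ∃ w, IsFrame (gT f g₀ (Over.mk s)) (prB f s) (𝓡.Ex x hs) N e (secs (prB f s) (𝓡.Vx x hs)) w
      (cB (B := .of B) (x ≫ 𝓡.j)) := by
  have hBN : IsNoetherianRing B := by
    have hKN : IsLocallyNoetherian (Spec (CommRingCat.of k)) := isLocallyNoetherian_Spec.2 inferInstance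
    have h1 : IsLocallyNoetherian (Spec (CommRingCat.of B)) := LocallyOfFiniteType.isLocallyNoetherian (s ≫ sS)
    exact isLocallyNoetherian_Spec.1 h1
  have hadm : Adm f sS g₀ P (Over.mk s) (𝓡.Ex x hs) := K53.AdmPull.adm_pull _ _ (𝓡.pt x hs) (adm_R 𝓡 G king)
  have hR : RgFam f sS g₀ P N (Over.mk s) (𝓡.Ex x hs) := rgFam_of_adm G hadm
  have hbas : IsBas (TwSec (gT f g₀ (Over.mk s)) (prB f s) (𝓡.Ex x hs) N) (secs (prB f s) (𝓡.Vx x hs)) := by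
    refine K679.Frm.isBas_of_fibres f sS g₀ s _ hR G.ha _ (secs_mem (𝓡.Vx x hs)) fun t ht => ?_
    let h : Over.mk (t ≫ s) ⟶ Over.mk s := Over.homMk t rfl
    have hts : (t ≫ x) ≫ 𝓡.j ≫ prS a b (hn n e) S = t ≫ s := by rw [Category.assoc, hs]
    have h1 := (ssh_pt 𝓡 G king (s := t ≫ s) (by rw [Category.assoc]; exact ht) (t ≫ x) hts).2
    obtain ⟨θ, hθ⟩ := exists_pull_Vx 𝓡 x hs t hts
    have h2 := li_iso θ hθ h1
    have h3 : secs (prB f (t ≫ s)) (pull0 h (𝓡.Vx x hs)) =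
        fun j => pbS f g₀ h (𝓡.Ex x hs) (secs (prB f s) (𝓡.Vx x hs) j) := funext fun j => secs_pull0 h (𝓡.Vx x hs) j
    exact h3 ▸ h2
  have hSur : Sur (cB (B := .of B) (x ≫ 𝓡.j)) := by
    have : LocallyOfFiniteType ((x ≫ 𝓡.j) ≫ prS a b (hn n e) S ≫ sS) := by
      rw [Category.assoc, ← Category.assoc 𝓡.j, ← Category.assoc x, hs]
      infer_instance
    refine sur_of_range sS king G.apos (x ≫ 𝓡.j) ?_
    rintro _ ⟨t, rfl⟩
    rw [Scheme.Hom.comp_apply]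
    exact 𝓡.rep.range ⟨x t, rfl⟩
  have hk := kills_pt 𝓡 x hs
  exact K922.FrmW.exists_w f sS g₀ s _ hR G.hb _ hbas (secs_mem (𝓡.Vx x hs)) _ hSur
    fun w hw hw' => hk w ((mem_grSub_bot_iff_sgL (𝓡.Vx x hs) hw).2 hw')

end K585.FamPt
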