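import Groth.Agent.Coherent.K585.Good
import Groth.Agent.Coherent.K92.SimpFin
import Groth.Agent.Coherent.K569.Reg
import Groth.Agent.VarietyB.AddFun

/-!
# Choice of the numerical data over the complex numbers

* `exists_good` : if a semistable sheaf with Hilbert polynomial `P` exists, `Good ℂ n P Φ N e a b` for suitable data.
-/

set_option autoImplicit false

universe u v

open CategoryTheory CategoryTheory.Limits AlgebraicGeometry Opposite MvPolynomial

namespace K585.GoodC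

open Groth.Agent Groth.Agent.Fga QA0 QA1 QTDefs QTPull QT4 QT4b QT5 QT6a QT6c QT8 K585.KronK K585.Defs K585.Good
  K92.SimpHp

section

variable {k : Type u} [Field k] {n : ℕ} {Y : Scheme.{u}} [Y.Over (Spec (CommRingCat.of k))] {g : Y ⟶ PZ n}
  {E : Y.Modules} {P : Polynomial ℚ}

theorem not_isZero_of_ssh (h : SSh k g P E) : ¬ IsZero E := by
  intro h0
  have h1 := h.dim
  rw [VarietyB.AddFun.support_zero h0] at h1
  have h2 : topologicalKrullDim ↥(∅ : Set Y) = ⊥ := by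
    have : IsEmpty ↥(∅ : Set Y) := ⟨fun x => x.2⟩
    have : IsEmpty (TopologicalSpace.IrreducibleCloseds ↥(∅ : Set Y)) :=
      ⟨fun Z => isEmptyElim Z.isIrreducible'.nonempty.some⟩
    exact Order.krullDim_eq_bot
  rw [h2] at h1
  exact absurd h1 (WithBot.bot_ne_coe)

variable [IsClosedImmersion (toPA g (Y ↘ Spec (CommRingCat.of k)))]

theorem hp_eq (h : SSh k g P E) : hpY k g E = P := ((hp_iff k g h.coh P).1 h.hp).symm

theorem lead_pos (h : SSh k g P E) : 0 < P.leadingCoeff := by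
  have h1 := (facts k g).pos E h.coh (not_isZero_of_ssh h)
  rwa [hp_eq h] at h1

theorem ne_zero (h : SSh k g P E) : P ≠ 0 := fun h0 => by
  have := lead_pos h
  rw [h0] at this
  simp at this

/-- a basis of `H⁰(E(N))` -/
theorem exists_bas (hE : Coh.IsCoh E) (N : ℕ) : ∃ (a : ℕ) (v : Fin a → Sec g (Y ↘ Spec (CommRingCat.of k)) E),
    IsBas (TwSec g (Y ↘ Spec (CommRingCat.of k)) E N) v := by
  have := finite_TwSec k g hE N
  let B := Module.finBasis k (TwSec g (Y ↘ Spec (CommRingCat.of k)) E N)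
  refine ⟨_, fun j => (B j).1, ?_, ?_⟩
  · exact B.linearIndependent.map' (Submodule.subtype _) (Submodule.ker_subtype _)
  · have h1 : (Set.range fun j => (B j).1) = Submodule.subtype _ '' Set.range B := by
      rw [← Set.range_comp]
      rfl
    rw [h1, ← Submodule.map_span, B.span_eq, Submodule.map_top, Submodule.range_subtype]

/-- the numerical function -/
theorem exists_Φ {N : ℕ} (h : SSh k g P E) (hR : Rg k g E N) : ∃ Φ : ℤ → ℤ, (∀ m : ℤ, (Φ m : ℚ) = P.eval (m : ℚ)) ∧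
    Num (n + 1) Φ := by
  have hval : ∀ m : ℤ, (K277.ChiHilb.chi k g E m : ℚ) = P.eval (m : ℚ) := fun m => by rw [chi_eq_hp k g h.coh, hp_eq h]
  refine ⟨K277.ChiHilb.chi k g E, hval, ?_⟩
  obtain ⟨a, v, hv⟩ := exists_bas (k := k) (g := g) h.coh N
  have hv' : ∀ j, v j ∈ TwSec g (Y ↘ Spec (CommRingCat.of k)) E N := fun j => by
    rw [← hv.span]
    exact Submodule.subset_span ⟨j, rfl⟩
  obtain ⟨Ψ, hΨ, hΨP⟩ := K92.SimpMT.exists_num (k := k) (g := g) h.coh (hp_eq (k := k) (g := g) h) (S := sysOf v hv')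
    (K92.SimpMT.gen_of_bas hv (hR.gen N le_rfl))
  obtain ⟨c, hc⟩ := K277.ChiHilb.num_chi k g h.coh
  have hsh : Num c (sh N (K277.ChiHilb.chi k g E)) := (num_sh_iff N c _).2 hc
  have heq : sh N (K277.ChiHilb.chi k g E) = Ψ := by
    refine (hsh.mono (le_max_left c (n + 1))).eq_of_eventually (hΨ.mono (le_max_right c (n + 1)))
      ⟨0, fun m hm => ?_⟩
    obtain ⟨m, rfl⟩ : ∃ m' : ℕ, m = m' := ⟨m.toNat, by omega⟩
    have h3 := hΨP m
    have h4 := hval (m + N : ℤ)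
    have h5 : (K277.ChiHilb.chi k g E (m + N : ℤ) : ℚ) = Ψ m := by
      rw [h3, h4]
      congr 1
      push_cast
      ring
    exact_mod_cast h5
  exact (num_sh_iff N (n + 1) _).1 (heq ▸ hΨ)

end

/-- **Choice of the numerical data.** -/
theorem exists_good {n : ℕ} {Y : Scheme.{0}} [Y.Over (Spec (CommRingCat.of ℂ))] {g : Y ⟶ PZ n}
    [IsClosedImmersion (toPA g (Y ↘ Spec (CommRingCat.of ℂ)))] {E : Y.Modules} {P : Polynomial ℚ} (h : SSh ℂ g P E) :
    ∃ (Φ : ℤ → ℤ) (N e a b : ℕ), Good ℂ n P Φ N e a b := by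
  obtain ⟨N₀, hN₀⟩ := Coherent.K569.Reg.reg n P
  obtain ⟨N₁, hN₁⟩ := K92.SimpFin.mt n P (ne_zero h)
  obtain ⟨N₂, hN₂⟩ := K847.PolyOrd.exists_forall_pos (lead_pos h)
  let N := max N₀ (max N₁ N₂)
  obtain ⟨Φ, hΦ, hnum⟩ := exists_Φ h (hN₀ N (le_max_left _ _) Y g E h)
  obtain ⟨e₀, he₀⟩ := hN₁ N (by omega)
  have hnum' : Num (n + 1) (fun d => Φ (d + N)) := (num_sh_iff N (n + 1) Φ).2 hnum
  let e := max e₀ (bd (n + 1) (fun d => Φ (d + N)))
  have hpos : ∀ m : ℕ, N ≤ m → ∃ c : ℕ, 0 < c ∧ (c : ℚ) = P.eval (m : ℚ) := fun m hm => by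
    have h1 := hN₂ m (by omega)
    have h2 := hΦ (m : ℤ)
    have h4 : (((m : ℕ) : ℤ) : ℚ) = (m : ℚ) := by push_cast; rfl
    rw [h4] at h2
    rw [← h2] at h1
    have h3 : 0 < Φ m := by exact_mod_cast h1
    refine ⟨(Φ m).toNat, by omega, ?_⟩
    rw [← h2]
    have : (((Φ m).toNat : ℤ) : ℚ) = (Φ m : ℚ) := by rw [Int.toNat_of_nonneg h3.le]
    exact_mod_cast this
  obtain ⟨a, ha0, ha⟩ := hpos N le_rfl
  obtain ⟨b, hb0, hb⟩ := hpos (N + e) (by omega)
  exact ⟨Φ, N, e, a, b, {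
    Φ_eq := hΦ
    num := hnum
    num' := hnum'
    he := le_max_right _ _
    ha := ha
    hb := hb
    apos := ha0
    bpos := hb0
    reg := hN₀ N (le_max_left _ _)
    mt := fun Y _ g _ E hE hEP => he₀ e (le_max_left _ _) a b ha hb Y g E hE hEP }⟩

end K585.GoodC
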