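import Groth.Agent.Coherent.K585.Atl
import Groth.Agent.Coherent.K585.GoodC
import Groth.Agent.Coherent.K53.AsmFin

/-!
# The main theorem when there is a semistable sheaf
-/

set_option autoImplicit false

universe u v

open CategoryTheory CategoryTheory.Limits AlgebraicGeometry Opposite MvPolynomial

namespace K585.Fin

open Groth.Agent Groth.Agent.Fga QA0 QA1 QTDefs QTPull QT4 QT4b QT5 QT6a QT6c QT8 K585.KronK K585.Alev K585.Coords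
  K585.Defs K585.Sur K585.PtR K585.PtQ K585.RepR K585.RelR K585.Good K585.Setup K585.Loc K585.Atl K585.GoodC

/-- The atlas exists if there is a semistable sheaf over some complex point. -/
theorem atlasEx_of_ssh {S : Scheme.{0}} {sS : S ⟶ Spec (CommRingCat.of ℂ)} [LocallyOfFiniteType sS] [QuasiCompact sS]
    [IsSeparated sS] {n : ℕ} {X : Scheme.{0}} {i : X ⟶ CohB1.ProjSpaceOver n S} [IsClosedImmersion i] {P : Polynomial ℚ}
    (hfam : ∀ {m : ℕ} {Φ : ℤ → ℤ} {N e a b : ℕ} {p : Fin (m + 1) → Poly ℂ a b (hn n e)}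
      [IsClosedImmersion (toPS (i ≫ prZ n S) (i ≫ (CohB1.ProjSpaceOver n S ↘ S)))]
      (𝓡 : RD (i ≫ (CohB1.ProjSpaceOver n S ↘ S)) (i ≫ prZ n S) sS Φ N e a b p), Good ℂ n P Φ N e a b →
      (∀ α : Kr a b (hn n e) ℂ, (∃ i, evr (RingHom.id ℂ) α (p i) ≠ 0) ↔ IsSS α) →
      Adm (i ≫ (CohB1.ProjSpaceOver n S ↘ S)) sS (i ≫ prZ n S) P 𝓡.TR 𝓡.ER ∧ HasFr 𝓡)
    {s : Spec (CommRingCat.of ℂ) ⟶ S} {E : (PicF.XT (i ≫ (CohB1.ProjSpaceOver n S ↘ S)) (Over.mk s)).Modules}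
    (hE : @SSh ℂ _ n _ (ovr (i ≫ (CohB1.ProjSpaceOver n S ↘ S)) s) (gT (i ≫ (CohB1.ProjSpaceOver n S ↘ S)) (i ≫ prZ n S)
      (Over.mk s)) P E) : K53.AsmFin.AtlasEx S sS n X i P := by
  have h0 : IsClosedImmersion (toPS (i ≫ prZ n S) (i ≫ (CohB1.ProjSpaceOver n S ↘ S))) :=
    K53.Final.isClosedImmersion_toPS S n X i
  let _ := ovr (i ≫ (CohB1.ProjSpaceOver n S ↘ S)) s
  have h1 : IsClosedImmersion (toPA (gT (i ≫ (CohB1.ProjSpaceOver n S ↘ S)) (i ≫ prZ n S) (Over.mk s))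
      (PicF.XT (i ≫ (CohB1.ProjSpaceOver n S ↘ S)) (Over.mk s) ↘ Spec (CommRingCat.of ℂ))) :=
    isClosedImmersion_toPA _ _ s
  obtain ⟨Φ, N, e, a, b, G⟩ := exists_good hE
  obtain ⟨m, p, 𝓡, M, c, π, hS⟩ := exists_setup (f := i ≫ (CohB1.ProjSpaceOver n S ↘ S)) (g₀ := i ≫ prZ n S)
    (sS := sS) G
  obtain ⟨hadm, hfr⟩ := hfam 𝓡 G hS.king
  exact ⟨𝓡.TR, Over.mk (c ≫ CohB1.ProjSpaceOver.toBase m S), 𝓡.ER, Over.homMk π hS.quot.comp, IsAct sS 𝓡.j, m, c,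
    atlas 𝓡 hS G hadm hfr, hS.quot.closed, rfl, hS.quot.surj, hS.quot.disj⟩

end K585.Fin
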