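import Groth.Agent.Coherent.K585.Alev
import Groth.Agent.Coherent.K679.FrmBas

/-!
# Frames: the relations, pull back

* `sgL_eq`, `kills_of_isKr` : the Kronecker module of a frame kills the relations of its sections;
* `isKr_pull`, `frame_pull` : pull back of frames.
-/

set_option autoImplicit false

universe u v

open CategoryTheory CategoryTheory.Limits AlgebraicGeometry Opposite MvPolynomial

namespace K585.FrKill

open Groth.Agent Groth.Agent.Fga QA0 QA1 QTDefs QTPull QT4 QT4b QT5 QT6a QT6c QT8 K585.KronK K585.Alev K585.Defs K679.TwBC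

section Rel

variable {n : ℕ} {Y : Scheme.{u}} {g : Y ⟶ PZ n} {A : Type u} [CommRing A] {q : Y ⟶ Spec (CommRingCat.of A)}
  {E : Y.Modules} {a b e N : ℕ}

lemma sum_apply {J : Type*} (t : Finset J) (c : J → Sec g q E) (i : Fin (n + 1)) : (∑ l ∈ t, c l) i = ∑ l ∈ t, c l i := by
  classical
  induction t using Finset.induction_on with
  | empty => rfl
  | insert x t hx ih =>
    rw [Finset.sum_insert hx, Finset.sum_insert hx, ← ih]
    rfl

lemma smul_apply' (c : A) (s : Sec g q E) (i : Fin (n + 1)) : (c • s) i = QTDefs.coeff q (V g i) c • s i := rfl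

/-- the monomial expansion of a homogeneous polynomial -/
lemma eq_sum_mu {A : Type*} [CommRing A] {p : MvPolynomial (Fin (n + 1)) A} (hp : p.IsHomogeneous e) :
    p = ∑ l, MvPolynomial.coeff (mu n e l).1 p • MvPolynomial.monomial (mu n e l).1 (1 : A) := by
  classical
  ext m
  rw [MvPolynomial.coeff_sum]
  simp only [MvPolynomial.coeff_smul, MvPolynomial.coeff_monomial, smul_eq_mul]
  by_cases hm : m.degree = e
  · rw [Finset.sum_eq_single ((mu n e).symm ⟨m, hm⟩)]
    · rw [Equiv.apply_symm_apply, if_pos rfl, mul_one]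
    · intro l _ hl
      rw [if_neg, mul_zero]
      intro h
      apply hl
      rw [Equiv.eq_symm_apply]
      exact Subtype.ext h
    · intro h
      exact absurd (Finset.mem_univ _) h
  · have h6 : MvPolynomial.coeff m p = 0 := by
      by_contra hne
      apply hm
      have := hp hne
      rw [← this, Finsupp.degree_eq_weight_one]
      rfl
    rw [h6]
    symm
    refine Finset.sum_eq_zero fun l _ => ?_
    rw [if_neg, mul_zero]
    intro h
    exact hm (h ▸ (mu n e l).2)

/-- the section attached to a vector of polynomials of degree `e` -/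
lemma sgL_eq {v : Fin a → Sec g q E} {w : Fin b → Sec g q E} {α : Kr a b (hn n e) A} (hkr : IsKr g q E e v w α)
    (hv : ∀ j, v j ∈ TwSec g q E N) {x : W (Fin (n + 1)) (Fin a) A} (hx : x ∈ Wd (Fin (n + 1)) (Fin a) A e) :
    sgL q (sysOf v hv) x = ∑ y, (alev α x) y • w y := by
  have h2 : sgL q (sysOf v hv) x = ∑ j, mulL g q E (x j) (v j) := by
    funext i
    rw [sum_apply, sgL_apply, sg_apply]
    rfl
  have h4 : ∀ j, mulL g q E (x j) (v j) =
      ∑ l, MvPolynomial.coeff (mu n e l).1 (x j) • mulL g q E (MvPolynomial.monomial (mu n e l).1 1) (v j) := by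
    intro j
    have h5 := eq_sum_mu (n := n) (e := e) (A := A) (p := x j) (hx j)
    funext i
    rw [sum_apply, mulL_apply]
    conv_lhs => rw [h5]
    rw [map_sum, Finset.sum_smul]
    refine Finset.sum_congr rfl fun l _ => ?_
    rw [smul_apply', mulL_apply, MvPolynomial.smul_eq_C_mul, map_mul, ev_C, smul_smul]
  have hkr' : ∀ l j, mulL g q E (MvPolynomial.monomial (mu n e l).1 1) (v j) = ∑ y, α l y j • w y := hkr
  rw [h2, Finset.sum_congr rfl fun j _ => h4 j]
  simp_rw [hkr', Finset.smul_sum, smul_smul, alev_apply, Finset.sum_smul]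
  rw [Finset.sum_comm, Finset.sum_congr rfl fun l _ => Finset.sum_comm, Finset.sum_comm]
  refine Finset.sum_congr rfl fun y _ => Finset.sum_congr rfl fun l _ => Finset.sum_congr rfl fun j _ => ?_
  rw [mul_comm]

/-- **The Kronecker module of a frame kills the relations.** -/
theorem kills_of_isKr [IsClosedImmersion (toPA g q)] (hE : Coh.IsQCoh E) {v : Fin a → Sec g q E} {w : Fin b → Sec g q E} {α : Kr a b (hn n e) A} (hkr : IsKr g q E e v w α)
    (hw : LinearIndependent A w) (hv : ∀ j, v j ∈ TwSec g q E N) :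
    Kills α (grSub g q (sysOf v hv) ⊥) := by
  rw [kills_iff (grSub_isHom_isSat g q (sysOf v hv) (isQCoh_cokernel_bot hE)).1]
  rintro x ⟨hx, hxe⟩
  have h1 := (mem_grSub_bot_iff_sgL (sysOf v hv) hxe).1 hx
  rw [sgL_eq hkr hv hxe] at h1
  exact funext fun y => Fintype.linearIndependent_iff.1 hw _ h1 y

end Rel

section Pull

variable {n : ℕ} {X S : Scheme.{u}} {f : X ⟶ S} {g₀ : X ⟶ PZ n} {B B' : Type u} [CommRing B] [CommRing B']
  {s : Spec (CommRingCat.of B) ⟶ S} {s' : Spec (CommRingCat.of B') ⟶ S} (h : Over.mk s' ⟶ Over.mk s) {φ : B →+* B'}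
  (hφ : h.left = Spec.map (CommRingCat.ofHom φ)) {E : (PicF.XT f (Over.mk s)).Modules} {a b e N : ℕ}

include hφ

/-- pull back of the Kronecker relation -/
lemma isKr_pull {v : Fin a → Sec (gT f g₀ (Over.mk s)) (prB f s) E} {w : Fin b → Sec (gT f g₀ (Over.mk s)) (prB f s) E}
    {α : Kr a b (hn n e) B} (hkr : IsKr (gT f g₀ (Over.mk s)) (prB f s) E e v w α) :
    IsKr (gT f g₀ (Over.mk s')) (prB f s') ((Scheme.Modules.pullback (PicF.XTmap f h)).obj E) e
      (fun j => pbS f g₀ h E (v j)) (fun j => pbS f g₀ h E (w j)) (krMap φ α) := by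
  have hq : PicF.XTmap f h ≫ prB f s = prB f s' ≫ Spec.map (CommRingCat.ofHom φ) := by
    have h1 := (Picfga.HilbPull.isPullback_XTmap f h).w
    rw [hφ] at h1
    exact h1
  intro l j
  have h2 := congrArg (pbW (XTmap_gT f g₀ h) (prB f s) (prB f s')) (hkr l j)
  rw [pbW_mulL (XTmap_gT f g₀ h) hq, map_monomial, map_one] at h2
  refine h2.trans ?_
  have h3 : ∀ (t : Finset (Fin b)) (c : Fin b → Sec (gT f g₀ (Over.mk s)) (prB f s) E),
      pbW (XTmap_gT f g₀ h) (prB f s) (prB f s') (∑ y ∈ t, c y) =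
        ∑ y ∈ t, pbW (XTmap_gT f g₀ h) (prB f s) (prB f s') (c y) := by
    intro t c
    classical
    induction t using Finset.induction_on with
    | empty => rw [Finset.sum_empty, Finset.sum_empty, pbW_zero]
    | insert x t hx ih => rw [Finset.sum_insert hx, Finset.sum_insert hx, pbW_add, ih]
  rw [h3]
  refine Finset.sum_congr rfl fun y _ => ?_
  rw [pbW_smul (XTmap_gT f g₀ h) hq]
  rfl

/-- **Pull back of frames.** -/
theorem frame_pull {P : Polynomial ℚ} (hC : CohOut f g₀ P N s E)
    {v : Fin a → Sec (gT f g₀ (Over.mk s)) (prB f s) E} {w : Fin b → Sec (gT f g₀ (Over.mk s)) (prB f s) E}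
    {α : Kr a b (hn n e) B} (hfr : IsFrame (gT f g₀ (Over.mk s)) (prB f s) E N e v w α) :
    IsFrame (gT f g₀ (Over.mk s')) (prB f s') ((Scheme.Modules.pullback (PicF.XTmap f h)).obj E) N e
      (fun j => pbS f g₀ h E (v j)) (fun j => pbS f g₀ h E (w j)) (krMap φ α) :=
  ⟨hC.bc N le_rfl s' h v hfr.v_bas, hC.bc (N + e) (Nat.le_add_right N e) s' h w hfr.w_bas, isKr_pull h hφ hfr.kr⟩

end Pull

end K585.FrKill
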