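import Mathlib.AlgebraicGeometry.Noetherian
import Mathlib.AlgebraicGeometry.Gluing
import Mathlib.AlgebraicGeometry.Cover.Open

/-!
# Gluing morphisms from Noetherian affine schemes

`hom_ext_aff`: two morphisms agree if they agree on Noetherian affine open subschemes around every point;
`exists_glue`: a compatible unique system of morphisms from the Noetherian affine schemes over `T` to `Y` comes from a
morphism `T ⟶ Y`.
-/

set_option autoImplicit false

universe u

open CategoryTheory CategoryTheory.Limits AlgebraicGeometry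

namespace K585.GlueAff

variable {T Y : Scheme.{u}}

theorem hom_ext_aff [IsLocallyNoetherian T] (f g : T ⟶ Y)
    (h : ∀ (B : CommRingCat.{u}) [IsNoetherianRing B] (u : Spec B ⟶ T) [IsOpenImmersion u], u ≫ f = u ≫ g) : f = g := by
  refine Scheme.Cover.hom_ext T.affineOpenCover.openCover _ _ fun i => ?_
  have hN : IsNoetherianRing (T.affineOpenCover.X i) := by
    rw [← isLocallyNoetherian_Spec]
    exact isLocallyNoetherian_of_isOpenImmersion (T.affineOpenCover.f i)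
  exact h (T.affineOpenCover.X i) (T.affineOpenCover.f i)

variable {Q : ∀ (B : CommRingCat.{u}) [IsNoetherianRing B], (Spec B ⟶ T) → (Spec B ⟶ Y) → Prop}

/-- Two morphisms with the same property agree. -/
lemma eq_of_loc (huniq : ∀ (B : CommRingCat.{u}) [IsNoetherianRing B] (u : Spec B ⟶ T) (v v' : Spec B ⟶ Y),
      Q B u v → Q B u v' → v = v')
    {P : Scheme.{u}} [IsLocallyNoetherian P] (p : P ⟶ T) (v v' : P ⟶ Y)
    (h : ∀ (x : P) , ∃ (B : CommRingCat.{u}) (_ : IsNoetherianRing B) (w : Spec B ⟶ P) (_ : IsOpenImmersion w),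
      x ∈ Set.range w ∧ Q B (w ≫ p) (w ≫ v) ∧ Q B (w ≫ p) (w ≫ v')) : v = v' := by
  refine Scheme.hom_ext_of_forall v v' fun x => ?_
  obtain ⟨B, hB, w, hw, hx, h1, h2⟩ := h x
  refine ⟨w.opensRange, hx, ?_⟩
  have h3 := huniq B _ _ _ h1 h2
  have e : w.opensRange.ι = (w.isoOpensRange).inv ≫ w := by
    rw [Scheme.Hom.isoOpensRange_inv_comp]
  rw [e, Category.assoc, Category.assoc, h3]

/-- A Noetherian affine neighbourhood mapping into a given open immersion. -/
lemma exists_refine {P : Scheme.{u}} [IsLocallyNoetherian P] {A : CommRingCat.{u}} (p : P ⟶ T) (c : Spec A ⟶ T)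
    [IsOpenImmersion c] (x : P) (hx : p x ∈ Set.range c) :
    ∃ (B : CommRingCat.{u}) (_ : IsNoetherianRing B) (w : Spec B ⟶ P) (_ : IsOpenImmersion w) (φ : A ⟶ B),
      x ∈ Set.range w ∧ w ≫ p = Spec.map φ ≫ c := by
  obtain ⟨B, w, hw, hxw, hU⟩ := AlgebraicGeometry.Scheme.exists_affine_mem_range_and_range_subset (X := P)
    (U := p ⁻¹ᵁ c.opensRange) (x := x) hx
  have hN : IsNoetherianRing B := by
    rw [← isLocallyNoetherian_Spec]
    exact isLocallyNoetherian_of_isOpenImmersion w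
  have hr : Set.range (w ≫ p) ⊆ Set.range c := by
    rintro _ ⟨z, rfl⟩
    exact hU ⟨z, rfl⟩
  obtain ⟨φ, hφ⟩ := Spec.map_surjective (IsOpenImmersion.lift c (w ≫ p) hr)
  refine ⟨B, hN, w, hw, φ, hxw, ?_⟩
  rw [hφ, IsOpenImmersion.lift_fac]

theorem exists_glue [IsLocallyNoetherian T]
    (hex : ∀ (B : CommRingCat.{u}) [IsNoetherianRing B] (u : Spec B ⟶ T), ∃ v : Spec B ⟶ Y, Q B u v)
    (huniq : ∀ (B : CommRingCat.{u}) [IsNoetherianRing B] (u : Spec B ⟶ T) (v v' : Spec B ⟶ Y),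
      Q B u v → Q B u v' → v = v')
    (hnat : ∀ (A B : CommRingCat.{u}) [IsNoetherianRing A] [IsNoetherianRing B] (φ : A ⟶ B) (u : Spec A ⟶ T)
      (v : Spec A ⟶ Y), Q A u v → Q B (Spec.map φ ≫ u) (Spec.map φ ≫ v)) :
    ∃ y : T ⟶ Y, ∀ (B : CommRingCat.{u}) [IsNoetherianRing B] (u : Spec B ⟶ T), Q B u (u ≫ y) := by
  let 𝒰 := T.affineOpenCover
  have hN : ∀ i, IsNoetherianRing (𝒰.X i) := fun i => by
    rw [← isLocallyNoetherian_Spec]
    exact isLocallyNoetherian_of_isOpenImmersion (𝒰.f i)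
  choose v hv using fun i => hex (𝒰.X i) (𝒰.f i)
  -- compatibility
  have key : ∀ {P : Scheme.{u}} [IsLocallyNoetherian P] (i j : 𝒰.I₀) (a : P ⟶ Spec (𝒰.X i)) (b : P ⟶ Spec (𝒰.X j)),
      a ≫ 𝒰.f i = b ≫ 𝒰.f j → a ≫ v i = b ≫ v j := by
    intro P _ i j a b hab
    refine eq_of_loc huniq (a ≫ 𝒰.f i) _ _ fun x => ?_
    obtain ⟨B, w, hw, hxw, -⟩ := AlgebraicGeometry.Scheme.exists_affine_mem_range_and_range_subset (X := P)
      (U := ⊤) (x := x) trivial
    have hB : IsNoetherianRing B := by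
      rw [← isLocallyNoetherian_Spec]
      exact isLocallyNoetherian_of_isOpenImmersion w
    obtain ⟨φ, hφ⟩ := Spec.map_surjective (w ≫ a)
    obtain ⟨ψ, hψ⟩ := Spec.map_surjective (w ≫ b)
    refine ⟨B, hB, w, hw, hxw, ?_, ?_⟩
    · have := hnat _ _ φ (𝒰.f i) (v i) (hv i)
      rw [hφ] at this
      simpa only [Category.assoc] using this
    · have := hnat _ _ ψ (𝒰.f j) (v j) (hv j)
      rw [hψ] at this
      rw [hab]
      simpa only [Category.assoc] using this
  have hloc : ∀ i j : 𝒰.I₀, IsLocallyNoetherian (pullback (𝒰.f i) (𝒰.f j)) := fun i j =>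
    isLocallyNoetherian_of_isOpenImmersion (pullback.fst (𝒰.f i) (𝒰.f j) ≫ 𝒰.f i)
  let y : T ⟶ Y := 𝒰.openCover.glueMorphisms v fun i j => by
    have := hloc i j
    exact key i j _ _ pullback.condition
  have hy : ∀ i, 𝒰.f i ≫ y = v i := fun i => 𝒰.openCover.ι_glueMorphisms _ _ i
  refine ⟨y, fun B _ u => ?_⟩
  obtain ⟨v₀, hv₀⟩ := hex B u
  have h1 : v₀ = u ≫ y := by
    have : IsLocallyNoetherian (Spec B) := isLocallyNoetherian_Spec.2 inferInstance
    refine eq_of_loc huniq u _ _ fun x => ?_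
    obtain ⟨i, z, hz⟩ := 𝒰.openCover.exists_eq (u x)
    obtain ⟨C, hC, w, hw, φ, hxw, hwφ⟩ := exists_refine u (𝒰.f i) x ⟨z, hz⟩
    refine ⟨C, hC, w, hw, hxw, ?_, ?_⟩
    · obtain ⟨ψ, rfl⟩ := Spec.map_surjective w
      exact hnat _ _ ψ u v₀ hv₀
    · rw [← Category.assoc, hwφ, Category.assoc, hy]
      exact hnat _ _ φ (𝒰.f i) (v i) (hv i)
  rw [← h1]
  exact hv₀

end K585.GlueAff
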