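import Groth.Agent.Coherent.K585.QDQuot
import Groth.Agent.Fga.QuotPull
import Groth.Agent.Sga67.CohBasic

/-!
# Sheaves with generating systems having the same relations

* `iso_of_grSub` : two quasi-coherent modules with generating systems (twist `N`) having the same graded module of
  relations are isomorphic, compatibly with the systems;
* `exists_epi` : a generating system is the same as an epimorphism from `O(-N)^a`.
-/

set_option autoImplicit false

universe u v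

open CategoryTheory CategoryTheory.Limits AlgebraicGeometry Opposite MvPolynomial

namespace K585.IsoCrit

open Groth.Agent Groth.Agent.Fga QA0 QTDefs QT4 QT4b QT5 QT8 K277.GenTw K277.Frames K585.HomTw K585.QDQuot

/-- A copower of a quasi-coherent module. -/
theorem isQCoh_copower {X : Scheme.{u}} (p : ℕ) {N : X.Modules} (hN : Coh.IsQCoh N) :
    Coh.IsQCoh (∐ fun _ : Fin p => N) := by
  have : HasFiniteBiproducts X.Modules := Abelian.hasFiniteBiproducts
  have h1 : Coh.IsQCoh (∐ fun _ : ULift.{u} (Fin p) => N) :=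
    Sga67.CohBasic.isQCoh_of_iso (biproduct.isoCoproduct fun _ : ULift.{u} (Fin p) => N)
      (Sga67.CohBasic.isQCoh_of_iso (biproduct.isoProduct fun _ : ULift.{u} (Fin p) => N).symm
        (Sga67.CohBasic.isQCoh_pi _ fun _ => hN))
  exact Sga67.CohBasic.isQCoh_of_iso (Sigma.reindex Equiv.ulift (fun _ : Fin p => N)) h1

lemma isQCoh_FN {n : ℕ} {X : Scheme.{u}} (g₀ : X ⟶ PZ n) (N a : ℕ) : Coh.IsQCoh (FN g₀ N a) :=
  isQCoh_copower a (Ega2.QCohLocal.isQCoh_of_isInvertible (isInvertible_LN g₀ N))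

variable {n : ℕ} {Y : Scheme.{u}} {g : Y ⟶ PZ n} {A : Type u} [CommRing A] {q : Y ⟶ Spec (CommRingCat.of A)}
  {M E E' : Y.Modules} {ι : Type v} {N : ℕ}

lemma mapSys_comp (E0 : GenSys g M ι N) (φ : M ⟶ E) (ψ : E ⟶ E') :
    mapSys E0 (φ ≫ ψ) = mapSys (mapSys E0 φ) ψ := rfl

lemma mapSys_id (E0 : GenSys g M ι N) : mapSys E0 (𝟙 M) = E0 := rfl

lemma mem_secSub_kernel (φ : M ⟶ E) {U : Y.Opens} {s : Γ(M, U)} :
    s ∈ secSub (kernelSubobject φ) U ↔ φ.app U s = 0 := SubobjSec.mem_kernel_iff φ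

lemma grSub_kernel [Fintype ι] (E0 : GenSys g M ι N) (φ : M ⟶ E) :
    grSub g q E0 (kernelSubobject φ) = grSub g q (mapSys E0 φ) ⊥ := by
  ext w
  rw [mem_grSub, mem_grSub]
  refine forall_congr' fun d => forall_congr' fun i => ?_
  rw [QT5.mem_secSub_bot, mem_secSub_kernel, sg_mapSys]

lemma grSub_iso [Fintype ι] (E0 : GenSys g M ι N) (θ : M ⟶ E) [Mono θ] :
    grSub g q (mapSys E0 θ) ⊥ = grSub g q E0 ⊥ := by
  ext w
  rw [mem_grSub, mem_grSub]
  refine forall_congr' fun d => forall_congr' fun i => ?_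
  rw [QT5.mem_secSub_bot, QT5.mem_secSub_bot, sg_mapSys]
  have hi := (Ega1.SubSheaf.mono_iff_injective θ).mp inferInstance (V g i)
  exact ⟨fun h => hi (h.trans (map_zero _).symm), fun h => by rw [h, map_zero]⟩

lemma surj_of_gen {E0 : GenSys g M ι N} {φ : M ⟶ E} (h : (mapSys E0 φ).Gen) (i : Fin (n + 1)) :
    Function.Surjective (φ.app (V g i)) := by
  intro m
  have h1 : m ∈ Submodule.span Γ(Y, V g i) (Set.range ((mapSys E0 φ).e i)) := by rw [h i]; trivial
  induction h1 using Submodule.span_induction with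
  | mem x hx =>
    obtain ⟨j, rfl⟩ := hx
    exact ⟨E0.e i j, rfl⟩
  | zero => exact ⟨0, map_zero _⟩
  | add x y _ _ hx hy =>
    obtain ⟨x', rfl⟩ := hx
    obtain ⟨y', rfl⟩ := hy
    exact ⟨x' + y', map_add _ _ _⟩
  | smul c x _ hx =>
    obtain ⟨x', rfl⟩ := hx
    exact ⟨c • x', Scheme.Modules.Hom.app_smul _ _ _⟩

section Epi

variable {a : ℕ} {L S : Y.Modules} (T : TwFr g L (-(N : ℤ))) {D : SumDec a L S} (hD : Ort D)

include hD in
theorem exists_epi [IsClosedImmersion (toPA g q)] (hE : Coh.IsQCoh E) {𝒱 : GenSys g E (Fin a) N} (h : 𝒱.Gen) :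
    ∃ φ : S ⟶ E, Epi φ ∧ mapSys (frs T D) φ = 𝒱 := by
  obtain ⟨φ, hφ⟩ := exists_hom_sum T hD 𝒱
  refine ⟨φ, ?_, hφ⟩
  refine epi_of_gen (QT4.iSup_V g) φ hE (fun i => isAffineOpen_V g q i) fun i => ?_
  rw [← hφ] at h
  exact surj_of_gen h i

end Epi

variable (q) in
/-- **Generating systems with the same relations.** -/
theorem iso_of_grSub [IsClosedImmersion (toPA g q)] (hE : Coh.IsQCoh E) (hE' : Coh.IsQCoh E') {a : ℕ}
    {𝒱 : GenSys g E (Fin a) N} {𝒱' : GenSys g E' (Fin a) N} (h : 𝒱.Gen) (h' : 𝒱'.Gen)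
    (hgr : grSub g q 𝒱 ⊥ = grSub g q 𝒱' ⊥) : ∃ θ : E ≅ E', mapSys 𝒱 θ.hom = 𝒱' := by
  obtain ⟨φ, hφ, hφ'⟩ := exists_epi (q := q) (T0 g N) (D := D0 g N a) (ort_sigma a _) hE h
  obtain ⟨ψ, hψ, hψ'⟩ := exists_epi (q := q) (T0 g N) (D := D0 g N a) (ort_sigma a _) hE' h'
  have hc : ∀ {Q : Y.Modules} (χ : FN g N a ⟶ Q) [Epi χ], Coh.IsQCoh Q → Coh.IsQCoh (cokernel (kernelSubobject χ).arrow) := by
    intro Q χ _ hQ
    obtain ⟨e, -⟩ := SubobjSec.exists_cokernel_iso χ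
    exact Sga67.CohBasic.isQCoh_of_iso e.symm hQ
  have h1 : kernelSubobject φ = kernelSubobject ψ := by
    have h2 : grSub g q (EX g N a) (kernelSubobject φ) = grSub g q (EX g N a) (kernelSubobject ψ) := by
      rw [grSub_kernel, grSub_kernel, hφ', hψ', hgr]
    have h3 := isQCoh_FN g N a
    have h4 : (EX g N a).Gen := frs_gen _ _
    exact le_antisymm ((grSub_le_iff g q (EX g N a) h3 h4 (hc φ hE) (hc ψ hE')).1 h2.le)
      ((grSub_le_iff g q (EX g N a) h3 h4 (hc ψ hE') (hc φ hE)).1 h2.ge)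
  obtain ⟨θ, hθ⟩ := SubobjSec.exists_iso_of_kernelSubobject_eq φ ψ h1
  refine ⟨θ, ?_⟩
  rw [← hφ', ← mapSys_comp, hθ, hψ']

end K585.IsoCrit
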