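import Mathlib.AlgebraicGeometry.AffineSpace
import Mathlib.AlgebraicGeometry.Morphisms.Immersion
import Mathlib.Analysis.Complex.Basic
import Mathlib.LinearAlgebra.Dimension.Finrank
import Mathlib.LinearAlgebra.Matrix.ToLin
import Mathlib.LinearAlgebra.Matrix.Determinant.Basic
import Mathlib.RingTheory.MvPolynomial.Homogeneous
import Groth.Prelude.Def_CohB1

/-!
# Kronecker modules `ℂ^a ⊗ ℂ^h → ℂ^b`: definitions

* `Idx a b h`, `Kr a b h B`: coordinates and `B`-points; `act k g α = k α g`;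
* `evr c α : ℂ[Idx] →+* B` evaluation at a point with coefficients through `c : ℂ →+* B`;
* `IsInv p`: invariance under `SL_b(ℂ) × SL_a(ℂ)`; `sub k g`: the substitution `p ↦ p (k · g)`;
* `IsSS α`: King's condition `b dim V' ≤ a dim (Σ_l α_l V')` for all `V' ≤ ℂ^a`;
* `pt t α : T ⟶ 𝔸(Idx; S)` the point with base `t` and coordinates `α`, `crd x` the coordinates of a point,
  `sOf` the structure map `ℂ →+* Γ(T, ⊤)`, `actS`: the action of complex matrices on `𝔸(Idx; S)`.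
-/

set_option autoImplicit false

open CategoryTheory CategoryTheory.Limits AlgebraicGeometry MvPolynomial

namespace K585.Kron

/-- coordinates of the space of Kronecker modules `ℂ^a ⊗ ℂ^h → ℂ^b` -/
abbrev Idx (a b h : ℕ) : Type := Fin h × Fin b × Fin a

/-- `B`-points of the space of Kronecker modules -/
abbrev Kr (a b h : ℕ) (B : Type*) := Fin h → Matrix (Fin b) (Fin a) B

/-- coordinate ring -/
abbrev Poly (a b h : ℕ) := MvPolynomial (Idx a b h) ℂ

variable {a b h : ℕ}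

/-- the action of pairs of matrices -/
def act {B : Type*} [CommRing B] (k : Matrix (Fin b) (Fin b) B) (g : Matrix (Fin a) (Fin a) B)
    (α : Kr a b h B) : Kr a b h B := fun l => k * α l * g

/-- evaluation at a point -/
noncomputable def evr {B : Type*} [CommRing B] (c : ℂ →+* B) (α : Kr a b h B) : Poly a b h →+* B :=
  eval₂Hom c fun p => α p.1 p.2.1 p.2.2

/-- invariance under `SL_b(ℂ) × SL_a(ℂ)` -/
def IsInv (p : Poly a b h) : Prop :=
  ∀ (k : Matrix (Fin b) (Fin b) ℂ) (g : Matrix (Fin a) (Fin a) ℂ) (α : Kr a b h ℂ), k.det = 1 → g.det = 1 →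
    evr (RingHom.id ℂ) (act k g α) p = evr (RingHom.id ℂ) α p

/-- The generic Kronecker module. -/
noncomputable def gen : Kr a b h (Poly a b h) := fun l i j => X (l, i, j)

/-- substitution `p ↦ p (k · g)`. -/
noncomputable def sub (k : Matrix (Fin b) (Fin b) ℂ) (g : Matrix (Fin a) (Fin a) ℂ) :
    Poly a b h →ₐ[ℂ] Poly a b h :=
  aeval fun p => act (k.map C) (g.map C) gen p.1 p.2.1 p.2.2

/-- King's condition. -/
def IsSS (α : Kr a b h ℂ) : Prop :=
  ∀ V' : Submodule ℂ (Fin a → ℂ), b * Module.finrank ℂ V' ≤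
    a * Module.finrank ℂ (⨆ l, V'.map (α l).mulVecLin : Submodule ℂ (Fin b → ℂ))

section Scheme

variable {S T : Scheme.{0}}

/-- `ℂ →+* Γ(T, ⊤)` -/
noncomputable def sOf (t : T ⟶ Spec (CommRingCat.of ℂ)) : ℂ →+* Γ(T, ⊤) :=
  (t.appTop.hom).comp (Scheme.ΓSpecIso (CommRingCat.of ℂ)).inv.hom

/-- The point of `𝔸(Idx; S)` with base `t` and coordinates `α`. -/
noncomputable def pt (t : T ⟶ S) (α : Kr a b h Γ(T, ⊤)) : T ⟶ 𝔸(Idx a b h; S) :=
  AffineSpace.homOfVector t fun p => α p.1 p.2.1 p.2.2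

/-- The coordinates of a point. -/
noncomputable def crd (x : T ⟶ 𝔸(Idx a b h; S)) : Kr a b h Γ(T, ⊤) := fun l i j =>
  x.appTop (AffineSpace.coord S (l, i, j))

/-- The action of complex matrices on `𝔸(Idx; S)`. -/
noncomputable def actS (sS : S ⟶ Spec (CommRingCat.of ℂ)) (k : Matrix (Fin b) (Fin b) ℂ)
    (g : Matrix (Fin a) (Fin a) ℂ) : 𝔸(Idx a b h; S) ⟶ 𝔸(Idx a b h; S) :=
  pt (𝔸(Idx a b h; S) ↘ S) (act (k.map (sOf ((𝔸(Idx a b h; S) ↘ S) ≫ sS)))
    (g.map (sOf ((𝔸(Idx a b h; S) ↘ S) ≫ sS))) (crd (𝟙 _)))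

/-- The function on `𝔸(Idx; S)` given by a polynomial. -/
noncomputable def fn (sS : S ⟶ Spec (CommRingCat.of ℂ)) (p : Poly a b h) : Γ(𝔸(Idx a b h; S), ⊤) :=
  evr (sOf ((𝔸(Idx a b h; S) ↘ S) ≫ sS)) (crd (𝟙 _)) p

/-- The locus where one of the `f i` does not vanish. -/
noncomputable def ssOpen (sS : S ⟶ Spec (CommRingCat.of ℂ)) {m : ℕ} (f : Fin (m + 1) → Poly a b h) :
    (𝔸(Idx a b h; S)).Opens := ⨆ i, (𝔸(Idx a b h; S)).basicOpen (fn sS (f i))

end Scheme

/-- The data of invariant theory: generators of a Veronese subring of the ring of invariants, King's criterion and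
the Reynolds operator. -/
structure Pack (a b h m e : ℕ) (f : Fin (m + 1) → Poly a b h) (ρ : Poly a b h →ₗ[ℂ] Poly a b h) : Prop where
  pos : 0 < e
  hom : ∀ i, (f i).IsHomogeneous e
  inv : ∀ i, IsInv (f i)
  king : ∀ α : Kr a b h ℂ, (∃ i, evr (RingHom.id ℂ) α (f i) ≠ 0) ↔ IsSS α
  gen : ∀ (q : ℕ) (p : Poly a b h), p.IsHomogeneous (q * e) → IsInv p →
    ∃ P : MvPolynomial (Fin (m + 1)) ℂ, P.IsHomogeneous q ∧ aeval f P = p
  ρ_inv : ∀ p, IsInv (ρ p)
  ρ_eq : ∀ p, IsInv p → ρ p = p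
  ρ_mul : ∀ p q, IsInv p → ρ (p * q) = p * ρ q
  ρ_hom : ∀ d p, p.IsHomogeneous d → (ρ p).IsHomogeneous d
  /-- with coefficients in any `Λ`, the operator `Λ ⊗ ρ` preserves the `SL`-stable `ℂ`-subspaces -/
  ρ_stable : ∀ (Λ : Type) [CommRing Λ] [Algebra ℂ Λ] (J : Submodule ℂ (TensorProduct ℂ Λ (Poly a b h))),
    (∀ (k : Matrix (Fin b) (Fin b) ℂ) (g : Matrix (Fin a) (Fin a) ℂ), k.det = 1 → g.det = 1 →
      J ≤ J.comap ((sub k g).toLinearMap.lTensor Λ)) → J ≤ J.comap (ρ.lTensor Λ)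

end K585.Kron
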