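import Groth.Agent.Coherent.K585.Setup
import Groth.Agent.Coherent.K585.FrKill
import Groth.Agent.Coherent.K922.FrmRel
import Groth.Agent.Coherent.K53.AdmPull

/-!
# Admissible families with a frame come from `R`

* `rgFam_of_adm` : admissible families are regular;
* `isSS_pt` : the Kronecker module of a frame is semistable at the closed points;
* `exists_of_frame` : an admissible family over an affine scheme of finite type with a frame is `x^* 𝓔_R`;
* `exists_loc` : admissible families over affine schemes of finite type come locally from `R`.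
-/

set_option autoImplicit false

universe u v

open CategoryTheory CategoryTheory.Limits AlgebraicGeometry Opposite MvPolynomial

namespace K585.Loc

open Groth.Agent Groth.Agent.Fga QA0 QA1 QTDefs QTPull QT4 QT4b QT5 QT6a QT6c QT8 K585.KronK K585.Alev K585.Coords
  K585.Defs K585.Sur K585.PtR K585.Good K585.FrKill

variable {k : Type u} [Field k] [IsAlgClosed k] {n m : ℕ} {X S : Scheme.{u}} {f : X ⟶ S} {g₀ : X ⟶ PZ n}
  [IsClosedImmersion (toPS g₀ f)] {sS : S ⟶ Spec (CommRingCat.of k)} {P : Polynomial ℚ} {Φ : ℤ → ℤ} {N e a b : ℕ}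
  {p : Fin (m + 1) → Poly k a b (hn n e)}

omit [IsAlgClosed k] in
lemma rgFam_of_adm (G : Good k n P Φ N e a b) {T : Over S} {E : (PicF.XT f T).Modules} (hE : Adm f sS g₀ P T E) :
    RgFam f sS g₀ P N T E where
  coh := hE.coh
  flat := hE.flat
  rg t ht := by
    let _ := ovr f (t ≫ T.hom)
    have h1 : IsClosedImmersion (toPA (gT f g₀ (Over.mk (t ≫ T.hom)))
        (PicF.XT f (Over.mk (t ≫ T.hom)) ↘ Spec (CommRingCat.of k))) := isClosedImmersion_toPA f g₀ (t ≫ T.hom)
    have h2 := hE.ssh t ht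
    exact ⟨G.reg _ _ _ h2, h2.hp⟩

variable {B : Type u} [CommRing B] {s : Spec (CommRingCat.of B) ⟶ S}

omit [IsAlgClosed k] in
/-- the Kronecker module of a frame at a closed point -/
lemma isSS_pt (G : Good k n P Φ N e a b) [LocallyOfFiniteType (s ≫ sS)] {E : (PicF.XT f (Over.mk s)).Modules}
    (hE : Adm f sS g₀ P (Over.mk s) E) (hC : CohOut f g₀ P N s E)
    {v : Fin a → Sec (gT f g₀ (Over.mk s)) (prB f s) E} {w : Fin b → Sec (gT f g₀ (Over.mk s)) (prB f s) E}
    {α : Kr a b (hn n e) B} (hfr : IsFrame (gT f g₀ (Over.mk s)) (prB f s) E N e v w α) (ρ : B →+* k)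
    (hρ : Spec.map (CommRingCat.ofHom ρ) ≫ s ≫ sS = 𝟙 (Spec (CommRingCat.of k))) : IsSS (krMap ρ α) := by
  let t : Spec (CommRingCat.of k) ⟶ (Over.mk s).left := Spec.map (CommRingCat.ofHom ρ)
  let _ := ovr f (t ≫ s)
  have h1 : IsClosedImmersion (toPA (gT f g₀ (Over.mk (t ≫ s)))
      (PicF.XT f (Over.mk (t ≫ s)) ↘ Spec (CommRingCat.of k))) := isClosedImmersion_toPA f g₀ (t ≫ s)
  have h2 : SSh k (gT f g₀ (Over.mk (t ≫ s))) P ((Scheme.Modules.pullback (PicF.XTmap f
    (Over.homMk t rfl : Over.mk (t ≫ s) ⟶ Over.mk s))).obj E) := hE.ssh t hρ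
  exact (G.mt _ _ _ h2.coh h2.hp).2 h2 _ _ _
    (frame_pull (Over.homMk t rfl : Over.mk (t ≫ s) ⟶ Over.mk s) (φ := ρ) rfl hC hfr)

/-- the point of the space of Kronecker modules attached to a frame is semistable -/
lemma range_le (G : Good k n P Φ N e a b) (king : ∀ α : Kr a b (hn n e) k, (∃ i, evr (RingHom.id k) α (p i) ≠ 0) ↔ IsSS α)
    [LocallyOfFiniteType (s ≫ sS)] {E : (PicF.XT f (Over.mk s)).Modules}
    (hE : Adm f sS g₀ P (Over.mk s) E) (hC : CohOut f g₀ P N s E)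
    {v : Fin a → Sec (gT f g₀ (Over.mk s)) (prB f s) E} {w : Fin b → Sec (gT f g₀ (Over.mk s)) (prB f s) E}
    {α : Kr a b (hn n e) B} (hfr : IsFrame (gT f g₀ (Over.mk s)) (prB f s) E N e v w α) :
    Set.range (ptB (B := .of B) s α) ⊆ ssOpen sS p := by
  rintro _ ⟨y, rfl⟩
  obtain ⟨𝔪, h𝔪, hle⟩ := Ideal.exists_le_maximal _ y.isPrime.ne_top
  let c := sB (B := .of B) (s ≫ sS)
  have hc : c.FiniteType := sB_finiteType _
  obtain ⟨ρ, hρ, hker⟩ := K679.ClosedAlg.exists_point c hc 𝔪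
  have hρ' : Spec.map (CommRingCat.ofHom ρ) ≫ s ≫ sS = 𝟙 (Spec (CommRingCat.of k)) := by
    rw [← spec_sB (B := .of B) (s ≫ sS), ← Spec.map_comp, ← Spec.map_id]
    congr 1
    ext x
    exact congr($hρ x)
  let t : Spec (CommRingCat.of k) ⟶ Spec (CommRingCat.of B) := Spec.map (CommRingCat.ofHom ρ)
  have h1 : (t ≫ ptB (B := .of B) s α) (IsLocalRing.closedPoint k) ∈ ssOpen sS p := by
    rw [mem_ssOpen_iff]
    have h2 : (t ≫ ptB (B := .of B) s α) ≫ prS a b (hn n e) S ≫ sS = 𝟙 _ := by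
      rw [Category.assoc, ← Category.assoc (ptB (B := .of B) s α), ptB_prS]
      exact hρ'
    have h3 : sB ((t ≫ ptB (B := .of B) s α) ≫ prS a b (hn n e) S ≫ sS) = RingHom.id k := by
      rw [h2, ← Spec.map_id, sB_spec]
      rfl
    rw [h3, cB_comp, cB_ptB]
    exact (king _).2 (isSS_pt G hE hC hfr ρ hρ')
  rw [Scheme.Hom.comp_apply] at h1
  let z : PrimeSpectrum B := t (IsLocalRing.closedPoint k)
  have hz : z.asIdeal = 𝔪 := by
    change Ideal.comap ρ (IsLocalRing.closedPoint k).asIdeal = 𝔪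
    have h4 : (IsLocalRing.closedPoint k).asIdeal = ⊥ := IsLocalRing.maximalIdeal_eq_bot
    rw [h4, ← hker]
    rfl
  have hyz' : (y : PrimeSpectrum B).asIdeal ≤ z.asIdeal := by
    rw [hz]
    exact hle
  have hyz : @Specializes (PrimeSpectrum B) _ y z := (PrimeSpectrum.le_iff_specializes (y : PrimeSpectrum B) z).1 hyz'
  have h5 : IsOpen ((ptB (B := .of B) s α) ⁻¹' (ssOpen sS p : Set _)) :=
    (ssOpen sS p).isOpen.preimage (ptB (B := .of B) s α).continuous
  exact hyz.mem_open h5 h1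

/-- **An admissible family with a frame comes from `R`.** -/
theorem exists_of_frame (𝓡 : RD f g₀ sS Φ N e a b p) (G : Good k n P Φ N e a b)
    (king : ∀ α : Kr a b (hn n e) k, (∃ i, evr (RingHom.id k) α (p i) ≠ 0) ↔ IsSS α)
    [LocallyOfFiniteType (s ≫ sS)] {E : (PicF.XT f (Over.mk s)).Modules}
    (hE : Adm f sS g₀ P (Over.mk s) E)
    {v : Fin a → Sec (gT f g₀ (Over.mk s)) (prB f s) E} {w : Fin b → Sec (gT f g₀ (Over.mk s)) (prB f s) E}
    {α : Kr a b (hn n e) B} (hfr : IsFrame (gT f g₀ (Over.mk s)) (prB f s) E N e v w α) :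
    ∃ x : Over.mk s ⟶ 𝓡.TR, Nonempty (E ≅ (Scheme.Modules.pullback (PicF.XTmap f x)).obj 𝓡.ER) := by
  have hR : RgFam f sS g₀ P N (Over.mk s) E := rgFam_of_adm G hE
  have hC := K679.Coh.coh' f sS g₀ s E hR
  have hBN : IsNoetherianRing B := by
    have hKN : IsLocallyNoetherian (Spec (CommRingCat.of k)) := isLocallyNoetherian_Spec.2 inferInstance
    have h1 : IsLocallyNoetherian (Spec (CommRingCat.of B)) := LocallyOfFiniteType.isLocallyNoetherian (s ≫ sS)
    exact isLocallyNoetherian_Spec.1 h1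
  have hv : ∀ j, v j ∈ TwSec (gT f g₀ (Over.mk s)) (prB f s) E N := fun j => by
    rw [← hfr.v_bas.span]
    exact Submodule.subset_span ⟨j, rfl⟩
  obtain ⟨h1, h2, h3⟩ := K922.FrmRel.frame_rel f sS g₀ s E hR G.Φ_eq v hfr.v_bas hv
  have := isClosedImmersion_toPA f g₀ s
  obtain ⟨x, hs, -, θ, -⟩ := 𝓡.exists_pt G.num' G.he hE.coh hE.flat h1 h3
    (kills_of_isKr hE.coh.1 hfr.kr hfr.w_bas.li hv) (range_le G king hE hC hfr)
  exact ⟨𝓡.pt x hs, ⟨θ⟩⟩

/-- **Admissible families over affine schemes of finite type come locally from `R`.** -/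
theorem exists_loc (𝓡 : RD f g₀ sS Φ N e a b p) (G : Good k n P Φ N e a b)
    (king : ∀ α : Kr a b (hn n e) k, (∃ i, evr (RingHom.id k) α (p i) ≠ 0) ↔ IsSS α)
    [LocallyOfFiniteType (s ≫ sS)] {E : (PicF.XT f (Over.mk s)).Modules}
    (hE : Adm f sS g₀ P (Over.mk s) E) (y : PrimeSpectrum B) : ∃ r : B, r ∉ y.asIdeal ∧
      ∃ x : Over.mk (Spec.map (CommRingCat.ofHom (algebraMap B (Localization.Away r))) ≫ s) ⟶ 𝓡.TR,
        Nonempty ((Scheme.Modules.pullback (PicF.XTmap f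
          (Over.homMk (Spec.map (CommRingCat.ofHom (algebraMap B (Localization.Away r)))) rfl :
            Over.mk (Spec.map (CommRingCat.ofHom (algebraMap B (Localization.Away r))) ≫ s) ⟶ Over.mk s))).obj E ≅
          (Scheme.Modules.pullback (PicF.XTmap f x)).obj 𝓡.ER) := by
  obtain ⟨r, hr, v, w, α, hfr⟩ := K679.Frm.exists_frame f sS g₀ s E (rgFam_of_adm G hE) G.ha G.hb y
  refine ⟨r, hr, ?_⟩
  have hlft : LocallyOfFiniteType ((Spec.map (CommRingCat.ofHom (algebraMap B (Localization.Away r))) ≫ s) ≫ sS) := by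
    have h1 : LocallyOfFiniteType (Spec.map (CommRingCat.ofHom (algebraMap B (Localization.Away r)))) :=
      inferInstance
    rw [Category.assoc]
    infer_instance
  exact exists_of_frame 𝓡 G king (K53.AdmPull.adm_pull _ _ _ hE) hfr

end K585.Loc
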