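import Groth.Agent.Coherent.K585.Kron
import Groth.Agent.Fga.QA1

/-!
PLAN FILE (sorried statements, never imported). Jobs of the Simpson moduli project (S14971, S14975, S15264).
-/

set_option autoImplicit false

open CategoryTheory CategoryTheory.Limits AlgebraicGeometry MvPolynomial

namespace K585.Plan

open K585.Kron

/-- JOB 1 (GIT pack). Proof: `G = SL_b × SL_a`, Hopf algebra `A = CoordGrp.SLn b ℂ ⊗ CoordGrp.SLn a ℂ`, linearly reductive
since a total integral exists (tensor product of the integrals: K191.LInt.exists_isLInt, isLinearlyReductive_of_isLInt,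
S12559); `ρ = (id ⊗ ∫) ∘ coact`; `ρ_stable` because an `A`-stable subspace of a locally finite comodule is the same as a
`G(ℂ)`-stable one (S8024, A reduced finite type); finite generation S17526 / S3275 and a Veronese subring generated in
degree one; King's criterion: `=>` explicit one-parameter subgroup with weights
`(a - v') b, - v' b` on `V' ⊕ V''` and `(b - w') a, - w' a` on `W' ⊕ W''` (limit `0`, an invariant homogeneous polynomial
of positive degree vanishes at `0`), `<=` Hilbert--Mumford (S12542: a negative value of `mu` gives gradings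
`V = ⊕ V_i`, `W = ⊕ W_j` with `∑ i dim V_i = 0 = ∑ j dim W_j` and `α (V_{≥ i} ⊗ H) ⊆ W_{> i}`; then
`dim W_{≥ i+1} / b ≥ dim V_{≥ i} / a`, summing over `i` gives `0 ≥ 1`). -/
theorem exists_pack (a b h : ℕ) (ha : 0 < a) (hb : 0 < b) :
    ∃ (m e : ℕ) (f : Fin (m + 1) → Poly a b h) (ρ : Poly a b h →ₗ[ℂ] Poly a b h), Pack a b h m e f ρ := by
  sorry

variable {a b h m e : ℕ} {f : Fin (m + 1) → Poly a b h} {ρ : Poly a b h →ₗ[ℂ] Poly a b h}

/-- JOB 2 (quotient). `R` is a `GL_b(ℂ) × GL_a(ℂ)`-stable closed subscheme of the semistable locus of `𝔸(Idx; S)`;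
`M` is the scheme theoretic image of `[f_0 : ... : f_m] : R ⟶ P^m_S`. On the chart `D₊(x_i)` over an affine open `U` of `S`
the preimage in `R` is `Spec (A_i / I_i)`, `A_i = Γ(U)[Idx]_{f_i}`, and `Γ(U)[x_j / x_i] → (A_i / I_i)^G` is surjective
(Reynolds operator + generation), so `R ⟶ M` is affine with `Γ(M_i) = Γ(R_i)^G`. -/
theorem exists_quot (P : Pack a b h m e f ρ) {S R : Scheme.{0}} (sS : S ⟶ Spec (CommRingCat.of ℂ))
    [LocallyOfFiniteType sS] [QuasiCompact sS] [IsSeparated sS]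
    (j : R ⟶ 𝔸(Idx a b h; S)) [IsImmersion j] (hle : Set.range j ⊆ ssOpen sS f)
    (hcl : ∃ Z : Set 𝔸(Idx a b h; S), IsClosed Z ∧ Set.range j = Z ∩ ssOpen sS f)
    (hst : ∀ (k : Matrix (Fin b) (Fin b) ℂ) (g : Matrix (Fin a) (Fin a) ℂ), k.det ≠ 0 → g.det ≠ 0 →
      ∃ γ : R ⟶ R, γ ≫ j = j ≫ actS sS k g) :
    ∃ (M : Scheme.{0}) (c : M ⟶ CohB1.ProjSpaceOver m S) (π : R ⟶ M), IsClosedImmersion c ∧ Surjective π ∧
      π ≫ c ≫ CohB1.ProjSpaceOver.toBase m S = j ≫ (𝔸(Idx a b h; S) ↘ S) ∧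
      (∀ (T : Scheme.{0}) (x y : T ⟶ R),
        x ≫ j ≫ (𝔸(Idx a b h; S) ↘ S) = y ≫ j ≫ (𝔸(Idx a b h; S) ↘ S) →
        (∃ (k : Matrix (Fin b) (Fin b) Γ(T, ⊤)) (g : Matrix (Fin a) (Fin a) Γ(T, ⊤)), IsUnit k ∧ IsUnit g ∧
          crd (y ≫ j) = act k g (crd (x ≫ j))) → x ≫ π = y ≫ π) ∧
      (∀ (N : Scheme.{0}) (ψ : R ⟶ N), (∀ (k : Matrix (Fin b) (Fin b) ℂ) (g : Matrix (Fin a) (Fin a) ℂ)
        (γ : R ⟶ R), k.det ≠ 0 → g.det ≠ 0 → γ ≫ j = j ≫ actS sS k g → γ ≫ ψ = ψ) → ∃! χ : M ⟶ N, π ≫ χ = ψ) ∧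
      (∀ Z : Set R, IsClosed Z → (∀ (k : Matrix (Fin b) (Fin b) ℂ) (g : Matrix (Fin a) (Fin a) ℂ)
        (γ : R ⟶ R), k.det ≠ 0 → g.det ≠ 0 → γ ≫ j = j ≫ actS sS k g → γ '' Z ⊆ Z) → IsClosed (π '' Z)) ∧
      (∀ Z Z' : Set R, IsClosed Z → IsClosed Z' → Disjoint Z Z' →
        (∀ (k : Matrix (Fin b) (Fin b) ℂ) (g : Matrix (Fin a) (Fin a) ℂ)
        (γ : R ⟶ R), k.det ≠ 0 → g.det ≠ 0 → γ ≫ j = j ≫ actS sS k g → γ '' Z ⊆ Z) →
        (∀ (k : Matrix (Fin b) (Fin b) ℂ) (g : Matrix (Fin a) (Fin a) ℂ)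
        (γ : R ⟶ R), k.det ≠ 0 → g.det ≠ 0 → γ ≫ j = j ≫ actS sS k g → γ '' Z' ⊆ Z') →
        Disjoint (π '' Z) (π '' Z')) := by
  sorry

end K585.Plan
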