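import Groth.Agent.Coherent.K585.Alev

/-!
PLAN FILE (sorried statements, never imported). Nodes FRM of the Simpson moduli project: frames of families.
Definitions: `K585.Defs`, `K585.KronK`, `K585.Alev` (`Sur`). Tools: `K679` (node COH).
-/

set_option autoImplicit false

universe u

open CategoryTheory CategoryTheory.Limits AlgebraicGeometry MvPolynomial

namespace K585.Plan3

open Groth.Agent Fga.QTDefs Fga.QT8 Fga.QT4b Fga.QT6a Fga.QT6c Fga.QA0 K585.KronK K585.Defs K585.Alev

variable {k : Type u} [Field k] [IsAlgClosed k] {n : ℕ} {X S : Scheme.{u}} (f : X ⟶ S)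
  (sS : S ⟶ Spec (CommRingCat.of k)) (g₀ : X ⟶ PZ n) [IsClosedImmersion (toPS g₀ f)]
  {P : Polynomial ℚ} {N : ℕ} {B : Type u} [CommRing B] (s : Spec (CommRingCat.of B) ⟶ S)

/-- NODE FRM1. Frames exist locally on the base. (`TwSec E N`, `TwSec E (N + e)` are finite projective of rank `a`, `b` and
commute with the base change `B → B_r`; `α` exists as `w` spans `TwSec E (N + e)`.) -/
theorem exists_frame [LocallyOfFiniteType (s ≫ sS)] (E : (PicF.XT f (Over.mk s)).Modules)
    (hE : RgFam f sS g₀ P N (Over.mk s) E) {e a b : ℕ} (ha : (a : ℚ) = P.eval (N : ℚ))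
    (hb : (b : ℚ) = P.eval ((N + e : ℕ) : ℚ)) (p : PrimeSpectrum B) :
    ∃ r : B, r ∉ p.asIdeal ∧
      let s' : Spec (CommRingCat.of (Localization.Away r)) ⟶ S :=
        Spec.map (CommRingCat.ofHom (algebraMap B (Localization.Away r))) ≫ s
      let h : Over.mk s' ⟶ Over.mk s := Over.homMk (Spec.map (CommRingCat.ofHom (algebraMap B (Localization.Away r)))) rfl
      ∃ (v : Fin a → Sec (gT f g₀ (Over.mk s')) (prB f s') ((Scheme.Modules.pullback (PicF.XTmap f h)).obj E))
        (w : Fin b → Sec (gT f g₀ (Over.mk s')) (prB f s') ((Scheme.Modules.pullback (PicF.XTmap f h)).obj E))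
        (α : Kr a b (hn n e) (Localization.Away r)),
        IsFrame (gT f g₀ (Over.mk s')) (prB f s') ((Scheme.Modules.pullback (PicF.XTmap f h)).obj E) N e v w α := by
  sorry

/-- NODE FRM2. `a = P(N)` sections which are linearly independent at all complex points form a basis. (At a `k`-point `t` they
are a basis of `TwSec (E_t) N`, of dimension `P(N)`; Nakayama along the base change `K679.CohBC.isBC`.) -/
theorem isBas_of_fibres [LocallyOfFiniteType (s ≫ sS)] (E : (PicF.XT f (Over.mk s)).Modules)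
    (hE : RgFam f sS g₀ P N (Over.mk s) E) {a : ℕ} (ha : (a : ℚ) = P.eval (N : ℚ))
    (v : Fin a → Sec (gT f g₀ (Over.mk s)) (prB f s) E) (hv : ∀ j, v j ∈ TwSec (gT f g₀ (Over.mk s)) (prB f s) E N)
    (h : ∀ t : Spec (CommRingCat.of k) ⟶ Spec (CommRingCat.of B), t ≫ s ≫ sS = 𝟙 (Spec (CommRingCat.of k)) →
      LinearIndependent k (fun j => pbS f g₀ (Over.homMk t rfl : Over.mk (t ≫ s) ⟶ Over.mk s) E (v j))) :
    IsBas (TwSec (gT f g₀ (Over.mk s)) (prB f s) E N) v := by
  sorry

/-- NODE FRM3. A basis `v` of `TwSec E N` and a surjective Kronecker module `α` killing the relations of degree `e` between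
the `v_j` are part of a frame. (`W_e → TwSec E (N + e)` is surjective by `CohOut.mul`; `α` factors through it,
`TwSec E (N + e) → B^b` is a surjective map between projective modules of rank `b`.) -/
theorem exists_w [LocallyOfFiniteType (s ≫ sS)] (E : (PicF.XT f (Over.mk s)).Modules)
    (hE : RgFam f sS g₀ P N (Over.mk s) E) {e a b : ℕ} (hb : (b : ℚ) = P.eval ((N + e : ℕ) : ℚ))
    (v : Fin a → Sec (gT f g₀ (Over.mk s)) (prB f s) E) (hv : IsBas (TwSec (gT f g₀ (Over.mk s)) (prB f s) E N) v)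
    (hv' : ∀ j, v j ∈ TwSec (gT f g₀ (Over.mk s)) (prB f s) E N) (α : Kr a b (hn n e) B) (hα : Sur α)
    (hk : ∀ w ∈ Wd (Fin (n + 1)) (Fin a) B e, sgL (prB f s) (sysOf v hv') w = 0 → alev α w = 0) :
    ∃ w, IsFrame (gT f g₀ (Over.mk s)) (prB f s) E N e v w α := by
  sorry

/-- NODE FRM4. The relations of a frame. For a frame `(v, w, α)` of `E` let `L = grSub (sysOf v) ⊥`. Then `L` is a point of
Quot with Hilbert polynomial `Φ`, killed by `α`, and `v` generates `E`. (`W_d / L_d ≅ TwSec E (N + d)` for all `d`.) -/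
theorem frame_rel [LocallyOfFiniteType (s ≫ sS)] (E : (PicF.XT f (Over.mk s)).Modules)
    (hE : RgFam f sS g₀ P N (Over.mk s) E) {a : ℕ} {Φ : ℤ → ℤ} (hΦ : ∀ m : ℤ, (Φ m : ℚ) = P.eval (m : ℚ))
    (v : Fin a → Sec (gT f g₀ (Over.mk s)) (prB f s) E) (hv : IsBas (TwSec (gT f g₀ (Over.mk s)) (prB f s) E N) v)
    (hv' : ∀ j, v j ∈ TwSec (gT f g₀ (Over.mk s)) (prB f s) E N) :
    (sysOf v hv').Gen ∧ IsQuotPt (grSub (gT f g₀ (Over.mk s)) (prB f s) (sysOf v hv') ⊥) ∧
      Fga.HilbAsm1.HP (fun d => Φ (d + N)) (grSub (gT f g₀ (Over.mk s)) (prB f s) (sysOf v hv') ⊥) := by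
  sorry

end K585.Plan3
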