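import Groth.Agent.Coherent.K585.KronK
import Mathlib.FieldTheory.IsAlgClosed.Basic

/-!
PLAN FILE (sorried statements, never imported). Jobs 38, 39 over an arbitrary algebraically closed field of
characteristic zero.
-/

set_option autoImplicit false

universe u

open CategoryTheory CategoryTheory.Limits AlgebraicGeometry MvPolynomial

namespace K585.PlanK

open K585.KronK

variable {K : Type u} [Field K]

/-- JOB 38 (GIT pack). -/
theorem exists_pack (K : Type u) [Field K] [IsAlgClosed K] [CharZero K] (a b h : ℕ) (ha : 0 < a) (hb : 0 < b) :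
    ∃ (m e : ℕ) (f : Fin (m + 1) → Poly K a b h) (ρ : Poly K a b h →ₗ[K] Poly K a b h), Pack a b h m e f ρ := by
  sorry

/-- JOB 39 (quotient). -/
theorem exists_quot [IsAlgClosed K] [CharZero K] {a b h m e : ℕ} {f : Fin (m + 1) → Poly K a b h}
    {ρ : Poly K a b h →ₗ[K] Poly K a b h} (P : Pack a b h m e f ρ) {S R : Scheme.{u}}
    (sS : S ⟶ Spec (CommRingCat.of K)) [LocallyOfFiniteType sS] [QuasiCompact sS] [IsSeparated sS]
    (j : R ⟶ AS a b h S) [IsImmersion j] (hle : Set.range j ⊆ ssOpen sS f)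
    (hcl : ∃ Z : Set (AS a b h S), IsClosed Z ∧ Set.range j = Z ∩ ssOpen sS f) (hst : IsStable sS j) :
    ∃ (M : Scheme.{u}) (c : M ⟶ CohB1.ProjSpaceOver m S) (π : R ⟶ M), IsQuot sS j c π := by
  sorry

end K585.PlanK
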