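import Groth.Agent.Coherent.K585.IsoCrit
import Groth.Agent.Coherent.K53.FibPoly
import Groth.Agent.Coherent.K679.Coh

/-!
# Points of the Quot scheme: the quotient and its generating system

* `secs 𝒱 j`, `sysOf_secs`: a generating system as a family of twisted sections;
* `pull0 h 𝒱` : pull back of a system along a morphism of bases; `pull0_secs`;
* `VK 𝒳 K` : the system of `F_T / K`; `grSub_VK`, `gen_VK`, `exists_iso_pull`;
* `euler_iff` : the Hilbert polynomial of a quotient over a field.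
-/

set_option autoImplicit false

universe u v

open CategoryTheory CategoryTheory.Limits AlgebraicGeometry Opposite MvPolynomial

namespace K585.PtQ

open Groth.Agent Groth.Agent.Fga QA0 QTDefs QTPull QT4 QT4b QT5 QT6a QT6c QT8 QG5 K277.GenTw K277.Frames
  K277.GlobRep K585.Defs K585.HomTw K585.QDQuot K585.IsoCrit

section Secs

variable {n : ℕ} {Y : Scheme.{u}} {g : Y ⟶ PZ n} {A : Type u} [CommRing A] {q : Y ⟶ Spec (CommRingCat.of A)}
  {E E' : Y.Modules} {ι : Type v} {N : ℕ}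

variable (q) in
/-- the members of a system, as families of sections -/
def secs (𝒱 : GenSys g E ι N) (j : ι) : Sec g q E := fun i => 𝒱.e i j

lemma secs_apply (𝒱 : GenSys g E ι N) (j : ι) (i : Fin (n + 1)) : secs q 𝒱 j i = 𝒱.e i j := rfl

lemma secs_mem (𝒱 : GenSys g E ι N) (j : ι) : secs q 𝒱 j ∈ TwSec g q E N := fun i k => 𝒱.glue i k j

@[simp] lemma sysOf_secs (𝒱 : GenSys g E ι N) : sysOf (secs q 𝒱) (secs_mem 𝒱) = 𝒱 := rfl

@[simp] lemma secs_sysOf (v : ι → Sec g q E) (hv : ∀ j, v j ∈ TwSec g q E N) : secs q (sysOf v hv) = v := rfl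

variable (g q) in
/-- action of a morphism on families of sections -/
noncomputable def mapSec (φ : E ⟶ E') : Sec g q E →ₗ[A] Sec g q E' where
  toFun v i := φ.app _ (v i)
  map_add' v w := by funext i; exact map_add _ _ _
  map_smul' c v := by funext i; exact Scheme.Modules.Hom.app_smul _ _ _

@[simp] lemma mapSec_apply (φ : E ⟶ E') (v : Sec g q E) (i : Fin (n + 1)) : mapSec g q φ v i = φ.app _ (v i) := rfl

lemma mapSec_mem (φ : E ⟶ E') {d : ℕ} {v : Sec g q E} (hv : v ∈ TwSec g q E d) : mapSec g q φ v ∈ TwSec g q E' d := by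
  intro i k
  rw [mapSec_apply, mapSec_apply, ← app_resM, ← app_resM, hv i k, Scheme.Modules.Hom.app_smul]

lemma mapSec_mulL (φ : E ⟶ E') (p : MvPolynomial (Fin (n + 1)) A) (v : Sec g q E) :
    mapSec g q φ (mulL g q E p v) = mulL g q E' p (mapSec g q φ v) := by
  funext i
  exact Scheme.Modules.Hom.app_smul _ _ _

lemma secs_mapSys (𝒱 : GenSys g E ι N) (φ : E ⟶ E') (j : ι) : secs q (mapSys 𝒱 φ) j = mapSec g q φ (secs q 𝒱 j) := rfl

variable (g q) in
/-- an isomorphism on families of sections -/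
noncomputable def mapSecE (θ : E ≅ E') : Sec g q E ≃ₗ[A] Sec g q E' where
  __ := mapSec g q θ.hom
  invFun := mapSec g q θ.inv
  left_inv v := by
    funext i
    exact congr((Scheme.Modules.Hom.app $(θ.hom_inv_id) (V g i)) (v i))
  right_inv v := by
    funext i
    exact congr((Scheme.Modules.Hom.app $(θ.inv_hom_id) (V g i)) (v i))

lemma mapSecE_apply (θ : E ≅ E') (v : Sec g q E) : mapSecE g q θ v = mapSec g q θ.hom v := rfl

lemma map_TwSec (θ : E ≅ E') (d : ℕ) : (TwSec g q E d).map (mapSecE g q θ).toLinearMap = TwSec g q E' d := by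
  ext w
  constructor
  · rintro ⟨v, hv, rfl⟩
    exact mapSec_mem θ.hom hv
  · intro hw
    exact ⟨mapSec g q θ.inv w, mapSec_mem θ.inv hw, (mapSecE g q θ).right_inv w⟩

/-- transport of bases -/
lemma IsBas.map {κ : Type*} {d : ℕ} {v : κ → Sec g q E} (h : IsBas (TwSec g q E d) v) (θ : E ≅ E') :
    IsBas (TwSec g q E' d) fun j => mapSec g q θ.hom (v j) where
  li := h.li.map' (mapSecE g q θ).toLinearMap (LinearEquiv.ker _)
  span := by
    have h1 : (Set.range fun j => mapSec g q θ.hom (v j)) = (mapSecE g q θ).toLinearMap '' Set.range v := by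
      rw [← Set.range_comp]
      rfl
    rw [h1, Submodule.span_image, h.span, map_TwSec]

/-- transport of frames -/
lemma IsFrame.map {a b e : ℕ} {v : Fin a → Sec g q E} {w : Fin b → Sec g q E} {α : KronK.Kr a b (hn n e) A}
    (h : IsFrame g q E N e v w α) (θ : E ≅ E') :
    IsFrame g q E' N e (fun j => mapSec g q θ.hom (v j)) (fun j => mapSec g q θ.hom (w j)) α where
  v_bas := IsBas.map h.v_bas θ
  w_bas := IsBas.map h.w_bas θ
  kr l j := by
    rw [← mapSec_mulL, h.kr l j, map_sum]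
    exact Finset.sum_congr rfl fun k _ => map_smul _ _ _

end Secs

section Pull

variable {n : ℕ} {X S : Scheme.{u}} {f : X ⟶ S} {g₀ : X ⟶ PZ n} {ι : Type v} {N : ℕ}

/-- pull back of a system along a morphism of bases -/
noncomputable def pull0 {T T' : Over S} (h : T' ⟶ T) {E : (PicF.XT f T).Modules} (𝒱 : GenSys (gT f g₀ T) E ι N) :
    GenSys (gT f g₀ T') ((Scheme.Modules.pullback (PicF.XTmap f h)).obj E) ι N :=
  pull 𝒱 (XTmap_gT f g₀ h) (Iso.refl _)

lemma pull0_e {T T' : Over S} (h : T' ⟶ T) {E : (PicF.XT f T).Modules} (𝒱 : GenSys (gT f g₀ T) E ι N)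
    (i : Fin (n + 1)) (j : ι) : (pull0 h 𝒱).e i j = CohqA.PullbackQCoh.pbSec (PicF.XTmap f h) E (V (gT f g₀ T) i)
      (V (gT f g₀ T') i) (QTPull.V_le (XTmap_gT f g₀ h) i) (𝒱.e i j) := rfl

lemma secs_pull0 {B C : Type u} [CommRing B] [CommRing C] {s : Spec (CommRingCat.of B) ⟶ S}
    {s' : Spec (CommRingCat.of C) ⟶ S} (h : Over.mk s' ⟶ Over.mk s) {E : (PicF.XT f (Over.mk s)).Modules}
    (𝒱 : GenSys (gT f g₀ (Over.mk s)) E ι N) (j : ι) :
    secs (prB f s') (pull0 h 𝒱) j = pbS f g₀ h E (secs (prB f s) 𝒱 j) := by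
  funext i
  exact pull0_e h 𝒱 i j

lemma pull0_mapSys {T T' : Over S} (h : T' ⟶ T) {E E' : (PicF.XT f T).Modules} (𝒱 : GenSys (gT f g₀ T) E ι N)
    (φ : E ⟶ E') : pull0 h (mapSys 𝒱 φ) = mapSys (pull0 h 𝒱) ((Scheme.Modules.pullback (PicF.XTmap f h)).map φ) :=
  QTPull.genSys_ext fun i j => by
    have h1 := QTPull.pbSec_naturality (PicF.XTmap f h) φ (V (gT f g₀ T) i) (V (gT f g₀ T') i)
      (QTPull.V_le (XTmap_gT f g₀ h) i) (𝒱.e i j)
    exact h1.symm

end Pull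

lemma mapSys_hom_inv {n : ℕ} {Y : Scheme.{u}} {g : Y ⟶ PZ n} {E E' : Y.Modules} {ι : Type v} {N : ℕ}
    (𝒱 : GenSys g E ι N) (θ : E ≅ E') : mapSys (mapSys 𝒱 θ.hom) θ.inv = 𝒱 :=
  QTPull.genSys_ext fun i j => congr((Scheme.Modules.Hom.app $(θ.hom_inv_id) (V g i)) (𝒱.e i j))

lemma mapSys_inv_hom {n : ℕ} {Y : Scheme.{u}} {g : Y ⟶ PZ n} {E E' : Y.Modules} {ι : Type v} {N : ℕ}
    (𝒱 : GenSys g E' ι N) (θ : E ≅ E') : mapSys (mapSys 𝒱 θ.inv) θ.hom = 𝒱 :=
  QTPull.genSys_ext fun i j => congr((Scheme.Modules.Hom.app $(θ.inv_hom_id) (V g i)) (𝒱.e i j))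

section VK

variable {n : ℕ} {X S : Scheme.{u}} {f : X ⟶ S} {g₀ : X ⟶ PZ n} {F : X.Modules} {ι : Type v} {N : ℕ}
  (𝒳 : GenSys g₀ F ι N)

/-- the generating system of `F_T / K` -/
noncomputable def VK {T : Over S} (K : Subobject (FGA.ET f F T)) : GenSys (gT f g₀ T) (cokernel K.arrow) ι N :=
  mapSys (pullX f g₀ 𝒳 T) (cokernel.π K.arrow)

lemma pull0_pullX {T T' : Over S} (h : T' ⟶ T) :
    mapSys (pull0 h (pullX f g₀ 𝒳 T)) (FGA.ETiso f F h).hom = pullX f g₀ 𝒳 T' :=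
  pullT_pullX f g₀ 𝒳 h

/-- **Base change of the quotient with its system.** -/
theorem exists_iso_pull {T T' : Over S} (h : T' ⟶ T) (K : Subobject (FGA.ET f F T)) :
    ∃ θ : (Scheme.Modules.pullback (PicF.XTmap f h)).obj (cokernel K.arrow) ≅ cokernel (FGA.quotPull f F h K).arrow,
      mapSys (pull0 h (VK 𝒳 K)) θ.hom = VK 𝒳 (FGA.quotPull f F h K) := by
  obtain ⟨e, he⟩ := SubPull.exists_cokernel_subPull (PicF.XTmap f h) (FGA.ETiso f F h) K
  have h1 : mapSys (VK 𝒳 (FGA.quotPull f F h K)) e.hom = pull0 h (VK 𝒳 K) := by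
    change mapSys (pullX f g₀ 𝒳 T') (cokernel.π (SubPull.subPull (PicF.XTmap f h) (FGA.ETiso f F h) K).arrow ≫ e.hom) = _
    rw [he, SubPull.pq, mapSys_comp, VK, pull0_mapSys, ← pull0_pullX 𝒳 h, mapSys_hom_inv]
  let e' : cokernel (FGA.quotPull f F h K).arrow ≅ (Scheme.Modules.pullback (PicF.XTmap f h)).obj (cokernel K.arrow) := e
  refine ⟨e'.symm, ?_⟩
  rw [← h1]
  exact mapSys_hom_inv _ e'

variable [Fintype ι]

lemma grSub_VK {B : Type u} [CommRing B] {s : Spec (CommRingCat.of B) ⟶ S} (K : Subobject (FGA.ET f F (Over.mk s))) :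
    grSub (gT f g₀ (Over.mk s)) (prB f s) (VK 𝒳 K) ⊥ =
      gr (t := s) (pullX f g₀ 𝒳 (Over.mk s)) K := grSub_mapSys _ _

lemma gen_VK [IsClosedImmersion (toPS g₀ f)] {B : Type u} [CommRing B] {s : Spec (CommRingCat.of B) ⟶ S} (hF : Coh.IsQCoh F)
    (hX : (pullX f g₀ 𝒳 (Over.mk s)).Gen) (K : Subobject (FGA.ET f F (Over.mk s)))
    (hK : Coh.IsQCoh (cokernel K.arrow)) : (VK 𝒳 K).Gen :=
  gen_mapSys (q := prB f s) hX (isQCoh_ET f hF (Over.mk s)) hK (cokernel.π K.arrow)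

end VK

section Euler

variable {n : ℕ} {k : Type u} [Field k] {Y : Scheme.{u}} [Y.Over (Spec (CommRingCat.of k))] (g : Y ⟶ PZ n)
  [IsClosedImmersion (toPA g (Y ↘ Spec (CommRingCat.of k)))]

/-- The Hilbert function and the Euler characteristics. -/
lemma hasHilb_iff_euler {E : Y.Modules} (hE : Coh.IsCoh E) {c : ℕ} {Φ : ℤ → ℤ} (hΦ : QA1.Num c Φ) :
    HasHilb g (Y ↘ Spec (CommRingCat.of k)) E Φ ↔ ∀ m : ℤ, Curv2.euler k Y (twg g E m) = Φ m := by
  rw [K277.ChiHilb.hasHilb_iff_chi k g hE hΦ]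
  refine forall_congr' fun m => ?_
  rw [← K53.FibPoly.eulerLE_eq k n (K277.ChiHilb.emb k g) (K277.ChiHilb.emb_toSpec k g) (K679.CohBC.isCoh_twg hE m)]
  rfl

end Euler

end K585.PtQ
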