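import Groth.Agent.Coherent.K585.PtQ
import Groth.Agent.PerfC.RelFlat

/-!
# The universal family on `R` and its points

* `RD` : the data `(H, ξ, R, z)`; `j`, `TR`, `vR`, `ER`, `VR`;
* `rel_pt`, `gen_pt` : the relations of the system of `x^* ER` for `x : Spec B ⟶ R`;
* `exists_pt` : a sheaf with a generating system and a Kronecker module killing its relations gives a point of `R`.
-/

set_option autoImplicit false

universe u v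

open CategoryTheory CategoryTheory.Limits AlgebraicGeometry Opposite MvPolynomial

namespace K585.PtR

open Groth.Agent Groth.Agent.Fga QA0 QA1 QTDefs QTPull QT4 QT4b QT5 QT6a QT6c QT8 QG5 K277.GenTw K277.Frames
  K277.GlobRep K585.KronK K585.Alev K585.Coords K585.Defs K585.HomTw K585.QDQuot K585.IsoCrit K585.PtQ K585.ClosedR
  K585.RepR HilbAsm1 QT9Part NoethRep

variable {k : Type u} [Field k] {n m : ℕ} {X S : Scheme.{u}} (f : X ⟶ S) (g₀ : X ⟶ PZ n) [IsClosedImmersion (toPS g₀ f)]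
  (sS : S ⟶ Spec (CommRingCat.of k))

omit [IsClosedImmersion (toPS g₀ f)] in
lemma gen_iso {Y : Scheme.{u}} {g : Y ⟶ PZ n} {E E' : Y.Modules} {ι : Type v} [Fintype ι] {N : ℕ} {𝒱 : GenSys g E ι N}
    (θ : E ≅ E') (h : (mapSys 𝒱 θ.hom).Gen) : 𝒱.Gen := by
  rw [← mapSys_hom_inv 𝒱 θ]
  refine gen_mapSys_of_surjective h θ.inv fun i x => ⟨θ.hom.app _ x, ?_⟩
  exact congr((Scheme.Modules.Hom.app $(θ.hom_inv_id) (V g i)) x)

/-- The scheme `R` with its data. -/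
structure RD (Φ : ℤ → ℤ) (N e a b : ℕ) (p : Fin (m + 1) → Poly k a b (hn n e)) where
  H : Over S
  ξ : QFam f g₀ (FN g₀ N a) Φ H
  nr : IsNR f g₀ (FN g₀ N a) Φ H ξ
  hF : Coh.IsCoh (FN g₀ N a)
  R : Scheme.{u}
  z : R ⟶ AS a b (hn n e) H.left
  rep : IsRep sS (qd hF (globGen_E0 a N f g₀) nr) p z

variable {f g₀ sS} {Φ : ℤ → ℤ} {N e a b : ℕ} {p : Fin (m + 1) → Poly k a b (hn n e)} (𝓡 : RD f g₀ sS Φ N e a b p)

namespace RD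

/-- the family of submodules -/
noncomputable abbrev D : QD n a (fun d => Φ (d + N)) 𝓡.H := qd 𝓡.hF (globGen_E0 a N f g₀) 𝓡.nr

/-- the Kronecker module -/
noncomputable abbrev j : 𝓡.R ⟶ AS a b (hn n e) S := 𝓡.z ≫ asMap a b (hn n e) 𝓡.H.hom

/-- `R` over `S` -/
noncomputable abbrev TR : Over S := Over.mk (𝓡.j ≫ prS a b (hn n e) S)

lemma j_prS : 𝓡.j ≫ prS a b (hn n e) S = (𝓡.z ≫ prS a b (hn n e) 𝓡.H.left) ≫ 𝓡.H.hom := by
  rw [Category.assoc, Category.assoc, asMap_prS]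

/-- the point of the Quot scheme -/
noncomputable def vR : 𝓡.TR ⟶ 𝓡.H := Over.homMk (𝓡.z ≫ prS a b (hn n e) 𝓡.H.left) 𝓡.j_prS.symm

/-- the universal subsheaf -/
noncomputable abbrev KR : Subobject (FGA.ET f (FN g₀ N a) 𝓡.TR) := FGA.quotPull f (FN g₀ N a) 𝓡.vR 𝓡.ξ.1.1

/-- the universal family -/
noncomputable abbrev ER : (PicF.XT f 𝓡.TR).Modules := cokernel 𝓡.KR.arrow

/-- the universal system -/
noncomputable abbrev VR : GenSys (gT f g₀ 𝓡.TR) 𝓡.ER (Fin a) N := VK (EX g₀ N a) 𝓡.KR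

lemma mem_KR : Coh.IsCoh 𝓡.ER ∧ FlatMod.IsFlatOver (PicF.XTproj f 𝓡.TR) 𝓡.ER :=
  (show FGA.QuotSet f (FN g₀ N a) 𝓡.TR from (QuotFun.quot f (FN g₀ N a)).map 𝓡.vR.op 𝓡.ξ.1).2

/-- a point of `R` as a morphism over `S` -/
noncomputable abbrev pt {T : Scheme.{u}} (x : T ⟶ 𝓡.R) {s : T ⟶ S} (hs : x ≫ 𝓡.j ≫ prS a b (hn n e) S = s) :
    Over.mk s ⟶ 𝓡.TR := Over.homMk x hs

lemma hs_H {T : Scheme.{u}} (x : T ⟶ 𝓡.R) {s : T ⟶ S} (hs : x ≫ 𝓡.j ≫ prS a b (hn n e) S = s) :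
    (x ≫ 𝓡.z ≫ prS a b (hn n e) 𝓡.H.left) ≫ 𝓡.H.hom = s := by
  rw [← hs, j_prS]
  simp only [Category.assoc]

lemma pt_vR {T : Scheme.{u}} (x : T ⟶ 𝓡.R) {s : T ⟶ S} (hs : x ≫ 𝓡.j ≫ prS a b (hn n e) S = s) :
    𝓡.pt x hs ≫ 𝓡.vR = Over.homMk (x ≫ 𝓡.z ≫ prS a b (hn n e) 𝓡.H.left) (𝓡.hs_H x hs) := by
  apply Over.OverMorphism.ext
  rfl

/-- the fibre of the universal family at a point -/
noncomputable abbrev Ex {T : Scheme.{u}} (x : T ⟶ 𝓡.R) {s : T ⟶ S} (hs : x ≫ 𝓡.j ≫ prS a b (hn n e) S = s) :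
    (PicF.XT f (Over.mk s)).Modules := (Scheme.Modules.pullback (PicF.XTmap f (𝓡.pt x hs))).obj 𝓡.ER

/-- the system of the fibre of the universal family at a point -/
noncomputable abbrev Vx {T : Scheme.{u}} (x : T ⟶ 𝓡.R) {s : T ⟶ S} (hs : x ≫ 𝓡.j ≫ prS a b (hn n e) S = s) :
    GenSys (gT f g₀ (Over.mk s)) (𝓡.Ex x hs) (Fin a) N := pull0 (𝓡.pt x hs) 𝓡.VR

section Affine

variable {B : Type u} [CommRing B] (x : Spec (CommRingCat.of B) ⟶ 𝓡.R) {s : Spec (CommRingCat.of B) ⟶ S}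
  (hs : x ≫ 𝓡.j ≫ prS a b (hn n e) S = s)

lemma isCoh_Ex : Coh.IsCoh (𝓡.Ex x hs) := FormalA.PullbackQC.isCoh_pullback _ _ 𝓡.mem_KR.1

lemma isFlat_Ex : FlatMod.IsFlatOver (PicF.XTproj f (Over.mk s)) (𝓡.Ex x hs) := by
  obtain ⟨θ, -⟩ := exists_iso_pull (EX g₀ N a) (𝓡.pt x hs) 𝓡.KR
  have h1 : FlatMod.IsFlatOver (PicF.XTproj f (Over.mk s)) (cokernel (FGA.quotPull f (FN g₀ N a) (𝓡.pt x hs) 𝓡.KR).arrow) :=
    (show FGA.QuotSet f (FN g₀ N a) (Over.mk s) from (QuotFun.quot f (FN g₀ N a)).map (𝓡.pt x hs).op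
      ((QuotFun.quot f (FN g₀ N a)).map 𝓡.vR.op 𝓡.ξ.1)).2.2
  exact PerfC.RelFlat.isFlatOver_of_iso _ θ.symm h1

lemma gen_Vx : (𝓡.Vx x hs).Gen := by
  obtain ⟨θ, hθ⟩ := exists_iso_pull (EX g₀ N a) (𝓡.pt x hs) 𝓡.KR
  refine gen_iso θ ?_
  rw [hθ]
  refine gen_VK (EX g₀ N a) 𝓡.hF.1 ?_ _ ?_
  · rw [pullX_EX]
    exact frs_gen _ _
  · exact (show FGA.QuotSet f (FN g₀ N a) (Over.mk s) from (QuotFun.quot f (FN g₀ N a)).map (𝓡.pt x hs).op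
      ((QuotFun.quot f (FN g₀ N a)).map 𝓡.vR.op 𝓡.ξ.1)).2.1.1

/-- **the relations of the system at a point.** -/
theorem grSub_Vx [IsNoetherianRing B] : grSub (gT f g₀ (Over.mk s)) (prB f s) (𝓡.Vx x hs) ⊥ =
    𝓡.D.L (.of B) (x ≫ 𝓡.z ≫ prS a b (hn n e) 𝓡.H.left) := by
  obtain ⟨θ, hθ⟩ := exists_iso_pull (EX g₀ N a) (𝓡.pt x hs) 𝓡.KR
  have h1 := grSub_iso (q := prB f s) (𝓡.Vx x hs) θ.hom
  rw [hθ, grSub_VK, ← QuotPull.quotPull_comp, pt_vR] at h1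
  rw [← h1, qd_L 𝓡.hF (globGen_E0 a N f g₀) 𝓡.nr (.of B) _ s (𝓡.hs_H x hs), Es_E0]

/-- **A sheaf with a generating system and a Kronecker module gives a point of `R`.** -/
theorem exists_pt (hΦ : Num (n + 1) (fun d => Φ (d + N))) (he : bd (n + 1) (fun d => Φ (d + N)) ≤ e)
    {B : Type u} [CommRing B] [IsNoetherianRing B] {s : Spec (CommRingCat.of B) ⟶ S} {E : (PicF.XT f (Over.mk s)).Modules}
    (hE : Coh.IsCoh E) (hfl : FlatMod.IsFlatOver (PicF.XTproj f (Over.mk s)) E)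
    {𝒱 : GenSys (gT f g₀ (Over.mk s)) E (Fin a) N} (hgen : 𝒱.Gen)
    (hL : HP (fun d => Φ (d + N)) (grSub (gT f g₀ (Over.mk s)) (prB f s) 𝒱 ⊥)) {α : Kr a b (hn n e) B}
    (hα : Kills α (grSub (gT f g₀ (Over.mk s)) (prB f s) 𝒱 ⊥))
    (hss : Set.range (ptB (B := .of B) s α) ⊆ ssOpen sS p) :
    ∃ (x : Spec (CommRingCat.of B) ⟶ 𝓡.R) (hs : x ≫ 𝓡.j ≫ prS a b (hn n e) S = s), x ≫ 𝓡.j = ptB (B := .of B) s α ∧
      ∃ θ : E ≅ 𝓡.Ex x hs, mapSys 𝒱 θ.hom = 𝓡.Vx x hs := by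
  obtain ⟨φ, hφ, hφ'⟩ := exists_epi (q := prB f s) (TT f g₀ N (Over.mk s)) (D := DD f g₀ N a (Over.mk s))
    (ort_DD f g₀ N a (Over.mk s)) hE.1 hgen
  obtain ⟨e', -⟩ := SubobjSec.exists_cokernel_iso φ
  let K0 : FGA.QuotSet f (FN g₀ N a) (Over.mk s) := ⟨kernelSubobject φ, CohqB.LocalQC.isCoh_of_iso e'.symm hE,
    PerfC.RelFlat.isFlatOver_of_iso _ e'.symm hfl⟩
  have hgr : gr (t := s) (Es f g₀ (E0 f g₀ N a) s) K0.1 = grSub (gT f g₀ (Over.mk s)) (prB f s) 𝒱 ⊥ := by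
    rw [Es_E0, pullX_EX]
    exact (grSub_kernel _ _).trans (by rw [hφ'])
  have hfib : Fib (G := QuotFun.quot f (FN g₀ N a)) (QQ f g₀ (FN g₀ N a) Φ) (Over.mk s) K0 :=
    (Dict.fib_iff (compat 𝓡.hF (globGen_E0 a N f g₀) Φ) (B := .of B) s K0).2 (by
      change HP _ (gr (t := s) (Es f g₀ (E0 f g₀ N a) s) K0.1)
      rw [hgr]
      exact hL)
  have hN : IsLocallyNoetherian (Over.mk s).left := isLocallyNoetherian_Spec.2 ‹_›
  obtain ⟨v, hv, -⟩ := QDQuot.exists_pt 𝓡.nr (Over.mk s) K0 hfib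
  have hw : v.left ≫ 𝓡.H.hom = s := Over.w v
  have hD : 𝓡.D.L (.of B) v.left = grSub (gT f g₀ (Over.mk s)) (prB f s) 𝒱 ⊥ := by
    rw [← hgr, ← hv]
    exact qd_L 𝓡.hF (globGen_E0 a N f g₀) 𝓡.nr (.of B) v.left s hw
  let x0 : Spec (CommRingCat.of B) ⟶ AS a b (hn n e) 𝓡.H.left := ptB (B := .of B) v.left α
  have h1 : x0 ≫ asMap a b (hn n e) 𝓡.H.hom = ptB (B := .of B) s α := by
    refine cB_injective ?_ ?_
    · rw [Category.assoc, asMap_prS, ← Category.assoc, ptB_prS, ptB_prS, hw]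
    · rw [cB_asMap, cB_ptB, cB_ptB]
  have hc : Cnd 𝓡.D x0 := (cnd_iff hΦ he (A := .of B) x0).2 (by
    rw [cB_ptB, ptB_prS, hD]
    exact hα)
  obtain ⟨x, hx⟩ := 𝓡.rep.univ x0 hc (by rw [h1]; exact hss)
  have hj : x ≫ 𝓡.j = ptB (B := .of B) s α := by rw [← Category.assoc, hx, h1]
  have hs' : x ≫ 𝓡.j ≫ prS a b (hn n e) S = s := by rw [← Category.assoc, hj, ptB_prS]
  refine ⟨x, hs', hj, ?_⟩
  refine iso_of_grSub (prB f s) hE.1 (𝓡.isCoh_Ex x hs').1 hgen (𝓡.gen_Vx x hs') ?_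
  rw [grSub_Vx, ← hD]
  congr 1
  rw [← Category.assoc, hx, ptB_prS]

end Affine

end RD

end K585.PtR
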