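import Groth.Agent.Coherent.K585.ClosedR
import Groth.Agent.Coherent.K585.Sur
import Groth.Agent.Coherent.K585.GlueAff
import Groth.Agent.Coherent.K739.KrSemi
import Mathlib.AlgebraicGeometry.ZariskisMainTheorem

/-!
# The scheme of pairs (point of Quot, semistable Kronecker module killing it)

`exists_R`: it exists, is a closed subscheme of the semistable locus of the affine space of Kronecker modules over `S`,
and has the expected universal property; `isStable` : it is stable under `GL_b(K) × GL_a(K)`.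
-/

set_option autoImplicit false

universe u

open CategoryTheory CategoryTheory.Limits AlgebraicGeometry MvPolynomial

namespace K585.RepR

open Groth.Agent Fga.QA0 Fga.QA1 Fga.HilbAsm1 K585.KronK K585.Defs K585.Alev K585.Coords K585.ClosedR K585.Sur

variable {K : Type u} [Field K] [IsAlgClosed K] {S : Scheme.{u}} (sS : S ⟶ Spec (CommRingCat.of K))
  {n a b e m : ℕ} {Φ : ℤ → ℤ} {H : Over S} (D : QD n a Φ H) (f : Fin (m + 1) → Poly K a b (hn n e))

/-- The pairs (point of `H`, Kronecker module killing it, with values in the semistable locus). -/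
structure IsRep {R : Scheme.{u}} (z : R ⟶ AS a b (hn n e) H.left) : Prop where
  noeth : IsLocallyNoetherian R
  imm : IsImmersion z
  cnd : Cnd D z
  range : Set.range (z ≫ asMap a b (hn n e) H.hom) ⊆ ssOpen sS f
  univ : ∀ {T : Scheme.{u}} [IsLocallyNoetherian T] (x : T ⟶ AS a b (hn n e) H.left), Cnd D x →
    Set.range (x ≫ asMap a b (hn n e) H.hom) ⊆ ssOpen sS f → ∃ y : T ⟶ R, y ≫ z = x

variable {D f} (hΦ : Num (n + 1) Φ) (he : bd (n + 1) Φ ≤ e) (hb : (b : ℤ) = Φ e) (ha : 0 < a)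
  (king : ∀ α : Kr a b (hn n e) K, (∃ i, evr (RingHom.id K) α (f i) ≠ 0) ↔ IsSS α)

include hΦ he hb ha king in
/-- the point of `H` is determined by the Kronecker module -/
lemma eq_of_asMap {B : CommRingCat.{u}} [IsNoetherianRing B] (x y : Spec B ⟶ AS a b (hn n e) H.left)
    (hx : Cnd D x) (hy : Cnd D y) (hxy : x ≫ asMap a b (hn n e) H.hom = y ≫ asMap a b (hn n e) H.hom)
    (hr : Set.range (x ≫ asMap a b (hn n e) H.hom) ⊆ ssOpen sS f)
    [LocallyOfFiniteType ((x ≫ asMap a b (hn n e) H.hom) ≫ prS a b (hn n e) S ≫ sS)] : x = y := by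
  have h1 : cB x = cB y := by rw [← cB_asMap H.hom x, hxy, cB_asMap]
  have h2 : Sur (cB x) := by
    rw [← cB_asMap H.hom x]
    exact sur_of_range sS king ha _ hr
  have h3 := (cnd_iff hΦ he x).1 hx
  have h4 := (cnd_iff hΦ he y).1 hy
  rw [← h1] at h4
  have h5 : D.L B (x ≫ prS a b (hn n e) H.left) = D.L B (y ≫ prS a b (hn n e) H.left) :=
    eq_of_kills hΦ (D.quot _ _) (D.hp _ _) (D.quot _ _) (D.hp _ _) he hb h2 h3 h4
  refine cB_injective (D.inj B _ _ ?_ h5) h1
  have h6 := congrArg (· ≫ prS a b (hn n e) S) hxy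
  simp only [Category.assoc, asMap_prS] at h6
  simpa only [Category.assoc] using h6

variable [LocallyOfFiniteType sS]

include hΦ he hb ha king in
lemma mono_asMap {R : Scheme.{u}} (z : R ⟶ AS a b (hn n e) H.left) [Mono z] (hz : Cnd D z)
    (hr : Set.range (z ≫ asMap a b (hn n e) H.hom) ⊆ ssOpen sS f)
    [LocallyOfFiniteType (z ≫ asMap a b (hn n e) H.hom)] : Mono (z ≫ asMap a b (hn n e) H.hom) := by
  let j := z ≫ asMap a b (hn n e) H.hom
  have hj : LocallyOfFiniteType j := ‹_›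
  have hpr : LocallyOfFiniteType (prS a b (hn n e) S) := inferInstance
  have h0 : LocallyOfFiniteType (pullback.fst j j ≫ j ≫ prS a b (hn n e) S ≫ sS) := inferInstance
  have hN : IsLocallyNoetherian (pullback j j) := by
    have : IsLocallyNoetherian (Spec (CommRingCat.of K)) := isLocallyNoetherian_Spec.2 inferInstance
    exact LocallyOfFiniteType.isLocallyNoetherian (pullback.fst j j ≫ j ≫ prS a b (hn n e) S ≫ sS)
  have key : pullback.fst j j = pullback.snd j j := by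
    refine GlueAff.hom_ext_aff _ _ fun B _ u _ => ?_
    rw [← cancel_mono z]
    have h1 : ((u ≫ pullback.fst j j) ≫ z) ≫ asMap a b (hn n e) H.hom =
        ((u ≫ pullback.snd j j) ≫ z) ≫ asMap a b (hn n e) H.hom := by
      have := congrArg (u ≫ ·) (pullback.condition (f := j) (g := j))
      simpa only [j, Category.assoc] using this
    have h2 : Set.range (((u ≫ pullback.fst j j) ≫ z) ≫ asMap a b (hn n e) H.hom) ⊆ ssOpen sS f := by
      rintro _ ⟨p, rfl⟩
      refine hr ⟨(u ≫ pullback.fst j j) p, ?_⟩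
      simp only [Scheme.Hom.comp_apply, Category.assoc]
    have h3 : LocallyOfFiniteType ((((u ≫ pullback.fst j j) ≫ z) ≫ asMap a b (hn n e) H.hom) ≫
        prS a b (hn n e) S ≫ sS) := by
      have e1 : (((u ≫ pullback.fst j j) ≫ z) ≫ asMap a b (hn n e) H.hom) ≫ prS a b (hn n e) S ≫ sS =
          u ≫ pullback.fst j j ≫ j ≫ prS a b (hn n e) S ≫ sS := by
        simp only [j, Category.assoc]
      rw [e1]
      infer_instance
    exact eq_of_asMap sS hΦ he hb ha king _ _ (hz.comp _) (hz.comp _) h1 h2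
  exact (mono_iff_fst_eq_snd (pullbackIsPullback j j)).2 key

variable (D f) in
include hΦ he hb ha king in
/-- **The scheme `R`.** -/
theorem exists_R [IsProper H.hom] :
    ∃ (R : Scheme.{u}) (z : R ⟶ AS a b (hn n e) H.left), IsRep sS D f z ∧
      IsImmersion (z ≫ asMap a b (hn n e) H.hom) ∧
      ∃ C : Set (AS a b (hn n e) S), IsClosed C ∧ Set.range (z ≫ asMap a b (hn n e) H.hom) = C ∩ ssOpen sS f := by
  have hKN : IsLocallyNoetherian (Spec (CommRingCat.of K)) := isLocallyNoetherian_Spec.2 inferInstance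
  have hSN : IsLocallyNoetherian S := LocallyOfFiniteType.isLocallyNoetherian sS
  have hHN : IsLocallyNoetherian H.left := LocallyOfFiniteType.isLocallyNoetherian H.hom
  obtain ⟨Z, i, hi, hZN, hZ, hZu⟩ := exists_closedR D hΦ he b
  let U := ssOpen sS f
  let p := i ≫ asMap a b (hn n e) H.hom
  have hpr : IsProper (asMap a b (hn n e) H.hom) :=
    MorphismProperty.of_isPullback (P := @IsProper)
      (AffineSpace.isPullback_map (n := ULift.{u} (Idx a b (hn n e))) H.hom).flip inferInstance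
  have hp : IsProper p := inferInstanceAs (IsProper (i ≫ asMap a b (hn n e) H.hom))
  let z : (p ⁻¹ᵁ U).toScheme ⟶ AS a b (hn n e) H.left := (p ⁻¹ᵁ U).ι ≫ i
  have hcnd : Cnd D z := hZ.comp _
  have hzp : z ≫ asMap a b (hn n e) H.hom = (p ∣_ U) ≫ U.ι := by
    rw [morphismRestrict_ι, Category.assoc]
  have hrange : Set.range (z ≫ asMap a b (hn n e) H.hom) ⊆ U := by
    rintro _ ⟨x, rfl⟩
    rw [Category.assoc, Scheme.Hom.comp_apply]
    exact x.2
  have hzmono : Mono z := inferInstanceAs (Mono ((p ⁻¹ᵁ U).ι ≫ i))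
  have hm : Mono (z ≫ asMap a b (hn n e) H.hom) := by
    have : LocallyOfFiniteType (z ≫ asMap a b (hn n e) H.hom) :=
      inferInstanceAs (LocallyOfFiniteType (((p ⁻¹ᵁ U).ι ≫ i) ≫ asMap a b (hn n e) H.hom))
    exact mono_asMap sS hΦ he hb ha king z hcnd hrange
  have hcl : IsClosedImmersion (p ∣_ U) := by
    rw [IsClosedImmersion.iff_isProper_and_mono]
    refine ⟨inferInstance, ?_⟩
    rw [hzp] at hm
    exact mono_of_mono (p ∣_ U) U.ι
  refine ⟨_, z, ⟨?_, ?_, hcnd, hrange, ?_⟩, ?_, ?_⟩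
  · exact isLocallyNoetherian_of_isOpenImmersion (p ⁻¹ᵁ U).ι
  · exact inferInstanceAs (IsImmersion ((p ⁻¹ᵁ U).ι ≫ i))
  · intro T _ x hx hxr
    obtain ⟨y, hy⟩ := (hZu x inferInstance).1 hx
    have hr : Set.range y ⊆ Set.range (p ⁻¹ᵁ U).ι := by
      rw [Scheme.Opens.range_ι]
      rintro _ ⟨t, rfl⟩
      change p (y t) ∈ U
      have h1 : p (y t) = (x ≫ asMap a b (hn n e) H.hom) t := by
        rw [← hy]
        simp only [p, Category.assoc, Scheme.Hom.comp_apply]
      rw [h1]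
      exact hxr ⟨t, rfl⟩
    refine ⟨IsOpenImmersion.lift (p ⁻¹ᵁ U).ι y hr, ?_⟩
    change _ ≫ (p ⁻¹ᵁ U).ι ≫ i = x
    rw [← Category.assoc, IsOpenImmersion.lift_fac, hy]
  · rw [hzp]
    infer_instance
  · obtain ⟨C, hC, hC'⟩ := (U.ι.isOpenEmbedding.isInducing.isClosed_iff).1
      (p ∣_ U).isClosedEmbedding.isClosed_range
    refine ⟨C, hC, ?_⟩
    rw [hzp]
    ext x
    constructor
    · rintro ⟨y, rfl⟩
      rw [Scheme.Hom.comp_apply]
      refine ⟨?_, ((p ∣_ U) y).2⟩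
      have : (p ∣_ U) y ∈ U.ι ⁻¹' C := by rw [hC']; exact ⟨y, rfl⟩
      exact this
    · rintro ⟨h1, h2⟩
      have h3 : (⟨x, h2⟩ : U) ∈ U.ι ⁻¹' C := h1
      rw [hC'] at h3
      obtain ⟨y, hy⟩ := h3
      refine ⟨y, ?_⟩
      rw [Scheme.Hom.comp_apply, hy]
      rfl

section Act

omit [IsAlgClosed K] in
lemma sB_comp {B C : CommRingCat.{u}} (φ : B ⟶ C) (t : Spec B ⟶ Spec (CommRingCat.of K)) :
    sB (Spec.map φ ≫ t) = φ.hom.comp (sB t) := by
  obtain ⟨χ, rfl⟩ := Spec.map_surjective t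
  rw [← Spec.map_comp, sB_spec, sB_spec, CommRingCat.hom_comp]

variable (D) in
/-- the group acts on the family -/
def QAct : Prop := ∀ (B : CommRingCat.{u}) [IsNoetherianRing B] (v : Spec B ⟶ H.left) (g : Matrix (Fin a) (Fin a) K),
  g.det ≠ 0 → ∃ v' : Spec B ⟶ H.left, v' ≫ H.hom = v ≫ H.hom ∧
    D.L B v' = (D.L B v).comap (gW (g.map (sB (v ≫ H.hom ≫ sS))))

omit [IsAlgClosed K] [LocallyOfFiniteType sS] in
lemma crd_actS {h : ℕ} {T : Scheme.{u}} (x : T ⟶ AS a b h S) (k : Matrix (Fin b) (Fin b) K)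
    (g : Matrix (Fin a) (Fin a) K) :
    crd (x ≫ actS sS k g) = act (k.map (sOf (x ≫ prS a b h S ≫ sS))) (g.map (sOf (x ≫ prS a b h S ≫ sS))) (crd x) := by
  rw [actS, comp_pt, crd_pt, krMap_act, Matrix.map_map, Matrix.map_map, ← crd_comp, Category.comp_id]
  congr 1

omit [IsAlgClosed K] [LocallyOfFiniteType sS] in
lemma actS_prS {h : ℕ} (k : Matrix (Fin b) (Fin b) K) (g : Matrix (Fin a) (Fin a) K) :
    actS sS k g ≫ prS a b h S = prS a b h S := pt_prS _ _

variable [CharZero K] {e₀ : ℕ} (he₀ : 0 < e₀) (hhom : ∀ i, (f i).IsHomogeneous e₀) (hinv : ∀ i, IsInv (f i))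

omit [LocallyOfFiniteType sS] in
include he₀ hhom hinv in
/-- the semistable locus is stable -/
lemma actS_mem_ssOpen (k : Matrix (Fin b) (Fin b) K) (g : Matrix (Fin a) (Fin a) K) (hk : k.det ≠ 0) (hg : g.det ≠ 0)
    {x : AS a b (hn n e) S} (hx : x ∈ ssOpen sS f) : actS sS k g x ∈ ssOpen sS f := by
  obtain ⟨s, t, hst⟩ := K739.KrSemi.exists_weights he₀ hhom hinv
  rw [ssOpen, TopologicalSpace.Opens.mem_iSup] at hx ⊢
  obtain ⟨i, hi⟩ := hx
  refine ⟨i, ?_⟩
  change x ∈ actS sS k g ⁻¹ᵁ (AS a b (hn n e) S).basicOpen (fn sS (f i))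
  rw [Scheme.preimage_basicOpen_top, app_fn]
  have h1 : crd (actS sS k g : AS a b (hn n e) S ⟶ _) = _ := crd_pt _ _
  have h2 : actS sS k g ≫ prS a b (hn n e) S ≫ sS = prS a b (hn n e) S ≫ sS := by
    rw [← Category.assoc, actS_prS]
  rw [h1, hst i _ _ _ _ _, h2, Scheme.basicOpen_mul, Scheme.basicOpen_mul]
  have h3 : ∀ z : K, z ≠ 0 → IsUnit (sOf (prS a b (hn n e) S ≫ sS) z) := fun z hz => (IsUnit.mk0 z hz).map _
  have hu1 : IsUnit ((k.map (sOf (prS a b (hn n e) S ≫ sS))).det ^ s) := by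
    rw [← RingHom.mapMatrix_apply, ← RingHom.map_det]
    exact (h3 _ hk).pow s
  have hu2 : IsUnit ((g.map (sOf (prS a b (hn n e) S ≫ sS))).det ^ t) := by
    rw [← RingHom.mapMatrix_apply, ← RingHom.map_det]
    exact (h3 _ hg).pow t
  rw [Scheme.basicOpen_of_isUnit _ hu1, Scheme.basicOpen_of_isUnit _ hu2, top_inf_eq, top_inf_eq]
  exact hi

omit [LocallyOfFiniteType sS] in
include he₀ hhom hinv in
/-- **`R` is stable under the group.** -/
theorem isStable (hQ : QAct sS D) {R : Scheme.{u}} {z : R ⟶ AS a b (hn n e) H.left} (hz : IsRep sS D f z) :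
    IsStable sS (z ≫ asMap a b (hn n e) H.hom) := by
  intro k g hk hg
  have := hz.noeth
  let v : R ⟶ H.left := z ≫ prS a b (hn n e) H.left
  obtain ⟨y, hy⟩ := GlueAff.exists_glue (T := R) (Y := H.left)
    (Q := fun B _ u w => w ≫ H.hom = (u ≫ v) ≫ H.hom ∧
      D.L B w = (D.L B (u ≫ v)).comap (gW (g.map (sB ((u ≫ v) ≫ H.hom ≫ sS)))))
    (fun B _ u => hQ B (u ≫ v) g hg)
    (fun B _ u w w' h1 h2 => D.inj B _ _ (h1.1.trans h2.1.symm) (h1.2.trans h2.2.symm))
    (fun A B _ _ φ u w h1 => by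
      refine ⟨by rw [Category.assoc, h1.1]; simp only [Category.assoc], ?_⟩
      have e1 : (Spec.map φ ≫ u) ≫ v = Spec.map φ ≫ u ≫ v := Category.assoc _ _ _
      have e2 : ((Spec.map φ ≫ u) ≫ v) ≫ H.hom ≫ sS = Spec.map φ ≫ (u ≫ v) ≫ H.hom ≫ sS := by
        simp only [Category.assoc]
      rw [D.nat, h1.2, e2, e1, D.nat, sB_comp]
      obtain ⟨g', hgg', hg'g⟩ : ∃ g' : Matrix (Fin a) (Fin a) K, g * g' = 1 ∧ g' * g = 1 :=
        ⟨g⁻¹, Matrix.mul_nonsing_inv g (IsUnit.mk0 _ hg), Matrix.nonsing_inv_mul g (IsUnit.mk0 _ hg)⟩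
      let c := sB ((u ≫ v) ≫ H.hom ≫ sS)
      have h3 : g.map c * g'.map c = 1 := by rw [← Matrix.map_mul, hgg', Matrix.map_one _ (map_zero c) (map_one c)]
      have h4 : g'.map c * g.map c = 1 := by rw [← Matrix.map_mul, hg'g, Matrix.map_one _ (map_zero c) (map_one c)]
      rw [bcSat_comap h3 h4, Matrix.map_map]
      rfl)
  have hyH : y ≫ H.hom = v ≫ H.hom := by
    refine GlueAff.hom_ext_aff _ _ fun B _ u _ => ?_
    have := (hy B u).1
    simpa only [Category.assoc] using this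
  let c : K →+* Γ(R, ⊤) := sOf (v ≫ H.hom ≫ sS)
  let x : R ⟶ AS a b (hn n e) H.left := pt y (act (k.map c) (g.map c) (crd z))
  have hx : Cnd D x := by
    intro B _ u w hw
    have e1 : u ≫ x ≫ prS a b (hn n e) H.left = u ≫ y := by rw [pt_prS]
    rw [e1, (hy B u).2, Submodule.mem_comap] at hw
    have e2 : cB (u ≫ x) = act (k.map (sB ((u ≫ v) ≫ H.hom ≫ sS))) (g.map (sB ((u ≫ v) ≫ H.hom ≫ sS)))
        (cB (u ≫ z)) := by
      rw [cB, cB, crd_comp, crd_pt, krMap_act, krMap_act, crd_comp, Category.assoc, sB, sOf_comp]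
      rfl
    rw [e2, alev_act]
    have h1 := hz.cnd B u _ (show gW (g.map (sB ((u ≫ v) ≫ H.hom ≫ sS))) w ∈
      D.L B (u ≫ z ≫ prS a b (hn n e) H.left) from hw)
    rw [h1, Matrix.mulVec_zero]
  have hxa : x ≫ asMap a b (hn n e) H.hom = (z ≫ asMap a b (hn n e) H.hom) ≫ actS sS k g := by
    refine ext_pt ?_ ?_
    · have e4 : ((z ≫ asMap a b (hn n e) H.hom) ≫ actS sS k g) ≫ prS a b (hn n e) S =
          z ≫ prS a b (hn n e) H.left ≫ H.hom := by
        rw [Category.assoc, actS_prS, Category.assoc, asMap_prS]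
      rw [Category.assoc, asMap_prS, ← Category.assoc, pt_prS, hyH, e4]
      simp only [v, Category.assoc]
    · rw [crd_asMap, crd_pt, crd_actS, crd_asMap]
      have e3 : (z ≫ asMap a b (hn n e) H.hom) ≫ prS a b (hn n e) S ≫ sS = v ≫ H.hom ≫ sS := by
        have := asMap_prS (a := a) (b := b) (h := hn n e) H.hom
        simp only [v, Category.assoc]
        rw [← Category.assoc (asMap _ _ _ _), this]
        simp only [Category.assoc]
      rw [e3]
  obtain ⟨γ, hγ⟩ := hz.univ x hx (by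
    rw [hxa]
    rintro _ ⟨t, rfl⟩
    rw [Scheme.Hom.comp_apply]
    exact actS_mem_ssOpen sS he₀ hhom hinv k g hk hg (hz.range ⟨t, rfl⟩))
  refine ⟨γ, ?_⟩
  rw [← Category.assoc, hγ, hxa]

end Act

end K585.RepR
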