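import Groth.Agent.Coherent.K585.Good
import Groth.Agent.Coherent.K739.KrQuot
import Groth.Agent.Coherent.K496.KrKing
import Groth.Agent.Ega3B.ProjProper

/-!
# The scheme `R` and its quotient `M`

* `IsSetup` : `R` with its family, immersed in the space of Kronecker modules, stable, and its quotient `π : R ⟶ M`;
* `exists_setup` : existence.
-/

set_option autoImplicit false

universe u v

open CategoryTheory CategoryTheory.Limits AlgebraicGeometry Opposite MvPolynomial

namespace K585.Setup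

open Groth.Agent Groth.Agent.Fga QA0 QA1 QTDefs QTPull QT4 QT4b QT5 QT6a QT6c QT8 K277.GlobRep K585.KronK K585.Defs
  K585.Good K585.QDQuot K585.PtR K585.RepR K585.ClosedR

variable {k : Type u} [Field k] {n : ℕ} {X S : Scheme.{u}} {f : X ⟶ S} {g₀ : X ⟶ PZ n}
  [IsClosedImmersion (toPS g₀ f)] {sS : S ⟶ Spec (CommRingCat.of k)} {Φ : ℤ → ℤ} {N e a b : ℕ}

/-- `R` with its family and its quotient. -/
structure IsSetup {m : ℕ} {p : Fin (m + 1) → Poly k a b (hn n e)} (𝓡 : RD f g₀ sS Φ N e a b p) {M : Scheme.{u}}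
    (c : M ⟶ CohB1.ProjSpaceOver m S) (π : 𝓡.R ⟶ M) : Prop where
  king : ∀ α : Kr a b (hn n e) k, (∃ i, evr (RingHom.id k) α (p i) ≠ 0) ↔ IsSS α
  imm : IsImmersion 𝓡.j
  stable : IsStable sS 𝓡.j
  quot : IsQuot sS 𝓡.j c π

omit [IsClosedImmersion (toPS g₀ f)] in
lemma isLocallyNoetherian_base (sS : S ⟶ Spec (CommRingCat.of k)) [LocallyOfFiniteType sS] : IsLocallyNoetherian S := by
  have hKN : IsLocallyNoetherian (Spec (CommRingCat.of k)) := isLocallyNoetherian_Spec.2 inferInstance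
  exact LocallyOfFiniteType.isLocallyNoetherian sS

variable (f g₀) in
include g₀ in
lemma isProper_f : IsProper f := by
  have h1 := Ega3B.ProjProper.isProper_toBase n S
  rw [← toPS_toBase (g₀ := g₀) (f := f)]
  infer_instance

variable (f g₀) in
include f g₀ in
lemma isLocallyNoetherian_X (sS : S ⟶ Spec (CommRingCat.of k)) [LocallyOfFiniteType sS] : IsLocallyNoetherian X := by
  have h1 := isProper_f f g₀
  have h2 := isLocallyNoetherian_base sS
  exact LocallyOfFiniteType.isLocallyNoetherian f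

/-- **Existence of `R` and of its quotient.** -/
theorem exists_setup [IsAlgClosed k] [CharZero k] [LocallyOfFiniteType sS] [QuasiCompact sS] [IsSeparated sS]
    {P : Polynomial ℚ} (G : Good k n P Φ N e a b) :
    ∃ (m : ℕ) (p : Fin (m + 1) → Poly k a b (hn n e)) (𝓡 : RD f g₀ sS Φ N e a b p) (M : Scheme.{u})
      (c : M ⟶ CohB1.ProjSpaceOver m S) (π : 𝓡.R ⟶ M), IsSetup 𝓡 c π := by
  have hSN := isLocallyNoetherian_base sS
  have hXN := isLocallyNoetherian_X f g₀ sS
  have hF : Coh.IsCoh (FN g₀ N a) := isCoh_FN (g₀ := g₀) (N := N) (a := a)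
  obtain ⟨H, ξ, m', c', h1, h2, h3⟩ := exists_part (f := f) (g₀ := g₀) hF (globGen_E0 a N f g₀) G.num
  have hH : IsProper H.hom := by
    have := Ega3B.ProjProper.isProper_toBase m' S
    rw [← h3]
    infer_instance
  obtain ⟨m, e₀, p, ρ, pack⟩ := K496.KrKing.exists_pack k a b (hn n e) G.apos G.bpos
  have hb : (b : ℤ) = Φ (e + N) := by
    have := G.Φ_eq (e + N)
    have h4 := G.hb
    have h5 : ((e + N : ℤ) : ℚ) = ((N + e : ℕ) : ℚ) := by push_cast; ring
    rw [h5, ← h4] at this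
    exact_mod_cast this.symm
  obtain ⟨R, z, hz, himm, hcl⟩ := exists_R sS (qd hF (globGen_E0 a N f g₀) h1) p G.num' G.he hb G.apos pack.king
  let 𝓡 : RD f g₀ sS Φ N e a b p := ⟨H, ξ, h1, hF, R, z, hz⟩
  have hst : IsStable sS 𝓡.j :=
    isStable sS pack.pos pack.hom pack.inv (qact hF (globGen_E0 a N f g₀) (relStable_E0 a N f g₀) h1 sS) hz
  obtain ⟨M, c, π, hq⟩ := K739.KrQuot.exists_quot pack sS 𝓡.j hz.range hcl hst
  exact ⟨m, p, 𝓡, M, c, π, ⟨pack.king, himm, hst, hq⟩⟩

end K585.Setup
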