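import Groth.Agent.Coherent.K585.Fin
import Groth.Agent.Coherent.K585.Degen
import Groth.Agent.Coherent.K585.FamPt

/-!
# The moduli space of semistable sheaves over the complex numbers
-/

set_option autoImplicit false

universe u v

open CategoryTheory CategoryTheory.Limits AlgebraicGeometry Opposite MvPolynomial

namespace K585.Top

open Groth.Agent Groth.Agent.Fga QTDefs QT6a K585.Defs

/-- **There is an atlas with a projective quotient.** -/
theorem atlasEx {S : Scheme.{0}} {sS : S ⟶ Spec (CommRingCat.of ℂ)} [LocallyOfFiniteType sS] [QuasiCompact sS]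
    [IsSeparated sS] {n : ℕ} {X : Scheme.{0}} {i : X ⟶ CohB1.ProjSpaceOver n S} [IsClosedImmersion i]
    {P : Polynomial ℚ} : K53.AsmFin.AtlasEx S sS n X i P := by
  by_cases h : ∃ (s : Spec (CommRingCat.of ℂ) ⟶ S)
      (E : (PicF.XT (i ≫ (CohB1.ProjSpaceOver n S ↘ S)) (Over.mk s)).Modules), s ≫ sS = 𝟙 _ ∧
        @SSh ℂ _ n _ (ovr (i ≫ (CohB1.ProjSpaceOver n S ↘ S)) s)
          (gT (i ≫ (CohB1.ProjSpaceOver n S ↘ S)) (i ≫ prZ n S) (Over.mk s)) P E
  · obtain ⟨s, E, -, hE⟩ := h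
    exact K585.Fin.atlasEx_of_ssh (fun 𝓡 G king =>
      ⟨K585.FamPt.adm_R 𝓡 G king, fun x hs => K585.FamPt.frame_pt 𝓡 G king x hs⟩) hE
  · exact K585.Degen.atlasEx_of_not fun s E hs hE => h ⟨s, E, hs, hE⟩

end K585.Top
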